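import Mathlib
import Cfsg.Agent.Lib.OutAut.InvCheck.E8.Data
import Cfsg.Agent.Lib.OutAut.InvCheck.Fast

/-!
Part 0 of the certificate for the involutions of `E8` in characteristic two.
-/

set_option autoImplicit false
set_option maxRecDepth 100000
set_option maxHeartbeats 0

noncomputable section

namespace CfsgLib.OutAut.InvCheck.E8

open Cfsg.Lie CfsgLib.Chevalley

/-- A tree. -/
def tree366 : Tree :=
  .split 223 (.split 224 (.split 225 (.kill 226 227 120 1 1 (.split 228 (.split 229 (.split 230 (.split 231 (.split 232 (.split 233 (.split 234 (.split 235 (.split 236 (.split 237 (.kill 238 239 120 1 1 (.hub 1)) (.kill 238 239 120 1 1 (.hub 73))) (.kill 123 237 236 1 1 (.kill 238 239 120 1 1 (.hub 72)))) (.kill 126 236 235 1 1 (.kill 127 237 235 1 1 (.kill 238 239 120 1 1 (.hub 74))))) (.kill 130 235 234 1 1 (.kill 131 236 234 1 1 (.kill 132 237 234 1 1 (.kill 238 239 120 1 1 (.hub 76)))))) (.kill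 135 234 233 1 1 (.kill 136 235 233 1 1 (.kill 137 236 233 1 1 (.kill 138 237 233 1 1 (.kill 238 239 120 1 1 (.hub 79))))))) (.split 233 (.kill 141 234 232 1 1 (.kill 142 235 232 1 1 (.kill 143 236 232 1 1 (.kill 144 237 232 1 1 (.kill 238 239 120 1 1 (.hub 102)))))) (.kill 141 234 232 1 1 (.kill 142 235 232 1 1 (.kill 143 236 232 1 1 (.kill 144 237 232 1 1 (.kill 238 239 120 1 1 (.hub 142)))))))) (.kill 135 232 231 1 1 (.zero 239 120 238 1 1 (.kill 141 233 231 1 1 (.split 234 (.kill 147 235 231 1 1 (.kill 148 236 231 1 1 (.kill 149 237 231 1 1 (.kill 238 239 120 1 1 (.hub 145))))) (.kill 147 235 231 1 1 (.kill 148 236 231 1 1 (.kill 149 237 231 1 1 (.kill 238 239 120 1 1 (.hub 177)))))))))) (.kill 130 231 230 1 1 (.zero 239 120 238 1 1 (.kill 136 232 230 1 1 (.zero 239 120 238 1 1 (.kill 142 233 230 1 1 (.kill 147 234 230 1 1 (.split 235 (.kill 152 236 230 1 1 (.kill 153 237 230 1 1 (.kill 238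 239 120 1 1 (.hub 199)))) (.kill 152 236 230 1 1 (.kill 153 237 230 1 1 (.kill 238 239 120 1 1 (.hub 230)))))))))))) (.kill 126 230 229 1 1 (.zero 239 120 238 1 1 (.kill 131 231 229 1 1 (.zero 239 120 238 1 1 (.kill 137 232 229 1 1 (.zero 239 120 238 1 1 (.kill 143 233 229 1 1 (.kill 148 234 229 1 1 (.kill 152 235 229 1 1 (.split 236 (.kill 156 237 229 1 1 (.kill 238 239 120 1 1 (.hub 252))) (.kill 156 237 229 1 1 (.kill 238 239 120 1 1 (.hub 283)))))))))))))) (.kill 123 229 228 1 1 (.zero 239 120 238 1 1 (.kill 127 230 228 1 1 (.zero 239 120 238 1 1 (.kill 132 231 228 1 1 (.zero 239 120 238 1 1 (.kill 138 232 228 1 1 (.zero 239 120 238 1 1 (.kill 144 233 228 1 1 (.kill 149 234 228 1 1 (.kill 153 235 228 1 1 (.kill 156 236 228 1 1 (.split 237 (.kill 238 239 120 1 1 (.hub 306)) (.kill 238 239 120 1 1 (.hub 307))))))))))))))))) (.kill 226 227 120 1 1 (.split 228 (.split 229 (.split 230 (.split 231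 (.split 232 (.kill 162 233 225 1 1 (.kill 163 234 225 1 1 (.kill 164 235 225 1 1 (.kill 165 236 225 1 1 (.kill 166 237 225 1 1 (.kill 238 239 120 1 1 (.hub 311))))))) (.kill 162 233 225 1 1 (.kill 163 234 225 1 1 (.kill 164 235 225 1 1 (.kill 165 236 225 1 1 (.kill 166 237 225 1 1 (.kill 238 239 120 1 1 (.hub 312)))))))) (.kill 135 232 231 1 1 (.zero 239 120 238 1 1 (.kill 162 233 225 1 1 (.kill 163 234 225 1 1 (.kill 164 235 225 1 1 (.kill 165 236 225 1 1 (.kill 166 237 225 1 1 (.kill 238 239 120 1 1 (.hub 313)))))))))) (.kill 130 231 230 1 1 (.zero 239 120 238 1 1 (.kill 136 232 230 1 1 (.zero 239 120 238 1 1 (.kill 162 233 225 1 1 (.kill 163 234 225 1 1 (.kill 164 235 225 1 1 (.kill 165 236 225 1 1 (.kill 166 237 225 1 1 (.kill 238 239 120 1 1 (.hub 314)))))))))))) (.kill 126 230 229 1 1 (.zero 239 120 238 1 1 (.kill 131 231 229 1 1 (.zero 239 120 238 1 1 (.kill 137 232 229 1 1 (.zero 239 120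 238 1 1 (.kill 162 233 225 1 1 (.kill 163 234 225 1 1 (.kill 164 235 225 1 1 (.kill 165 236 225 1 1 (.kill 166 237 225 1 1 (.kill 238 239 120 1 1 (.hub 315)))))))))))))) (.kill 123 229 228 1 1 (.zero 239 120 238 1 1 (.kill 127 230 228 1 1 (.zero 239 120 238 1 1 (.kill 132 231 228 1 1 (.zero 239 120 238 1 1 (.kill 138 232 228 1 1 (.zero 239 120 238 1 1 (.kill 162 233 225 1 1 (.kill 163 234 225 1 1 (.kill 164 235 225 1 1 (.kill 165 236 225 1 1 (.kill 166 237 225 1 1 (.kill 238 239 120 1 1 (.hub 340)))))))))))))))))) (.kill 141 225 224 1 1 (.zero 239 120 238 1 1 (.kill 226 227 120 1 1 (.split 228 (.split 229 (.split 230 (.kill 162 231 224 1 1 (.kill 163 232 224 1 1 (.split 233 (.split 234 (.kill 169 235 224 1 1 (.kill 170 236 224 1 1 (.kill 171 237 224 1 1 (.kill 238 239 120 1 1 (.hub 344))))) (.kill 169 235 224 1 1 (.kill 170 236 224 1 1 (.kill 171 237 224 1 1 (.kill 238 239 120 1 1 (.hub 345))))))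 (.kill 135 234 233 1 1 (.kill 169 235 224 1 1 (.kill 170 236 224 1 1 (.kill 171 237 224 1 1 (.kill 238 239 120 1 1 (.hub 346))))))))) (.kill 162 231 224 1 1 (.kill 163 232 224 1 1 (.kill 142 233 230 1 1 (.kill 147 234 230 1 1 (.kill 169 235 224 1 1 (.kill 170 236 224 1 1 (.kill 171 237 224 1 1 (.kill 238 239 120 1 1 (.hub 349)))))))))) (.kill 126 230 229 1 1 (.zero 239 120 238 1 1 (.kill 162 231 224 1 1 (.kill 163 232 224 1 1 (.kill 143 233 229 1 1 (.kill 148 234 229 1 1 (.kill 169 235 224 1 1 (.kill 170 236 224 1 1 (.kill 171 237 224 1 1 (.kill 238 239 120 1 1 (.hub 350)))))))))))) (.kill 123 229 228 1 1 (.zero 239 120 238 1 1 (.kill 127 230 228 1 1 (.zero 239 120 238 1 1 (.kill 162 231 224 1 1 (.kill 163 232 224 1 1 (.kill 144 233 228 1 1 (.kill 149 234 228 1 1 (.kill 169 235 224 1 1 (.kill 170 236 224 1 1 (.kill 171 237 224 1 1 (.kill 238 239 120 1 1 (.hub 352)))))))))))))))))) (.kill 130 224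 223 1 1 (.zero 239 120 238 1 1 (.kill 142 225 223 1 1 (.zero 239 120 238 1 1 (.kill 226 227 120 1 1 (.split 228 (.split 229 (.kill 162 230 223 1 1 (.split 231 (.kill 164 232 223 1 1 (.split 233 (.kill 169 234 223 1 1 (.split 235 (.kill 174 236 223 1 1 (.kill 175 237 223 1 1 (.kill 238 239 120 1 1 (.hub 356)))) (.kill 174 236 223 1 1 (.kill 175 237 223 1 1 (.kill 238 239 120 1 1 (.hub 357)))))) (.kill 169 234 223 1 1 (.kill 136 235 233 1 1 (.kill 174 236 223 1 1 (.kill 175 237 223 1 1 (.kill 238 239 120 1 1 (.hub 358)))))))) (.kill 164 232 223 1 1 (.kill 141 233 231 1 1 (.kill 169 234 223 1 1 (.kill 147 235 231 1 1 (.kill 174 236 223 1 1 (.kill 175 237 223 1 1 (.kill 238 239 120 1 1 (.hub 361)))))))))) (.kill 162 230 223 1 1 (.kill 131 231 229 1 1 (.zero 239 120 238 1 1 (.kill 164 232 223 1 1 (.kill 143 233 229 1 1 (.kill 169 234 223 1 1 (.kill 152 235 229 1 1 (.kill 174 236 223 1 1 (.kill 175 237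 223 1 1 (.kill 238 239 120 1 1 (.hub 363)))))))))))) (.kill 123 229 228 1 1 (.zero 239 120 238 1 1 (.kill 162 230 223 1 1 (.kill 132 231 228 1 1 (.zero 239 120 238 1 1 (.kill 164 232 223 1 1 (.kill 144 233 228 1 1 (.kill 169 234 223 1 1 (.kill 153 235 228 1 1 (.kill 174 236 223 1 1 (.kill 175 237 223 1 1 (.kill 238 239 120 1 1 (.hub 365)))))))))))))))))))

/-- A tree. -/
def tree614 : Tree :=
  .split 217 (.split 218 (.kill 219 220 120 1 1 (.split 221 (.split 222 (.hub 366) (.kill 126 223 222 1 1 (.zero 239 120 238 1 1 (.kill 131 224 222 1 1 (.zero 239 120 238 1 1 (.kill 143 225 222 1 1 (.zero 239 120 238 1 1 (.kill 226 227 120 1 1 (.split 228 (.kill 162 229 222 1 1 (.split 230 (.split 231 (.kill 165 232 222 1 1 (.split 233 (.kill 170 234 222 1 1 (.kill 174 235 222 1 1 (.split 236 (.kill 178 237 222 1 1 (.kill 238 239 120 1 1 (.hub 370))) (.kill 178 237 222 1 1 (.kill 238 239 120 1 1 (.hub 371))))))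 (.kill 170 234 222 1 1 (.kill 174 235 222 1 1 (.kill 137 236 233 1 1 (.kill 178 237 222 1 1 (.kill 238 239 120 1 1 (.hub 372)))))))) (.kill 165 232 222 1 1 (.kill 141 233 231 1 1 (.kill 170 234 222 1 1 (.kill 174 235 222 1 1 (.kill 148 236 231 1 1 (.kill 178 237 222 1 1 (.kill 238 239 120 1 1 (.hub 373))))))))) (.kill 130 231 230 1 1 (.zero 239 120 238 1 1 (.kill 165 232 222 1 1 (.kill 142 233 230 1 1 (.kill 170 234 222 1 1 (.kill 174 235 222 1 1 (.kill 152 236 230 1 1 (.kill 178 237 222 1 1 (.kill 238 239 120 1 1 (.hub 375)))))))))))) (.kill 162 229 222 1 1 (.kill 127 230 228 1 1 (.zero 239 120 238 1 1 (.kill 132 231 228 1 1 (.zero 239 120 238 1 1 (.kill 165 232 222 1 1 (.kill 144 233 228 1 1 (.kill 170 234 222 1 1 (.kill 174 235 222 1 1 (.kill 156 236 228 1 1 (.kill 178 237 222 1 1 (.kill 238 239 120 1 1 (.hub 398)))))))))))))))))))))) (.kill 123 222 221 1 1 (.zero 239 120 238 1 1 (.kill 127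 223 221 1 1 (.zero 239 120 238 1 1 (.kill 132 224 221 1 1 (.zero 239 120 238 1 1 (.kill 144 225 221 1 1 (.zero 239 120 238 1 1 (.kill 226 227 120 1 1 (.kill 162 228 221 1 1 (.split 229 (.split 230 (.split 231 (.kill 166 232 221 1 1 (.split 233 (.kill 171 234 221 1 1 (.kill 175 235 221 1 1 (.kill 178 236 221 1 1 (.split 237 (.kill 238 239 120 1 1 (.hub 402)) (.kill 238 239 120 1 1 (.hub 403)))))) (.kill 171 234 221 1 1 (.kill 175 235 221 1 1 (.kill 178 236 221 1 1 (.kill 138 237 233 1 1 (.kill 238 239 120 1 1 (.hub 428)))))))) (.kill 166 232 221 1 1 (.kill 141 233 231 1 1 (.kill 171 234 221 1 1 (.kill 175 235 221 1 1 (.kill 178 236 221 1 1 (.kill 149 237 231 1 1 (.kill 238 239 120 1 1 (.hub 430))))))))) (.kill 130 231 230 1 1 (.zero 239 120 238 1 1 (.kill 166 232 221 1 1 (.kill 142 233 230 1 1 (.kill 171 234 221 1 1 (.kill 175 235 221 1 1 (.kill 178 236 221 1 1 (.kill 153 237 230 1 1 (.kill 238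 239 120 1 1 (.hub 432))))))))))) (.kill 126 230 229 1 1 (.zero 239 120 238 1 1 (.kill 131 231 229 1 1 (.zero 239 120 238 1 1 (.kill 166 232 221 1 1 (.kill 143 233 229 1 1 (.kill 171 234 221 1 1 (.kill 175 235 221 1 1 (.kill 178 236 221 1 1 (.kill 156 237 229 1 1 (.kill 238 239 120 1 1 (.hub 455))))))))))))))))))))))))) (.kill 219 220 120 1 1 (.split 221 (.split 222 (.kill 135 223 218 1 1 (.zero 239 120 238 1 1 (.kill 136 224 218 1 1 (.zero 239 120 238 1 1 (.kill 147 225 218 1 1 (.zero 239 120 238 1 1 (.kill 226 227 120 1 1 (.split 228 (.split 229 (.kill 163 230 218 1 1 (.kill 164 231 218 1 1 (.split 232 (.kill 169 233 218 1 1 (.split 234 (.split 235 (.kill 184 236 218 1 1 (.kill 185 237 218 1 1 (.kill 238 239 120 1 1 (.hub 477)))) (.kill 184 236 218 1 1 (.kill 185 237 218 1 1 (.kill 238 239 120 1 1 (.hub 478))))) (.kill 130 235 234 1 1 (.kill 184 236 218 1 1 (.kill 185 237 218 1 1 (.kill 238 239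 120 1 1 (.hub 479))))))) (.kill 169 233 218 1 1 (.kill 141 234 232 1 1 (.kill 142 235 232 1 1 (.kill 184 236 218 1 1 (.kill 185 237 218 1 1 (.kill 238 239 120 1 1 (.hub 482)))))))))) (.kill 163 230 218 1 1 (.kill 164 231 218 1 1 (.kill 137 232 229 1 1 (.zero 239 120 238 1 1 (.kill 169 233 218 1 1 (.kill 148 234 229 1 1 (.kill 152 235 229 1 1 (.kill 184 236 218 1 1 (.kill 185 237 218 1 1 (.kill 238 239 120 1 1 (.hub 485)))))))))))) (.kill 123 229 228 1 1 (.zero 239 120 238 1 1 (.kill 163 230 218 1 1 (.kill 164 231 218 1 1 (.kill 138 232 228 1 1 (.zero 239 120 238 1 1 (.kill 169 233 218 1 1 (.kill 149 234 228 1 1 (.kill 153 235 228 1 1 (.kill 184 236 218 1 1 (.kill 185 237 218 1 1 (.kill 238 239 120 1 1 (.hub 488))))))))))))))))))))) (.kill 135 223 218 1 1 (.zero 239 120 238 1 1 (.kill 136 224 218 1 1 (.zero 239 120 238 1 1 (.kill 147 225 218 1 1 (.zero 239 120 238 1 1 (.kill 226 227 120 1 1 (.split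 228 (.kill 162 229 222 1 1 (.kill 163 230 218 1 1 (.kill 164 231 218 1 1 (.kill 165 232 222 1 1 (.kill 169 233 218 1 1 (.kill 170 234 222 1 1 (.kill 174 235 222 1 1 (.kill 184 236 218 1 1 (.kill 185 237 218 1 1 (.kill 238 239 120 1 1 (.hub 492))))))))))) (.kill 162 229 222 1 1 (.kill 163 230 218 1 1 (.kill 164 231 218 1 1 (.kill 165 232 222 1 1 (.kill 169 233 218 1 1 (.kill 170 234 222 1 1 (.kill 174 235 222 1 1 (.kill 184 236 218 1 1 (.kill 185 237 218 1 1 (.kill 238 239 120 1 1 (.hub 524)))))))))))))))))))) (.kill 123 222 221 1 1 (.zero 239 120 238 1 1 (.kill 135 223 218 1 1 (.zero 239 120 238 1 1 (.kill 136 224 218 1 1 (.zero 239 120 238 1 1 (.kill 147 225 218 1 1 (.zero 239 120 238 1 1 (.kill 226 227 120 1 1 (.kill 162 228 221 1 1 (.split 229 (.kill 163 230 218 1 1 (.kill 164 231 218 1 1 (.kill 166 232 221 1 1 (.kill 169 233 218 1 1 (.kill 171 234 221 1 1 (.kill 175 235 221 1 1 (.kill 184 236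 218 1 1 (.kill 185 237 218 1 1 (.kill 238 239 120 1 1 (.hub 528)))))))))) (.kill 163 230 218 1 1 (.kill 164 231 218 1 1 (.kill 166 232 221 1 1 (.kill 169 233 218 1 1 (.kill 171 234 221 1 1 (.kill 175 235 221 1 1 (.kill 184 236 218 1 1 (.kill 185 237 218 1 1 (.kill 238 239 120 1 1 (.hub 549)))))))))))))))))))))))) (.kill 126 218 217 1 1 (.zero 239 120 238 1 1 (.kill 219 220 120 1 1 (.split 221 (.kill 135 222 217 1 1 (.zero 239 120 238 1 1 (.split 223 (.kill 137 224 217 1 1 (.zero 239 120 238 1 1 (.kill 148 225 217 1 1 (.zero 239 120 238 1 1 (.kill 226 227 120 1 1 (.split 228 (.kill 163 229 217 1 1 (.split 230 (.kill 165 231 217 1 1 (.split 232 (.kill 170 233 217 1 1 (.split 234 (.kill 184 235 217 1 1 (.split 236 (.kill 188 237 217 1 1 (.kill 238 239 120 1 1 (.hub 570))) (.kill 188 237 217 1 1 (.kill 238 239 120 1 1 (.hub 571))))) (.kill 184 235 217 1 1 (.kill 131 236 234 1 1 (.kill 188 237 217 1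 1 (.kill 238 239 120 1 1 (.hub 572))))))) (.kill 170 233 217 1 1 (.kill 141 234 232 1 1 (.kill 184 235 217 1 1 (.kill 143 236 232 1 1 (.kill 188 237 217 1 1 (.kill 238 239 120 1 1 (.hub 573))))))))) (.kill 165 231 217 1 1 (.kill 136 232 230 1 1 (.zero 239 120 238 1 1 (.kill 170 233 217 1 1 (.kill 147 234 230 1 1 (.kill 184 235 217 1 1 (.kill 152 236 230 1 1 (.kill 188 237 217 1 1 (.kill 238 239 120 1 1 (.hub 576)))))))))))) (.kill 163 229 217 1 1 (.kill 127 230 228 1 1 (.zero 239 120 238 1 1 (.kill 165 231 217 1 1 (.kill 138 232 228 1 1 (.zero 239 120 238 1 1 (.kill 170 233 217 1 1 (.kill 149 234 228 1 1 (.kill 184 235 217 1 1 (.kill 156 236 228 1 1 (.kill 188 237 217 1 1 (.kill 238 239 120 1 1 (.hub 579))))))))))))))))))) (.kill 137 224 217 1 1 (.zero 239 120 238 1 1 (.kill 148 225 217 1 1 (.zero 239 120 238 1 1 (.kill 226 227 120 1 1 (.split 228 (.kill 163 229 217 1 1 (.kill 162 230 223 1 1 (.kill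 165 231 217 1 1 (.kill 164 232 223 1 1 (.kill 170 233 217 1 1 (.kill 169 234 223 1 1 (.kill 184 235 217 1 1 (.kill 174 236 223 1 1 (.kill 188 237 217 1 1 (.kill 238 239 120 1 1 (.hub 583))))))))))) (.kill 163 229 217 1 1 (.kill 162 230 223 1 1 (.kill 165 231 217 1 1 (.kill 164 232 223 1 1 (.kill 170 233 217 1 1 (.kill 169 234 223 1 1 (.kill 184 235 217 1 1 (.kill 174 236 223 1 1 (.kill 188 237 217 1 1 (.kill 238 239 120 1 1 (.hub 605)))))))))))))))))))) (.kill 135 222 217 1 1 (.zero 239 120 238 1 1 (.kill 127 223 221 1 1 (.zero 239 120 238 1 1 (.kill 137 224 217 1 1 (.zero 239 120 238 1 1 (.kill 148 225 217 1 1 (.zero 239 120 238 1 1 (.kill 226 227 120 1 1 (.kill 162 228 221 1 1 (.kill 163 229 217 1 1 (.split 230 (.kill 165 231 217 1 1 (.kill 166 232 221 1 1 (.kill 170 233 217 1 1 (.kill 171 234 221 1 1 (.kill 184 235 217 1 1 (.kill 178 236 221 1 1 (.kill 188 237 217 1 1 (.kill 238 239 120 1 1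 (.hub 609))))))))) (.kill 165 231 217 1 1 (.kill 166 232 221 1 1 (.kill 170 233 217 1 1 (.kill 171 234 221 1 1 (.kill 184 235 217 1 1 (.kill 178 236 221 1 1 (.kill 188 237 217 1 1 (.kill 238 239 120 1 1 (.hub 613)))))))))))))))))))))))))

/-- A tree. -/
def tree859 : Tree :=
  .split 213 (.kill 214 215 120 1 1 (.split 216 (.hub 614) (.kill 123 217 216 1 1 (.zero 239 120 238 1 1 (.kill 127 218 216 1 1 (.zero 239 120 238 1 1 (.kill 219 220 120 1 1 (.kill 135 221 216 1 1 (.zero 239 120 238 1 1 (.split 222 (.split 223 (.kill 138 224 216 1 1 (.zero 239 120 238 1 1 (.kill 149 225 216 1 1 (.zero 239 120 238 1 1 (.kill 226 227 120 1 1 (.kill 163 228 216 1 1 (.split 229 (.split 230 (.kill 166 231 216 1 1 (.split 232 (.kill 171 233 216 1 1 (.split 234 (.kill 185 235 216 1 1 (.kill 188 236 216 1 1 (.split 237 (.kill 238 239 120 1 1 (.hub 636)) (.kill 238 239 120 1 1 (.hub 637))))) (.kill 185 235 216 1 1 (.kill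 188 236 216 1 1 (.kill 132 237 234 1 1 (.kill 238 239 120 1 1 (.hub 662))))))) (.kill 171 233 216 1 1 (.kill 141 234 232 1 1 (.kill 185 235 216 1 1 (.kill 188 236 216 1 1 (.kill 144 237 232 1 1 (.kill 238 239 120 1 1 (.hub 664))))))))) (.kill 166 231 216 1 1 (.kill 136 232 230 1 1 (.zero 239 120 238 1 1 (.kill 171 233 216 1 1 (.kill 147 234 230 1 1 (.kill 185 235 216 1 1 (.kill 188 236 216 1 1 (.kill 153 237 230 1 1 (.kill 238 239 120 1 1 (.hub 667))))))))))) (.kill 126 230 229 1 1 (.zero 239 120 238 1 1 (.kill 166 231 216 1 1 (.kill 137 232 229 1 1 (.zero 239 120 238 1 1 (.kill 171 233 216 1 1 (.kill 148 234 229 1 1 (.kill 185 235 216 1 1 (.kill 188 236 216 1 1 (.kill 156 237 229 1 1 (.kill 238 239 120 1 1 (.hub 670))))))))))))))))))) (.kill 138 224 216 1 1 (.zero 239 120 238 1 1 (.kill 149 225 216 1 1 (.zero 239 120 238 1 1 (.kill 226 227 120 1 1 (.kill 163 228 216 1 1 (.split 229 (.kill 162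 230 223 1 1 (.kill 166 231 216 1 1 (.kill 164 232 223 1 1 (.kill 171 233 216 1 1 (.kill 169 234 223 1 1 (.kill 185 235 216 1 1 (.kill 188 236 216 1 1 (.kill 175 237 223 1 1 (.kill 238 239 120 1 1 (.hub 674)))))))))) (.kill 162 230 223 1 1 (.kill 166 231 216 1 1 (.kill 164 232 223 1 1 (.kill 171 233 216 1 1 (.kill 169 234 223 1 1 (.kill 185 235 216 1 1 (.kill 188 236 216 1 1 (.kill 175 237 223 1 1 (.kill 238 239 120 1 1 (.hub 697)))))))))))))))))) (.kill 126 223 222 1 1 (.zero 239 120 238 1 1 (.kill 138 224 216 1 1 (.zero 239 120 238 1 1 (.kill 149 225 216 1 1 (.zero 239 120 238 1 1 (.kill 226 227 120 1 1 (.kill 163 228 216 1 1 (.kill 162 229 222 1 1 (.split 230 (.kill 166 231 216 1 1 (.kill 165 232 222 1 1 (.kill 171 233 216 1 1 (.kill 170 234 222 1 1 (.kill 185 235 216 1 1 (.kill 188 236 216 1 1 (.kill 178 237 222 1 1 (.kill 238 239 120 1 1 (.hub 701))))))))) (.kill 166 231 216 1 1 (.kill 165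 232 222 1 1 (.kill 171 233 216 1 1 (.kill 170 234 222 1 1 (.kill 185 235 216 1 1 (.kill 188 236 216 1 1 (.kill 178 237 222 1 1 (.kill 238 239 120 1 1 (.hub 722))))))))))))))))))))))))))))) (.kill 214 215 120 1 1 (.split 216 (.kill 130 217 213 1 1 (.zero 239 120 238 1 1 (.kill 131 218 213 1 1 (.zero 239 120 238 1 1 (.kill 219 220 120 1 1 (.split 221 (.kill 136 222 213 1 1 (.zero 239 120 238 1 1 (.kill 137 223 213 1 1 (.zero 239 120 238 1 1 (.split 224 (.kill 152 225 213 1 1 (.zero 239 120 238 1 1 (.kill 226 227 120 1 1 (.split 228 (.kill 164 229 213 1 1 (.kill 165 230 213 1 1 (.split 231 (.split 232 (.kill 174 233 213 1 1 (.kill 184 234 213 1 1 (.split 235 (.split 236 (.kill 194 237 213 1 1 (.kill 238 239 120 1 1 (.hub 743))) (.kill 194 237 213 1 1 (.kill 238 239 120 1 1 (.hub 744)))) (.kill 126 236 235 1 1 (.kill 194 237 213 1 1 (.kill 238 239 120 1 1 (.hub 745))))))) (.kill 174 233 213 1 1 (.kill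 184 234 213 1 1 (.kill 142 235 232 1 1 (.kill 143 236 232 1 1 (.kill 194 237 213 1 1 (.kill 238 239 120 1 1 (.hub 747)))))))) (.kill 135 232 231 1 1 (.zero 239 120 238 1 1 (.kill 174 233 213 1 1 (.kill 184 234 213 1 1 (.kill 147 235 231 1 1 (.kill 148 236 231 1 1 (.kill 194 237 213 1 1 (.kill 238 239 120 1 1 (.hub 750)))))))))))) (.kill 164 229 213 1 1 (.kill 165 230 213 1 1 (.kill 132 231 228 1 1 (.zero 239 120 238 1 1 (.kill 138 232 228 1 1 (.zero 239 120 238 1 1 (.kill 174 233 213 1 1 (.kill 184 234 213 1 1 (.kill 153 235 228 1 1 (.kill 156 236 228 1 1 (.kill 194 237 213 1 1 (.kill 238 239 120 1 1 (.hub 772))))))))))))))))) (.kill 152 225 213 1 1 (.zero 239 120 238 1 1 (.kill 226 227 120 1 1 (.split 228 (.kill 164 229 213 1 1 (.kill 165 230 213 1 1 (.kill 162 231 224 1 1 (.kill 163 232 224 1 1 (.kill 174 233 213 1 1 (.kill 184 234 213 1 1 (.kill 169 235 224 1 1 (.kill 170 236 224 1 1 (.kill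 194 237 213 1 1 (.kill 238 239 120 1 1 (.hub 776))))))))))) (.kill 164 229 213 1 1 (.kill 165 230 213 1 1 (.kill 162 231 224 1 1 (.kill 163 232 224 1 1 (.kill 174 233 213 1 1 (.kill 184 234 213 1 1 (.kill 169 235 224 1 1 (.kill 170 236 224 1 1 (.kill 194 237 213 1 1 (.kill 238 239 120 1 1 (.hub 798)))))))))))))))))))) (.kill 136 222 213 1 1 (.zero 239 120 238 1 1 (.kill 137 223 213 1 1 (.zero 239 120 238 1 1 (.kill 132 224 221 1 1 (.zero 239 120 238 1 1 (.kill 152 225 213 1 1 (.zero 239 120 238 1 1 (.kill 226 227 120 1 1 (.kill 162 228 221 1 1 (.kill 164 229 213 1 1 (.kill 165 230 213 1 1 (.split 231 (.kill 166 232 221 1 1 (.kill 174 233 213 1 1 (.kill 184 234 213 1 1 (.kill 175 235 221 1 1 (.kill 178 236 221 1 1 (.kill 194 237 213 1 1 (.kill 238 239 120 1 1 (.hub 802)))))))) (.kill 166 232 221 1 1 (.kill 174 233 213 1 1 (.kill 184 234 213 1 1 (.kill 175 235 221 1 1 (.kill 178 236 221 1 1 (.kill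 194 237 213 1 1 (.kill 238 239 120 1 1 (.hub 806))))))))))))))))))))))))))) (.kill 130 217 213 1 1 (.zero 239 120 238 1 1 (.kill 131 218 213 1 1 (.zero 239 120 238 1 1 (.kill 219 220 120 1 1 (.kill 135 221 216 1 1 (.zero 239 120 238 1 1 (.kill 136 222 213 1 1 (.zero 239 120 238 1 1 (.kill 137 223 213 1 1 (.zero 239 120 238 1 1 (.kill 138 224 216 1 1 (.zero 239 120 238 1 1 (.kill 152 225 213 1 1 (.zero 239 120 238 1 1 (.kill 226 227 120 1 1 (.kill 163 228 216 1 1 (.kill 164 229 213 1 1 (.kill 165 230 213 1 1 (.kill 166 231 216 1 1 (.split 232 (.kill 174 233 213 1 1 (.kill 184 234 213 1 1 (.kill 185 235 216 1 1 (.kill 188 236 216 1 1 (.kill 194 237 213 1 1 (.kill 238 239 120 1 1 (.hub 832))))))) (.kill 174 233 213 1 1 (.kill 184 234 213 1 1 (.kill 185 235 216 1 1 (.kill 188 236 216 1 1 (.kill 194 237 213 1 1 (.kill 238 239 120 1 1 (.hub 858))))))))))))))))))))))))))))))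

/-- Trees from index 10. -/
def trees0_0 : List Tree := [
    .weyl 6 0 (.hub 1),
    .weyl 5 0 (.hub 10),
    .weyl 4 0 (.hub 11),
    .weyl 3 0 (.hub 12),
    .weyl 1 0 (.hub 13),
    .weyl 2 0 (.hub 14),
    .weyl 0 0 (.hub 15),
    .weyl 3 0 (.hub 16),
    .weyl 2 0 (.hub 17),
    .weyl 4 0 (.hub 18),
    .weyl 3 0 (.hub 19),
    .weyl 1 0 (.hub 20),
    .weyl 5 0 (.hub 21),
    .weyl 4 0 (.hub 22),
    .weyl 3 0 (.hub 23),
    .weyl 2 0 (.hub 24),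
    .weyl 0 0 (.hub 25),
    .weyl 6 0 (.hub 26),
    .weyl 5 0 (.hub 27),
    .weyl 4 0 (.hub 28),
    .weyl 3 0 (.hub 29),
    .weyl 1 0 (.hub 30),
    .weyl 2 0 (.hub 31),
    .weyl 3 0 (.hub 32),
    .weyl 4 0 (.hub 33),
    .weyl 5 0 (.hub 34),
    .weyl 6 0 (.hub 35),
    .weyl 7 0 (.hub 36),
    .weyl 4 0 (.hub 2),
    .weyl 3 0 (.hub 38),
    .weyl 1 0 (.hub 39),
    .weyl 2 0 (.hub 40),
    .weyl 0 0 (.hub 41),
    .weyl 3 0 (.hub 42),
    .weyl 2 0 (.hub 43),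
    .weyl 4 0 (.hub 44),
    .weyl 3 0 (.hub 45),
    .weyl 1 0 (.hub 46),
    .weyl 6 0 (.hub 47),
    .weyl 5 0 (.hub 48),
    .weyl 4 0 (.hub 49),
    .weyl 3 0 (.hub 50),
    .weyl 1 0 (.hub 51),
    .weyl 2 0 (.hub 52),
    .weyl 3 0 (.hub 53),
    .weyl 4 0 (.hub 54),
    .weyl 5 0 (.hub 55),
    .weyl 6 0 (.hub 56),
    .weyl 7 0 (.hub 57),
    .weyl 6 0 (.hub 58),
    .weyl 5 0 (.hub 59),
    .weyl 4 0 (.hub 60),
    .weyl 3 0 (.hub 61),
    .weyl 1 0 (.hub 62),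
    .weyl 2 0 (.hub 63),
    .weyl 0 0 (.hub 64),
    .weyl 3 0 (.hub 65),
    .weyl 2 0 (.hub 66),
    .weyl 4 0 (.hub 67),
    .weyl 3 0 (.hub 68),
    .weyl 5 0 (.hub 69),
    .weyl 4 0 (.hub 70),
    .weyl 6 0 (.hub 71),
    .weyl 5 0 (.hub 72),
    .weyl 6 0 (.hub 70),
    .weyl 5 0 (.hub 68),
    .weyl 6 0 (.hub 75),
    .weyl 4 0 (.hub 66),
    .weyl 5 0 (.hub 77),
    .weyl 6 0 (.hub 78),
    .weyl 6 0 (.hub 46),
    .weyl 5 0 (.hub 80),
    .weyl 4 0 (.hub 81),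
    .weyl 3 0 (.hub 82),
    .weyl 1 0 (.hub 83),
    .weyl 2 0 (.hub 84),
    .weyl 3 0 (.hub 85),
    .weyl 4 0 (.hub 86),
    .weyl 5 0 (.hub 87),
    .weyl 6 0 (.hub 88),
    .weyl 7 0 (.hub 89),
    .weyl 6 0 (.hub 90),
    .weyl 5 0 (.hub 91),
    .weyl 4 0 (.hub 92),
    .weyl 3 0 (.hub 93),
    .weyl 1 0 (.hub 94),
    .weyl 2 0 (.hub 95),
    .weyl 0 0 (.hub 96),
    .weyl 3 0 (.hub 97),
    .weyl 2 0 (.hub 98),
    .weyl 4 0 (.hub 99),
    .weyl 5 0 (.hub 100),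
    .weyl 6 0 (.hub 101),
    .weyl 1 0 (.hub 3),
    .weyl 2 0 (.hub 103),
    .weyl 0 0 (.hub 104),
    .weyl 4 0 (.hub 105),
    .weyl 3 0 (.hub 106),
    .weyl 1 0 (.hub 107),
    .weyl 2 0 (.hub 108)]

theorem trees0_0_ok : allOK tab simples patterns 10 trees0_0 = true :=
  Fast.allOK_of_fast (by decide +kernel)

/-- Trees from index 110. -/
def trees0_1 : List Tree := [
    .weyl 0 0 (.hub 109),
    .weyl 3 0 (.hub 110),
    .weyl 4 0 (.hub 111),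
    .weyl 5 0 (.hub 112),
    .weyl 6 0 (.hub 113),
    .weyl 5 0 (.hub 114),
    .weyl 4 0 (.hub 115),
    .weyl 3 0 (.hub 116),
    .weyl 1 0 (.hub 117),
    .weyl 2 0 (.hub 118),
    .weyl 3 0 (.hub 119),
    .weyl 4 0 (.hub 120),
    .weyl 5 0 (.hub 121),
    .weyl 6 0 (.hub 122),
    .weyl 7 0 (.hub 123),
    .weyl 6 0 (.hub 124),
    .weyl 5 0 (.hub 125),
    .weyl 4 0 (.hub 126),
    .weyl 3 0 (.hub 127),
    .weyl 1 0 (.hub 128),
    .weyl 2 0 (.hub 129),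
    .weyl 0 0 (.hub 130),
    .weyl 3 0 (.hub 131),
    .weyl 2 0 (.hub 132),
    .weyl 4 0 (.hub 133),
    .weyl 3 0 (.hub 134),
    .weyl 1 0 (.hub 135),
    .weyl 5 0 (.hub 136),
    .weyl 4 0 (.hub 137),
    .weyl 3 0 (.hub 138),
    .weyl 2 0 (.hub 139),
    .weyl 0 0 (.hub 140),
    .weyl 6 0 (.hub 141),
    .weyl 4 0 (.hub 98),
    .weyl 5 0 (.hub 143),
    .weyl 6 0 (.hub 144),
    .weyl 2 0 (.hub 111),
    .weyl 4 0 (.hub 146),
    .weyl 5 0 (.hub 147),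
    .weyl 6 0 (.hub 148),
    .weyl 5 0 (.hub 149),
    .weyl 4 0 (.hub 150),
    .weyl 3 0 (.hub 151),
    .weyl 1 0 (.hub 152),
    .weyl 2 0 (.hub 153),
    .weyl 3 0 (.hub 154),
    .weyl 4 0 (.hub 155),
    .weyl 5 0 (.hub 156),
    .weyl 6 0 (.hub 157),
    .weyl 7 0 (.hub 158),
    .weyl 6 0 (.hub 159),
    .weyl 5 0 (.hub 160),
    .weyl 4 0 (.hub 161),
    .weyl 3 0 (.hub 162),
    .weyl 1 0 (.hub 163),
    .weyl 2 0 (.hub 164),
    .weyl 0 0 (.hub 165),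
    .weyl 3 0 (.hub 166),
    .weyl 2 0 (.hub 167),
    .weyl 4 0 (.hub 168),
    .weyl 3 0 (.hub 169),
    .weyl 1 0 (.hub 170),
    .weyl 5 0 (.hub 171),
    .weyl 4 0 (.hub 172),
    .weyl 3 0 (.hub 173),
    .weyl 2 0 (.hub 174),
    .weyl 0 0 (.hub 175),
    .weyl 6 0 (.hub 176),
    .weyl 6 0 (.hub 45),
    .weyl 5 0 (.hub 178),
    .weyl 4 0 (.hub 179),
    .weyl 3 0 (.hub 180),
    .weyl 1 0 (.hub 181),
    .weyl 2 0 (.hub 182),
    .weyl 3 0 (.hub 183),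
    .weyl 4 0 (.hub 184),
    .weyl 5 0 (.hub 185),
    .weyl 6 0 (.hub 186),
    .weyl 7 0 (.hub 187),
    .weyl 6 0 (.hub 188),
    .weyl 5 0 (.hub 189),
    .weyl 4 0 (.hub 190),
    .weyl 3 0 (.hub 191),
    .weyl 1 0 (.hub 192),
    .weyl 2 0 (.hub 193),
    .weyl 0 0 (.hub 194),
    .weyl 3 0 (.hub 195),
    .weyl 4 0 (.hub 196),
    .weyl 5 0 (.hub 197),
    .weyl 6 0 (.hub 198),
    .weyl 3 0 (.hub 147),
    .weyl 5 0 (.hub 200),
    .weyl 6 0 (.hub 201),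
    .weyl 5 0 (.hub 202),
    .weyl 4 0 (.hub 203),
    .weyl 3 0 (.hub 204),
    .weyl 1 0 (.hub 205),
    .weyl 2 0 (.hub 206),
    .weyl 3 0 (.hub 207),
    .weyl 4 0 (.hub 208)]

theorem trees0_1_ok : allOK tab simples patterns 110 trees0_1 = true :=
  Fast.allOK_of_fast (by decide +kernel)

/-- Trees from index 210. -/
def trees0_2 : List Tree := [
    .weyl 5 0 (.hub 209),
    .weyl 6 0 (.hub 210),
    .weyl 7 0 (.hub 211),
    .weyl 6 0 (.hub 212),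
    .weyl 5 0 (.hub 213),
    .weyl 4 0 (.hub 214),
    .weyl 3 0 (.hub 215),
    .weyl 1 0 (.hub 216),
    .weyl 2 0 (.hub 217),
    .weyl 0 0 (.hub 218),
    .weyl 3 0 (.hub 219),
    .weyl 2 0 (.hub 220),
    .weyl 4 0 (.hub 221),
    .weyl 3 0 (.hub 222),
    .weyl 1 0 (.hub 223),
    .weyl 5 0 (.hub 224),
    .weyl 4 0 (.hub 225),
    .weyl 3 0 (.hub 226),
    .weyl 2 0 (.hub 227),
    .weyl 0 0 (.hub 228),
    .weyl 6 0 (.hub 229),
    .weyl 6 0 (.hub 44),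
    .weyl 5 0 (.hub 231),
    .weyl 4 0 (.hub 232),
    .weyl 3 0 (.hub 233),
    .weyl 1 0 (.hub 234),
    .weyl 2 0 (.hub 235),
    .weyl 3 0 (.hub 236),
    .weyl 4 0 (.hub 237),
    .weyl 5 0 (.hub 238),
    .weyl 6 0 (.hub 239),
    .weyl 7 0 (.hub 240),
    .weyl 6 0 (.hub 241),
    .weyl 5 0 (.hub 242),
    .weyl 4 0 (.hub 243),
    .weyl 3 0 (.hub 244),
    .weyl 1 0 (.hub 245),
    .weyl 2 0 (.hub 246),
    .weyl 0 0 (.hub 247),
    .weyl 3 0 (.hub 248),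
    .weyl 4 0 (.hub 249),
    .weyl 5 0 (.hub 250),
    .weyl 6 0 (.hub 251),
    .weyl 1 0 (.hub 200),
    .weyl 5 0 (.hub 253),
    .weyl 6 0 (.hub 254),
    .weyl 5 0 (.hub 255),
    .weyl 4 0 (.hub 256),
    .weyl 3 0 (.hub 257),
    .weyl 1 0 (.hub 258),
    .weyl 2 0 (.hub 259),
    .weyl 3 0 (.hub 260),
    .weyl 4 0 (.hub 261),
    .weyl 5 0 (.hub 262),
    .weyl 6 0 (.hub 263),
    .weyl 7 0 (.hub 264),
    .weyl 6 0 (.hub 265),
    .weyl 5 0 (.hub 266),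
    .weyl 4 0 (.hub 267),
    .weyl 3 0 (.hub 268),
    .weyl 1 0 (.hub 269),
    .weyl 2 0 (.hub 270),
    .weyl 0 0 (.hub 271),
    .weyl 3 0 (.hub 272),
    .weyl 2 0 (.hub 273),
    .weyl 4 0 (.hub 274),
    .weyl 3 0 (.hub 275),
    .weyl 1 0 (.hub 276),
    .weyl 5 0 (.hub 277),
    .weyl 4 0 (.hub 278),
    .weyl 3 0 (.hub 279),
    .weyl 2 0 (.hub 280),
    .weyl 0 0 (.hub 281),
    .weyl 6 0 (.hub 282),
    .weyl 5 0 (.hub 44),
    .weyl 6 0 (.hub 284),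
    .weyl 5 0 (.hub 285),
    .weyl 4 0 (.hub 286),
    .weyl 3 0 (.hub 287),
    .weyl 1 0 (.hub 288),
    .weyl 2 0 (.hub 289),
    .weyl 3 0 (.hub 290),
    .weyl 4 0 (.hub 291),
    .weyl 5 0 (.hub 292),
    .weyl 6 0 (.hub 293),
    .weyl 7 0 (.hub 294),
    .weyl 6 0 (.hub 295),
    .weyl 5 0 (.hub 296),
    .weyl 4 0 (.hub 297),
    .weyl 3 0 (.hub 298),
    .weyl 1 0 (.hub 299),
    .weyl 2 0 (.hub 300),
    .weyl 0 0 (.hub 301),
    .weyl 3 0 (.hub 302),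
    .weyl 4 0 (.hub 303),
    .weyl 5 0 (.hub 304),
    .weyl 6 0 (.hub 305),
    .weyl 5 0 (.hub 283),
    .weyl 3 0 (.hub 64),
    .weyl 4 0 (.hub 308)]

theorem trees0_2_ok : allOK tab simples patterns 210 trees0_2 = true :=
  Fast.allOK_of_fast (by decide +kernel)

/-- Trees from index 310. -/
def trees0_3 : List Tree := [
    .weyl 5 0 (.hub 309),
    .weyl 6 0 (.hub 310),
    .weyl 6 0 (.hub 140),
    .weyl 6 0 (.hub 139),
    .weyl 6 0 (.hub 138),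
    .weyl 6 0 (.hub 137),
    .weyl 6 0 (.hub 112),
    .weyl 5 0 (.hub 316),
    .weyl 4 0 (.hub 317),
    .weyl 3 0 (.hub 318),
    .weyl 1 0 (.hub 319),
    .weyl 2 0 (.hub 320),
    .weyl 3 0 (.hub 321),
    .weyl 4 0 (.hub 322),
    .weyl 5 0 (.hub 323),
    .weyl 6 0 (.hub 324),
    .weyl 7 0 (.hub 325),
    .weyl 6 0 (.hub 326),
    .weyl 5 0 (.hub 327),
    .weyl 4 0 (.hub 328),
    .weyl 3 0 (.hub 329),
    .weyl 1 0 (.hub 330),
    .weyl 2 0 (.hub 331),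
    .weyl 0 0 (.hub 332),
    .weyl 3 0 (.hub 333),
    .weyl 2 0 (.hub 334),
    .weyl 4 0 (.hub 335),
    .weyl 3 0 (.hub 336),
    .weyl 1 0 (.hub 337),
    .weyl 5 0 (.hub 338),
    .weyl 6 0 (.hub 339),
    .weyl 3 0 (.hub 96),
    .weyl 4 0 (.hub 341),
    .weyl 5 0 (.hub 342),
    .weyl 6 0 (.hub 343),
    .weyl 6 0 (.hub 175),
    .weyl 6 0 (.hub 174),
    .weyl 5 0 (.hub 135),
    .weyl 4 0 (.hub 347),
    .weyl 6 0 (.hub 348),
    .weyl 6 0 (.hub 347),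
    .weyl 5 0 (.hub 337),
    .weyl 6 0 (.hub 351),
    .weyl 3 0 (.hub 194),
    .weyl 4 0 (.hub 353),
    .weyl 5 0 (.hub 354),
    .weyl 6 0 (.hub 355),
    .weyl 6 0 (.hub 228),
    .weyl 6 0 (.hub 173),
    .weyl 5 0 (.hub 170),
    .weyl 4 0 (.hub 359),
    .weyl 6 0 (.hub 360),
    .weyl 5 0 (.hub 134),
    .weyl 6 0 (.hub 362),
    .weyl 5 0 (.hub 336),
    .weyl 6 0 (.hub 364),
    tree366,
    .weyl 3 0 (.hub 247),
    .weyl 4 0 (.hub 367),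
    .weyl 5 0 (.hub 368),
    .weyl 6 0 (.hub 369),
    .weyl 6 0 (.hub 281),
    .weyl 6 0 (.hub 172),
    .weyl 6 0 (.hub 359),
    .weyl 5 0 (.hub 169),
    .weyl 6 0 (.hub 374),
    .weyl 6 0 (.hub 111),
    .weyl 5 0 (.hub 376),
    .weyl 4 0 (.hub 377),
    .weyl 3 0 (.hub 378),
    .weyl 1 0 (.hub 379),
    .weyl 2 0 (.hub 380),
    .weyl 3 0 (.hub 381),
    .weyl 4 0 (.hub 382),
    .weyl 5 0 (.hub 383),
    .weyl 6 0 (.hub 384),
    .weyl 7 0 (.hub 385),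
    .weyl 6 0 (.hub 386),
    .weyl 5 0 (.hub 387),
    .weyl 4 0 (.hub 388),
    .weyl 3 0 (.hub 389),
    .weyl 1 0 (.hub 390),
    .weyl 2 0 (.hub 391),
    .weyl 0 0 (.hub 392),
    .weyl 3 0 (.hub 393),
    .weyl 2 0 (.hub 394),
    .weyl 4 0 (.hub 395),
    .weyl 5 0 (.hub 396),
    .weyl 6 0 (.hub 397),
    .weyl 3 0 (.hub 301),
    .weyl 4 0 (.hub 399),
    .weyl 5 0 (.hub 400),
    .weyl 6 0 (.hub 401),
    .weyl 5 0 (.hub 371),
    .weyl 6 0 (.hub 147),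
    .weyl 5 0 (.hub 404),
    .weyl 4 0 (.hub 405),
    .weyl 3 0 (.hub 406),
    .weyl 1 0 (.hub 407),
    .weyl 2 0 (.hub 408)]

theorem trees0_3_ok : allOK tab simples patterns 310 trees0_3 = true :=
  Fast.allOK_of_fast (by decide +kernel)

/-- Trees from index 410. -/
def trees0_4 : List Tree := [
    .weyl 3 0 (.hub 409),
    .weyl 4 0 (.hub 410),
    .weyl 5 0 (.hub 411),
    .weyl 6 0 (.hub 412),
    .weyl 7 0 (.hub 413),
    .weyl 6 0 (.hub 414),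
    .weyl 5 0 (.hub 415),
    .weyl 4 0 (.hub 416),
    .weyl 3 0 (.hub 417),
    .weyl 1 0 (.hub 418),
    .weyl 2 0 (.hub 419),
    .weyl 0 0 (.hub 420),
    .weyl 3 0 (.hub 421),
    .weyl 2 0 (.hub 422),
    .weyl 4 0 (.hub 423),
    .weyl 3 0 (.hub 424),
    .weyl 1 0 (.hub 425),
    .weyl 5 0 (.hub 426),
    .weyl 6 0 (.hub 427),
    .weyl 5 0 (.hub 425),
    .weyl 6 0 (.hub 429),
    .weyl 5 0 (.hub 424),
    .weyl 6 0 (.hub 431),
    .weyl 6 0 (.hub 146),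
    .weyl 5 0 (.hub 433),
    .weyl 4 0 (.hub 434),
    .weyl 3 0 (.hub 435),
    .weyl 1 0 (.hub 436),
    .weyl 2 0 (.hub 437),
    .weyl 3 0 (.hub 438),
    .weyl 4 0 (.hub 439),
    .weyl 5 0 (.hub 440),
    .weyl 6 0 (.hub 441),
    .weyl 7 0 (.hub 442),
    .weyl 6 0 (.hub 443),
    .weyl 5 0 (.hub 444),
    .weyl 4 0 (.hub 445),
    .weyl 3 0 (.hub 446),
    .weyl 1 0 (.hub 447),
    .weyl 2 0 (.hub 448),
    .weyl 0 0 (.hub 449),
    .weyl 3 0 (.hub 450),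
    .weyl 2 0 (.hub 451),
    .weyl 4 0 (.hub 452),
    .weyl 5 0 (.hub 453),
    .weyl 6 0 (.hub 454),
    .weyl 4 0 (.hub 43),
    .weyl 6 0 (.hub 456),
    .weyl 5 0 (.hub 457),
    .weyl 4 0 (.hub 458),
    .weyl 3 0 (.hub 459),
    .weyl 1 0 (.hub 460),
    .weyl 2 0 (.hub 461),
    .weyl 3 0 (.hub 462),
    .weyl 4 0 (.hub 463),
    .weyl 5 0 (.hub 464),
    .weyl 6 0 (.hub 465),
    .weyl 7 0 (.hub 466),
    .weyl 6 0 (.hub 467),
    .weyl 5 0 (.hub 468),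
    .weyl 4 0 (.hub 469),
    .weyl 3 0 (.hub 470),
    .weyl 1 0 (.hub 471),
    .weyl 2 0 (.hub 472),
    .weyl 3 0 (.hub 473),
    .weyl 4 0 (.hub 474),
    .weyl 5 0 (.hub 475),
    .weyl 6 0 (.hub 476),
    .weyl 6 0 (.hub 227),
    .weyl 6 0 (.hub 226),
    .weyl 5 0 (.hub 223),
    .weyl 4 0 (.hub 480),
    .weyl 6 0 (.hub 481),
    .weyl 4 0 (.hub 132),
    .weyl 5 0 (.hub 483),
    .weyl 6 0 (.hub 484),
    .weyl 4 0 (.hub 334),
    .weyl 5 0 (.hub 486),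
    .weyl 6 0 (.hub 487),
    .weyl 3 0 (.hub 130),
    .weyl 4 0 (.hub 489),
    .weyl 5 0 (.hub 490),
    .weyl 6 0 (.hub 491),
    .weyl 1 0 (.hub 4),
    .weyl 2 0 (.hub 493),
    .weyl 0 0 (.hub 494),
    .weyl 4 0 (.hub 495),
    .weyl 3 0 (.hub 496),
    .weyl 1 0 (.hub 497),
    .weyl 2 0 (.hub 498),
    .weyl 0 0 (.hub 499),
    .weyl 3 0 (.hub 500),
    .weyl 4 0 (.hub 501),
    .weyl 5 0 (.hub 502),
    .weyl 6 0 (.hub 503),
    .weyl 5 0 (.hub 504),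
    .weyl 4 0 (.hub 505),
    .weyl 3 0 (.hub 506),
    .weyl 1 0 (.hub 507),
    .weyl 2 0 (.hub 508)]

theorem trees0_4_ok : allOK tab simples patterns 410 trees0_4 = true :=
  Fast.allOK_of_fast (by decide +kernel)

/-- Trees from index 510. -/
def trees0_5 : List Tree := [
    .weyl 3 0 (.hub 509),
    .weyl 4 0 (.hub 510),
    .weyl 5 0 (.hub 511),
    .weyl 6 0 (.hub 512),
    .weyl 7 0 (.hub 513),
    .weyl 6 0 (.hub 514),
    .weyl 5 0 (.hub 515),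
    .weyl 4 0 (.hub 516),
    .weyl 3 0 (.hub 517),
    .weyl 1 0 (.hub 518),
    .weyl 2 0 (.hub 519),
    .weyl 3 0 (.hub 520),
    .weyl 4 0 (.hub 521),
    .weyl 5 0 (.hub 522),
    .weyl 6 0 (.hub 523),
    .weyl 3 0 (.hub 332),
    .weyl 4 0 (.hub 525),
    .weyl 5 0 (.hub 526),
    .weyl 6 0 (.hub 527),
    .weyl 6 0 (.hub 502),
    .weyl 5 0 (.hub 529),
    .weyl 4 0 (.hub 530),
    .weyl 3 0 (.hub 531),
    .weyl 1 0 (.hub 532),
    .weyl 2 0 (.hub 533),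
    .weyl 3 0 (.hub 534),
    .weyl 4 0 (.hub 535),
    .weyl 5 0 (.hub 536),
    .weyl 6 0 (.hub 537),
    .weyl 7 0 (.hub 538),
    .weyl 6 0 (.hub 539),
    .weyl 5 0 (.hub 540),
    .weyl 4 0 (.hub 541),
    .weyl 3 0 (.hub 542),
    .weyl 1 0 (.hub 543),
    .weyl 2 0 (.hub 544),
    .weyl 3 0 (.hub 545),
    .weyl 4 0 (.hub 546),
    .weyl 5 0 (.hub 547),
    .weyl 6 0 (.hub 548),
    .weyl 6 0 (.hub 43),
    .weyl 5 0 (.hub 550),
    .weyl 4 0 (.hub 551),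
    .weyl 3 0 (.hub 552),
    .weyl 1 0 (.hub 553),
    .weyl 2 0 (.hub 554),
    .weyl 3 0 (.hub 555),
    .weyl 4 0 (.hub 556),
    .weyl 5 0 (.hub 557),
    .weyl 6 0 (.hub 558),
    .weyl 7 0 (.hub 559),
    .weyl 6 0 (.hub 560),
    .weyl 5 0 (.hub 561),
    .weyl 4 0 (.hub 562),
    .weyl 3 0 (.hub 563),
    .weyl 1 0 (.hub 564),
    .weyl 2 0 (.hub 565),
    .weyl 3 0 (.hub 566),
    .weyl 4 0 (.hub 567),
    .weyl 5 0 (.hub 568),
    .weyl 6 0 (.hub 569),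
    .weyl 6 0 (.hub 280),
    .weyl 6 0 (.hub 225),
    .weyl 6 0 (.hub 480),
    .weyl 4 0 (.hub 167),
    .weyl 5 0 (.hub 574),
    .weyl 6 0 (.hub 575),
    .weyl 4 0 (.hub 394),
    .weyl 5 0 (.hub 577),
    .weyl 6 0 (.hub 578),
    .weyl 3 0 (.hub 165),
    .weyl 4 0 (.hub 580),
    .weyl 5 0 (.hub 581),
    .weyl 6 0 (.hub 582),
    .weyl 6 0 (.hub 501),
    .weyl 5 0 (.hub 584),
    .weyl 4 0 (.hub 585),
    .weyl 3 0 (.hub 586),
    .weyl 1 0 (.hub 587),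
    .weyl 2 0 (.hub 588),
    .weyl 3 0 (.hub 589),
    .weyl 4 0 (.hub 590),
    .weyl 5 0 (.hub 591),
    .weyl 6 0 (.hub 592),
    .weyl 7 0 (.hub 593),
    .weyl 6 0 (.hub 594),
    .weyl 5 0 (.hub 595),
    .weyl 4 0 (.hub 596),
    .weyl 3 0 (.hub 597),
    .weyl 1 0 (.hub 598),
    .weyl 2 0 (.hub 599),
    .weyl 0 0 (.hub 600),
    .weyl 3 0 (.hub 601),
    .weyl 4 0 (.hub 602),
    .weyl 5 0 (.hub 603),
    .weyl 6 0 (.hub 604),
    .weyl 3 0 (.hub 392),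
    .weyl 4 0 (.hub 606),
    .weyl 5 0 (.hub 607),
    .weyl 6 0 (.hub 608)]

theorem trees0_5_ok : allOK tab simples patterns 510 trees0_5 = true :=
  Fast.allOK_of_fast (by decide +kernel)

/-- Trees from index 610. -/
def trees0_6 : List Tree := [
    .weyl 3 0 (.hub 600),
    .weyl 4 0 (.hub 610),
    .weyl 5 0 (.hub 611),
    .weyl 6 0 (.hub 612),
    tree614,
    .weyl 5 0 (.hub 43),
    .weyl 6 0 (.hub 615),
    .weyl 5 0 (.hub 616),
    .weyl 4 0 (.hub 617),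
    .weyl 3 0 (.hub 618),
    .weyl 1 0 (.hub 619),
    .weyl 2 0 (.hub 620),
    .weyl 3 0 (.hub 621),
    .weyl 4 0 (.hub 622),
    .weyl 5 0 (.hub 623),
    .weyl 6 0 (.hub 624),
    .weyl 7 0 (.hub 625),
    .weyl 6 0 (.hub 626),
    .weyl 5 0 (.hub 627),
    .weyl 4 0 (.hub 628),
    .weyl 3 0 (.hub 629),
    .weyl 1 0 (.hub 630),
    .weyl 2 0 (.hub 631),
    .weyl 3 0 (.hub 632),
    .weyl 4 0 (.hub 633),
    .weyl 5 0 (.hub 634),
    .weyl 6 0 (.hub 635),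
    .weyl 5 0 (.hub 571),
    .weyl 6 0 (.hub 200),
    .weyl 5 0 (.hub 638),
    .weyl 4 0 (.hub 639),
    .weyl 3 0 (.hub 640),
    .weyl 1 0 (.hub 641),
    .weyl 2 0 (.hub 642),
    .weyl 3 0 (.hub 643),
    .weyl 4 0 (.hub 644),
    .weyl 5 0 (.hub 645),
    .weyl 6 0 (.hub 646),
    .weyl 7 0 (.hub 647),
    .weyl 6 0 (.hub 648),
    .weyl 5 0 (.hub 649),
    .weyl 4 0 (.hub 650),
    .weyl 3 0 (.hub 651),
    .weyl 1 0 (.hub 652),
    .weyl 2 0 (.hub 653),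
    .weyl 0 0 (.hub 654),
    .weyl 3 0 (.hub 655),
    .weyl 2 0 (.hub 656),
    .weyl 4 0 (.hub 657),
    .weyl 3 0 (.hub 658),
    .weyl 1 0 (.hub 659),
    .weyl 5 0 (.hub 660),
    .weyl 6 0 (.hub 661),
    .weyl 5 0 (.hub 659),
    .weyl 6 0 (.hub 663),
    .weyl 4 0 (.hub 422),
    .weyl 5 0 (.hub 665),
    .weyl 6 0 (.hub 666),
    .weyl 4 0 (.hub 451),
    .weyl 5 0 (.hub 668),
    .weyl 6 0 (.hub 669),
    .weyl 3 0 (.hub 420),
    .weyl 4 0 (.hub 671),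
    .weyl 5 0 (.hub 672),
    .weyl 6 0 (.hub 673),
    .weyl 2 0 (.hub 501),
    .weyl 4 0 (.hub 675),
    .weyl 6 0 (.hub 676),
    .weyl 5 0 (.hub 677),
    .weyl 4 0 (.hub 678),
    .weyl 3 0 (.hub 679),
    .weyl 1 0 (.hub 680),
    .weyl 2 0 (.hub 681),
    .weyl 3 0 (.hub 682),
    .weyl 4 0 (.hub 683),
    .weyl 5 0 (.hub 684),
    .weyl 6 0 (.hub 685),
    .weyl 7 0 (.hub 686),
    .weyl 6 0 (.hub 687),
    .weyl 5 0 (.hub 688),
    .weyl 4 0 (.hub 689),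
    .weyl 3 0 (.hub 690),
    .weyl 1 0 (.hub 691),
    .weyl 2 0 (.hub 692),
    .weyl 3 0 (.hub 693),
    .weyl 4 0 (.hub 694),
    .weyl 5 0 (.hub 695),
    .weyl 6 0 (.hub 696),
    .weyl 3 0 (.hub 449),
    .weyl 4 0 (.hub 698),
    .weyl 5 0 (.hub 699),
    .weyl 6 0 (.hub 700),
    .weyl 6 0 (.hub 675),
    .weyl 5 0 (.hub 702),
    .weyl 4 0 (.hub 703),
    .weyl 3 0 (.hub 704),
    .weyl 1 0 (.hub 705),
    .weyl 2 0 (.hub 706),
    .weyl 3 0 (.hub 707),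
    .weyl 4 0 (.hub 708)]

theorem trees0_6_ok : allOK tab simples patterns 610 trees0_6 = true :=
  Fast.allOK_of_fast (by decide +kernel)

/-- Trees from index 710. -/
def trees0_7 : List Tree := [
    .weyl 5 0 (.hub 709),
    .weyl 6 0 (.hub 710),
    .weyl 7 0 (.hub 711),
    .weyl 6 0 (.hub 712),
    .weyl 5 0 (.hub 713),
    .weyl 4 0 (.hub 714),
    .weyl 3 0 (.hub 715),
    .weyl 1 0 (.hub 716),
    .weyl 2 0 (.hub 717),
    .weyl 3 0 (.hub 718),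
    .weyl 4 0 (.hub 719),
    .weyl 5 0 (.hub 720),
    .weyl 6 0 (.hub 721),
    .weyl 6 0 (.hub 42),
    .weyl 5 0 (.hub 723),
    .weyl 4 0 (.hub 724),
    .weyl 3 0 (.hub 725),
    .weyl 1 0 (.hub 726),
    .weyl 2 0 (.hub 727),
    .weyl 3 0 (.hub 728),
    .weyl 4 0 (.hub 729),
    .weyl 5 0 (.hub 730),
    .weyl 6 0 (.hub 731),
    .weyl 7 0 (.hub 732),
    .weyl 6 0 (.hub 733),
    .weyl 5 0 (.hub 734),
    .weyl 4 0 (.hub 735),
    .weyl 3 0 (.hub 736),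
    .weyl 1 0 (.hub 737),
    .weyl 2 0 (.hub 738),
    .weyl 3 0 (.hub 739),
    .weyl 4 0 (.hub 740),
    .weyl 5 0 (.hub 741),
    .weyl 6 0 (.hub 742),
    .weyl 6 0 (.hub 279),
    .weyl 6 0 (.hub 278),
    .weyl 5 0 (.hub 222),
    .weyl 6 0 (.hub 746),
    .weyl 4 0 (.hub 220),
    .weyl 5 0 (.hub 748),
    .weyl 6 0 (.hub 749),
    .weyl 6 0 (.hub 110),
    .weyl 5 0 (.hub 751),
    .weyl 4 0 (.hub 752),
    .weyl 3 0 (.hub 753),
    .weyl 1 0 (.hub 754),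
    .weyl 2 0 (.hub 755),
    .weyl 3 0 (.hub 756),
    .weyl 4 0 (.hub 757),
    .weyl 5 0 (.hub 758),
    .weyl 6 0 (.hub 759),
    .weyl 7 0 (.hub 760),
    .weyl 6 0 (.hub 761),
    .weyl 5 0 (.hub 762),
    .weyl 4 0 (.hub 763),
    .weyl 3 0 (.hub 764),
    .weyl 1 0 (.hub 765),
    .weyl 2 0 (.hub 766),
    .weyl 0 0 (.hub 767),
    .weyl 3 0 (.hub 768),
    .weyl 4 0 (.hub 769),
    .weyl 5 0 (.hub 770),
    .weyl 6 0 (.hub 771),
    .weyl 3 0 (.hub 218),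
    .weyl 4 0 (.hub 773),
    .weyl 5 0 (.hub 774),
    .weyl 6 0 (.hub 775),
    .weyl 6 0 (.hub 500),
    .weyl 5 0 (.hub 777),
    .weyl 4 0 (.hub 778),
    .weyl 3 0 (.hub 779),
    .weyl 1 0 (.hub 780),
    .weyl 2 0 (.hub 781),
    .weyl 3 0 (.hub 782),
    .weyl 4 0 (.hub 783),
    .weyl 5 0 (.hub 784),
    .weyl 6 0 (.hub 785),
    .weyl 7 0 (.hub 786),
    .weyl 6 0 (.hub 787),
    .weyl 5 0 (.hub 788),
    .weyl 4 0 (.hub 789),
    .weyl 3 0 (.hub 790),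
    .weyl 1 0 (.hub 791),
    .weyl 2 0 (.hub 792),
    .weyl 0 0 (.hub 793),
    .weyl 3 0 (.hub 794),
    .weyl 4 0 (.hub 795),
    .weyl 5 0 (.hub 796),
    .weyl 6 0 (.hub 797),
    .weyl 3 0 (.hub 767),
    .weyl 4 0 (.hub 799),
    .weyl 5 0 (.hub 800),
    .weyl 6 0 (.hub 801),
    .weyl 3 0 (.hub 793),
    .weyl 4 0 (.hub 803),
    .weyl 5 0 (.hub 804),
    .weyl 6 0 (.hub 805),
    .weyl 4 0 (.hub 104),
    .weyl 3 0 (.hub 807),
    .weyl 1 0 (.hub 808)]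

theorem trees0_7_ok : allOK tab simples patterns 710 trees0_7 = true :=
  Fast.allOK_of_fast (by decide +kernel)

/-- Trees from index 810. -/
def trees0_8 : List Tree := [
    .weyl 2 0 (.hub 809),
    .weyl 0 0 (.hub 810),
    .weyl 6 0 (.hub 811),
    .weyl 5 0 (.hub 812),
    .weyl 4 0 (.hub 813),
    .weyl 3 0 (.hub 814),
    .weyl 1 0 (.hub 815),
    .weyl 2 0 (.hub 816),
    .weyl 3 0 (.hub 817),
    .weyl 4 0 (.hub 818),
    .weyl 5 0 (.hub 819),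
    .weyl 6 0 (.hub 820),
    .weyl 7 0 (.hub 821),
    .weyl 6 0 (.hub 822),
    .weyl 5 0 (.hub 823),
    .weyl 4 0 (.hub 824),
    .weyl 3 0 (.hub 825),
    .weyl 1 0 (.hub 826),
    .weyl 2 0 (.hub 827),
    .weyl 3 0 (.hub 828),
    .weyl 4 0 (.hub 829),
    .weyl 5 0 (.hub 830),
    .weyl 6 0 (.hub 831),
    .weyl 4 0 (.hub 494),
    .weyl 3 0 (.hub 833),
    .weyl 1 0 (.hub 834),
    .weyl 2 0 (.hub 835),
    .weyl 0 0 (.hub 836),
    .weyl 6 0 (.hub 837),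
    .weyl 5 0 (.hub 838),
    .weyl 4 0 (.hub 839),
    .weyl 3 0 (.hub 840),
    .weyl 1 0 (.hub 841),
    .weyl 2 0 (.hub 842),
    .weyl 3 0 (.hub 843),
    .weyl 4 0 (.hub 844),
    .weyl 5 0 (.hub 845),
    .weyl 6 0 (.hub 846),
    .weyl 7 0 (.hub 847),
    .weyl 6 0 (.hub 848),
    .weyl 5 0 (.hub 849),
    .weyl 4 0 (.hub 850),
    .weyl 3 0 (.hub 851),
    .weyl 1 0 (.hub 852),
    .weyl 2 0 (.hub 853),
    .weyl 3 0 (.hub 854),
    .weyl 4 0 (.hub 855),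
    .weyl 5 0 (.hub 856),
    .weyl 6 0 (.hub 857),
    tree859,
    .weyl 5 0 (.hub 42),
    .weyl 6 0 (.hub 860),
    .weyl 5 0 (.hub 861),
    .weyl 4 0 (.hub 862),
    .weyl 3 0 (.hub 863),
    .weyl 1 0 (.hub 864),
    .weyl 2 0 (.hub 865),
    .weyl 3 0 (.hub 866),
    .weyl 4 0 (.hub 867),
    .weyl 5 0 (.hub 868),
    .weyl 6 0 (.hub 869),
    .weyl 7 0 (.hub 870),
    .weyl 6 0 (.hub 871),
    .weyl 5 0 (.hub 872),
    .weyl 4 0 (.hub 873),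
    .weyl 3 0 (.hub 874),
    .weyl 1 0 (.hub 875),
    .weyl 2 0 (.hub 876),
    .weyl 3 0 (.hub 877),
    .weyl 4 0 (.hub 878),
    .weyl 5 0 (.hub 879),
    .weyl 6 0 (.hub 880),
    .weyl 5 0 (.hub 744),
    .weyl 6 0 (.hub 253),
    .weyl 5 0 (.hub 883),
    .weyl 4 0 (.hub 884),
    .weyl 3 0 (.hub 885),
    .weyl 1 0 (.hub 886),
    .weyl 2 0 (.hub 887),
    .weyl 3 0 (.hub 888),
    .weyl 4 0 (.hub 889),
    .weyl 5 0 (.hub 890),
    .weyl 6 0 (.hub 891),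
    .weyl 7 0 (.hub 892),
    .weyl 6 0 (.hub 893),
    .weyl 5 0 (.hub 894),
    .weyl 4 0 (.hub 895),
    .weyl 3 0 (.hub 896),
    .weyl 1 0 (.hub 897),
    .weyl 2 0 (.hub 898),
    .weyl 0 0 (.hub 899),
    .weyl 3 0 (.hub 900),
    .weyl 2 0 (.hub 901),
    .weyl 4 0 (.hub 902),
    .weyl 3 0 (.hub 903),
    .weyl 1 0 (.hub 904),
    .weyl 5 0 (.hub 905),
    .weyl 6 0 (.hub 906),
    .weyl 5 0 (.hub 658),
    .weyl 6 0 (.hub 908)]

theorem trees0_8_ok : allOK tab simples patterns 810 trees0_8 = true :=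
  Fast.allOK_of_fast (by decide +kernel)

/-- Trees from index 910. -/
def trees0_9 : List Tree := [
    .weyl 4 0 (.hub 656),
    .weyl 5 0 (.hub 910),
    .weyl 6 0 (.hub 911),
    .weyl 5 0 (.hub 110),
    .weyl 6 0 (.hub 913),
    .weyl 5 0 (.hub 914),
    .weyl 4 0 (.hub 915),
    .weyl 3 0 (.hub 916),
    .weyl 1 0 (.hub 917),
    .weyl 2 0 (.hub 918),
    .weyl 3 0 (.hub 919),
    .weyl 4 0 (.hub 920),
    .weyl 5 0 (.hub 921),
    .weyl 6 0 (.hub 922),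
    .weyl 7 0 (.hub 923),
    .weyl 6 0 (.hub 924),
    .weyl 5 0 (.hub 925),
    .weyl 4 0 (.hub 926),
    .weyl 3 0 (.hub 927),
    .weyl 1 0 (.hub 928),
    .weyl 2 0 (.hub 929),
    .weyl 0 0 (.hub 930),
    .weyl 3 0 (.hub 931),
    .weyl 4 0 (.hub 932),
    .weyl 5 0 (.hub 933),
    .weyl 6 0 (.hub 934),
    .weyl 3 0 (.hub 654),
    .weyl 4 0 (.hub 936),
    .weyl 5 0 (.hub 937),
    .weyl 6 0 (.hub 938),
    .weyl 5 0 (.hub 500),
    .weyl 6 0 (.hub 940),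
    .weyl 5 0 (.hub 941),
    .weyl 4 0 (.hub 942),
    .weyl 3 0 (.hub 943),
    .weyl 1 0 (.hub 944),
    .weyl 2 0 (.hub 945),
    .weyl 3 0 (.hub 946),
    .weyl 4 0 (.hub 947),
    .weyl 5 0 (.hub 948),
    .weyl 6 0 (.hub 949),
    .weyl 7 0 (.hub 950),
    .weyl 6 0 (.hub 951),
    .weyl 5 0 (.hub 952),
    .weyl 4 0 (.hub 953),
    .weyl 3 0 (.hub 954),
    .weyl 1 0 (.hub 955),
    .weyl 2 0 (.hub 956),
    .weyl 0 0 (.hub 957),
    .weyl 3 0 (.hub 958),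
    .weyl 4 0 (.hub 959),
    .weyl 5 0 (.hub 960),
    .weyl 6 0 (.hub 961),
    .weyl 3 0 (.hub 930),
    .weyl 4 0 (.hub 963),
    .weyl 5 0 (.hub 964),
    .weyl 6 0 (.hub 965),
    .weyl 3 0 (.hub 957),
    .weyl 4 0 (.hub 967),
    .weyl 5 0 (.hub 968),
    .weyl 6 0 (.hub 969),
    .weyl 3 0 (.hub 811),
    .weyl 6 0 (.hub 971),
    .weyl 5 0 (.hub 972),
    .weyl 4 0 (.hub 973),
    .weyl 3 0 (.hub 974),
    .weyl 1 0 (.hub 975),
    .weyl 2 0 (.hub 976),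
    .weyl 3 0 (.hub 977),
    .weyl 4 0 (.hub 978),
    .weyl 5 0 (.hub 979),
    .weyl 6 0 (.hub 980),
    .weyl 7 0 (.hub 981),
    .weyl 6 0 (.hub 982),
    .weyl 5 0 (.hub 983),
    .weyl 4 0 (.hub 984),
    .weyl 3 0 (.hub 985),
    .weyl 1 0 (.hub 986),
    .weyl 2 0 (.hub 987),
    .weyl 3 0 (.hub 988),
    .weyl 4 0 (.hub 989),
    .weyl 5 0 (.hub 990),
    .weyl 6 0 (.hub 991),
    .weyl 3 0 (.hub 837),
    .weyl 6 0 (.hub 993),
    .weyl 5 0 (.hub 994),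
    .weyl 4 0 (.hub 995),
    .weyl 3 0 (.hub 996),
    .weyl 1 0 (.hub 997),
    .weyl 2 0 (.hub 998),
    .weyl 3 0 (.hub 999),
    .weyl 4 0 (.hub 1000),
    .weyl 5 0 (.hub 1001),
    .weyl 6 0 (.hub 1002),
    .weyl 7 0 (.hub 1003),
    .weyl 6 0 (.hub 1004),
    .weyl 5 0 (.hub 1005),
    .weyl 4 0 (.hub 1006),
    .weyl 3 0 (.hub 1007),
    .weyl 1 0 (.hub 1008)]

theorem trees0_9_ok : allOK tab simples patterns 910 trees0_9 = true :=
  Fast.allOK_of_fast (by decide +kernel)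

/-- Trees from index 10. -/
def part0 : List Tree := trees0_0 ++ trees0_1 ++ trees0_2 ++ trees0_3 ++ trees0_4 ++ trees0_5 ++ trees0_6 ++ trees0_7 ++ trees0_8 ++ trees0_9

theorem part0_ok : allOK tab simples patterns 10 part0 = true :=
  (allOK_append _ _ 10 910 (allOK_append _ _ 10 810 (allOK_append _ _ 10 710 (allOK_append _ _ 10 610 (allOK_append _ _ 10 510 (allOK_append _ _ 10 410 (allOK_append _ _ 10 310 (allOK_append _ _ 10 210 (allOK_append _ _ 10 110 trees0_0_ok (by decide +kernel) trees0_1_ok) (by decide +kernel) trees0_2_ok) (by decide +kernel) trees0_3_ok) (by decide +kernel) trees0_4_ok) (by decide +kernel) trees0_5_ok) (by decide +kernel) trees0_6_ok) (by decide +kernel) trees0_7_ok) (by decide +kernel) trees0_8_ok) (by decide +kernel) trees0_9_ok)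

theorem part0_length : part0.length = 1000 := by decide +kernel

end CfsgLib.OutAut.InvCheck.E8
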