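import Mathlib
import Cfsg.Agent.Lib.OutAut.InvCheck.E8.Data
import Cfsg.Agent.Lib.OutAut.InvCheck.Fast

/-!
Part 2 of the certificate for the involutions of `E8` in characteristic two.
-/

set_option autoImplicit false
set_option maxRecDepth 100000
set_option maxHeartbeats 0

noncomputable section

namespace CfsgLib.OutAut.InvCheck.E8

open Cfsg.Lie CfsgLib.Chevalley

/-- A tree. -/
def tree1870 : Tree :=
  .split 222 (.split 223 (.split 224 (.split 225 (.kill 227 228 121 1 1 (.split 229 (.split 230 (.split 231 (.split 232 (.split 233 (.split 234 (.split 235 (.split 236 (.kill 237 238 121 1 1 (.split 239 (.hub 1704) (.hub 1726))) (.kill 237 238 121 1 1 (.kill 125 239 236 1 1 (.hub 1740)))) (.kill 126 236 235 1 1 (.kill 237 238 121 1 1 (.kill 129 239 235 1 1 (.hub 1739))))) (.kill 130 235 234 1 1 (.kill 131 236 234 1 1 (.kill 237 238 121 1 1 (.kill 134 239 234 1 1 (.hub 1741)))))) (.kill 135 234 233 1 1 (.kill 136 235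 233 1 1 (.kill 137 236 233 1 1 (.kill 237 238 121 1 1 (.kill 140 239 233 1 1 (.hub 1743))))))) (.split 233 (.kill 141 234 232 1 1 (.kill 142 235 232 1 1 (.kill 143 236 232 1 1 (.kill 237 238 121 1 1 (.kill 146 239 232 1 1 (.hub 1755)))))) (.kill 141 234 232 1 1 (.kill 142 235 232 1 1 (.kill 143 236 232 1 1 (.kill 237 238 121 1 1 (.kill 146 239 232 1 1 (.hub 1773)))))))) (.kill 135 232 231 1 1 (.zero 238 121 237 1 1 (.kill 141 233 231 1 1 (.split 234 (.kill 147 235 231 1 1 (.kill 148 236 231 1 1 (.kill 237 238 121 1 1 (.kill 151 239 231 1 1 (.hub 1775))))) (.kill 147 235 231 1 1 (.kill 148 236 231 1 1 (.kill 237 238 121 1 1 (.kill 151 239 231 1 1 (.hub 1793)))))))))) (.kill 130 231 230 1 1 (.zero 238 121 237 1 1 (.kill 136 232 230 1 1 (.zero 238 121 237 1 1 (.kill 142 233 230 1 1 (.kill 147 234 230 1 1 (.split 235 (.kill 152 236 230 1 1 (.kill 237 238 121 1 1 (.kill 155 239 230 1 1 (.hub 1804)))) (.kill 152 236 230 1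 1 (.kill 237 238 121 1 1 (.kill 155 239 230 1 1 (.hub 1822)))))))))))) (.kill 126 230 229 1 1 (.zero 238 121 237 1 1 (.kill 131 231 229 1 1 (.zero 238 121 237 1 1 (.kill 137 232 229 1 1 (.zero 238 121 237 1 1 (.kill 143 233 229 1 1 (.kill 148 234 229 1 1 (.kill 152 235 229 1 1 (.split 236 (.kill 237 238 121 1 1 (.kill 158 239 229 1 1 (.hub 1833))) (.kill 237 238 121 1 1 (.kill 158 239 229 1 1 (.hub 1851))))))))))))))) (.kill 227 228 121 1 1 (.split 229 (.split 230 (.split 231 (.split 232 (.kill 162 233 225 1 1 (.kill 163 234 225 1 1 (.kill 164 235 225 1 1 (.kill 165 236 225 1 1 (.kill 237 238 121 1 1 (.kill 168 239 225 1 1 (.hub 1854))))))) (.kill 162 233 225 1 1 (.kill 163 234 225 1 1 (.kill 164 235 225 1 1 (.kill 165 236 225 1 1 (.kill 237 238 121 1 1 (.kill 168 239 225 1 1 (.hub 1772)))))))) (.kill 135 232 231 1 1 (.zero 238 121 237 1 1 (.kill 162 233 225 1 1 (.kill 163 234 225 1 1 (.kill 164 235 225 1 1 (.kill 165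 236 225 1 1 (.kill 237 238 121 1 1 (.kill 168 239 225 1 1 (.hub 1771)))))))))) (.kill 130 231 230 1 1 (.zero 238 121 237 1 1 (.kill 136 232 230 1 1 (.zero 238 121 237 1 1 (.kill 162 233 225 1 1 (.kill 163 234 225 1 1 (.kill 164 235 225 1 1 (.kill 165 236 225 1 1 (.kill 237 238 121 1 1 (.kill 168 239 225 1 1 (.hub 1770)))))))))))) (.kill 126 230 229 1 1 (.zero 238 121 237 1 1 (.kill 131 231 229 1 1 (.zero 238 121 237 1 1 (.kill 137 232 229 1 1 (.zero 238 121 237 1 1 (.kill 162 233 225 1 1 (.kill 163 234 225 1 1 (.kill 164 235 225 1 1 (.kill 165 236 225 1 1 (.kill 237 238 121 1 1 (.kill 168 239 225 1 1 (.hub 1769)))))))))))))))) (.kill 141 225 224 1 1 (.zero 238 121 237 1 1 (.kill 227 228 121 1 1 (.split 229 (.split 230 (.kill 162 231 224 1 1 (.kill 163 232 224 1 1 (.split 233 (.split 234 (.kill 169 235 224 1 1 (.kill 170 236 224 1 1 (.kill 237 238 121 1 1 (.kill 173 239 224 1 1 (.hub 1857))))) (.kill 169 235 224 1 1 (.kill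 170 236 224 1 1 (.kill 237 238 121 1 1 (.kill 173 239 224 1 1 (.hub 1792)))))) (.kill 135 234 233 1 1 (.kill 169 235 224 1 1 (.kill 170 236 224 1 1 (.kill 237 238 121 1 1 (.kill 173 239 224 1 1 (.hub 1791))))))))) (.kill 162 231 224 1 1 (.kill 163 232 224 1 1 (.kill 142 233 230 1 1 (.kill 147 234 230 1 1 (.kill 169 235 224 1 1 (.kill 170 236 224 1 1 (.kill 237 238 121 1 1 (.kill 173 239 224 1 1 (.hub 1859)))))))))) (.kill 126 230 229 1 1 (.zero 238 121 237 1 1 (.kill 162 231 224 1 1 (.kill 163 232 224 1 1 (.kill 143 233 229 1 1 (.kill 148 234 229 1 1 (.kill 169 235 224 1 1 (.kill 170 236 224 1 1 (.kill 237 238 121 1 1 (.kill 173 239 224 1 1 (.hub 1858)))))))))))))))) (.kill 130 224 223 1 1 (.zero 238 121 237 1 1 (.kill 142 225 223 1 1 (.zero 238 121 237 1 1 (.kill 227 228 121 1 1 (.split 229 (.kill 162 230 223 1 1 (.split 231 (.kill 164 232 223 1 1 (.split 233 (.kill 169 234 223 1 1 (.split 235 (.kill 174 236 223 1 1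 (.kill 237 238 121 1 1 (.kill 177 239 223 1 1 (.hub 1862)))) (.kill 174 236 223 1 1 (.kill 237 238 121 1 1 (.kill 177 239 223 1 1 (.hub 1821)))))) (.kill 169 234 223 1 1 (.kill 136 235 233 1 1 (.kill 174 236 223 1 1 (.kill 237 238 121 1 1 (.kill 177 239 223 1 1 (.hub 1790)))))))) (.kill 164 232 223 1 1 (.kill 141 233 231 1 1 (.kill 169 234 223 1 1 (.kill 147 235 231 1 1 (.kill 174 236 223 1 1 (.kill 237 238 121 1 1 (.kill 177 239 223 1 1 (.hub 1864)))))))))) (.kill 162 230 223 1 1 (.kill 131 231 229 1 1 (.zero 238 121 237 1 1 (.kill 164 232 223 1 1 (.kill 143 233 229 1 1 (.kill 169 234 223 1 1 (.kill 152 235 229 1 1 (.kill 174 236 223 1 1 (.kill 237 238 121 1 1 (.kill 177 239 223 1 1 (.hub 1865)))))))))))))))))) (.kill 126 223 222 1 1 (.zero 238 121 237 1 1 (.kill 131 224 222 1 1 (.zero 238 121 237 1 1 (.kill 143 225 222 1 1 (.zero 238 121 237 1 1 (.kill 227 228 121 1 1 (.kill 162 229 222 1 1 (.split 230 (.split 231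 (.kill 165 232 222 1 1 (.split 233 (.kill 170 234 222 1 1 (.kill 174 235 222 1 1 (.split 236 (.kill 237 238 121 1 1 (.kill 180 239 222 1 1 (.hub 1868))) (.kill 237 238 121 1 1 (.kill 180 239 222 1 1 (.hub 1850)))))) (.kill 170 234 222 1 1 (.kill 174 235 222 1 1 (.kill 137 236 233 1 1 (.kill 237 238 121 1 1 (.kill 180 239 222 1 1 (.hub 1789)))))))) (.kill 165 232 222 1 1 (.kill 141 233 231 1 1 (.kill 170 234 222 1 1 (.kill 174 235 222 1 1 (.kill 148 236 231 1 1 (.kill 237 238 121 1 1 (.kill 180 239 222 1 1 (.hub 1863))))))))) (.kill 130 231 230 1 1 (.zero 238 121 237 1 1 (.kill 165 232 222 1 1 (.kill 142 233 230 1 1 (.kill 170 234 222 1 1 (.kill 174 235 222 1 1 (.kill 152 236 230 1 1 (.kill 237 238 121 1 1 (.kill 180 239 222 1 1 (.hub 1869)))))))))))))))))))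

/-- A tree. -/
def tree2078 : Tree :=
  .split 217 (.split 218 (.kill 220 221 121 1 1 (.split 222 (.split 223 (.split 224 (.kill 159 225 206 1 1 (.kill 227 228 121 1 1 (.split 229 (.split 230 (.split 231 (.split 232 (.kill 181 233 206 1 1 (.kill 191 234 206 1 1 (.kill 197 235 206 1 1 (.kill 200 236 206 1 1 (.kill 237 238 121 1 1 (.kill 203 239 206 1 1 (.hub 1919))))))) (.kill 181 233 206 1 1 (.kill 191 234 206 1 1 (.kill 197 235 206 1 1 (.kill 200 236 206 1 1 (.kill 237 238 121 1 1 (.kill 203 239 206 1 1 (.hub 1948)))))))) (.kill 135 232 231 1 1 (.zero 238 121 237 1 1 (.kill 181 233 206 1 1 (.kill 191 234 206 1 1 (.kill 197 235 206 1 1 (.kill 200 236 206 1 1 (.kill 237 238 121 1 1 (.kill 203 239 206 1 1 (.hub 1947)))))))))) (.kill 130 231 230 1 1 (.zero 238 121 237 1 1 (.kill 136 232 230 1 1 (.zero 238 121 237 1 1 (.kill 181 233 206 1 1 (.kill 191 234 206 1 1 (.kill 197 235 206 1 1 (.kill 200 236 206 1 1 (.kill 237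 238 121 1 1 (.kill 203 239 206 1 1 (.hub 1946)))))))))))) (.kill 126 230 229 1 1 (.zero 238 121 237 1 1 (.kill 131 231 229 1 1 (.zero 238 121 237 1 1 (.kill 137 232 229 1 1 (.zero 238 121 237 1 1 (.kill 181 233 206 1 1 (.kill 191 234 206 1 1 (.kill 197 235 206 1 1 (.kill 200 236 206 1 1 (.kill 237 238 121 1 1 (.kill 203 239 206 1 1 (.hub 1945)))))))))))))))) (.kill 159 225 206 1 1 (.kill 227 228 121 1 1 (.split 229 (.split 230 (.kill 162 231 224 1 1 (.kill 163 232 224 1 1 (.kill 181 233 206 1 1 (.kill 191 234 206 1 1 (.kill 197 235 206 1 1 (.kill 200 236 206 1 1 (.kill 237 238 121 1 1 (.kill 203 239 206 1 1 (.hub 1982))))))))) (.kill 162 231 224 1 1 (.kill 163 232 224 1 1 (.kill 181 233 206 1 1 (.kill 191 234 206 1 1 (.kill 197 235 206 1 1 (.kill 200 236 206 1 1 (.kill 237 238 121 1 1 (.kill 203 239 206 1 1 (.hub 2022)))))))))) (.kill 126 230 229 1 1 (.zero 238 121 237 1 1 (.kill 162 231 224 1 1 (.kill 163 232 224 1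 1 (.kill 181 233 206 1 1 (.kill 191 234 206 1 1 (.kill 197 235 206 1 1 (.kill 200 236 206 1 1 (.kill 237 238 121 1 1 (.kill 203 239 206 1 1 (.hub 2021))))))))))))))) (.kill 130 224 223 1 1 (.zero 238 121 237 1 1 (.kill 159 225 206 1 1 (.kill 227 228 121 1 1 (.split 229 (.kill 162 230 223 1 1 (.split 231 (.kill 164 232 223 1 1 (.kill 181 233 206 1 1 (.kill 191 234 206 1 1 (.kill 197 235 206 1 1 (.kill 200 236 206 1 1 (.kill 237 238 121 1 1 (.kill 203 239 206 1 1 (.hub 1981)))))))) (.kill 164 232 223 1 1 (.kill 181 233 206 1 1 (.kill 191 234 206 1 1 (.kill 197 235 206 1 1 (.kill 200 236 206 1 1 (.kill 237 238 121 1 1 (.kill 203 239 206 1 1 (.hub 2032)))))))))) (.kill 162 230 223 1 1 (.kill 131 231 229 1 1 (.zero 238 121 237 1 1 (.kill 164 232 223 1 1 (.kill 181 233 206 1 1 (.kill 191 234 206 1 1 (.kill 197 235 206 1 1 (.kill 200 236 206 1 1 (.kill 237 238 121 1 1 (.kill 203 239 206 1 1 (.hub 2020))))))))))))))))) (.kill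 126 223 222 1 1 (.zero 238 121 237 1 1 (.kill 131 224 222 1 1 (.zero 238 121 237 1 1 (.kill 159 225 206 1 1 (.kill 227 228 121 1 1 (.kill 162 229 222 1 1 (.split 230 (.split 231 (.kill 165 232 222 1 1 (.kill 181 233 206 1 1 (.kill 191 234 206 1 1 (.kill 197 235 206 1 1 (.kill 200 236 206 1 1 (.kill 237 238 121 1 1 (.kill 203 239 206 1 1 (.hub 1980)))))))) (.kill 165 232 222 1 1 (.kill 181 233 206 1 1 (.kill 191 234 206 1 1 (.kill 197 235 206 1 1 (.kill 200 236 206 1 1 (.kill 237 238 121 1 1 (.kill 203 239 206 1 1 (.hub 2031))))))))) (.kill 130 231 230 1 1 (.zero 238 121 237 1 1 (.kill 165 232 222 1 1 (.kill 181 233 206 1 1 (.kill 191 234 206 1 1 (.kill 197 235 206 1 1 (.kill 200 236 206 1 1 (.kill 237 238 121 1 1 (.kill 203 239 206 1 1 (.hub 2030)))))))))))))))))))) (.kill 220 221 121 1 1 (.split 222 (.kill 135 223 218 1 1 (.zero 238 121 237 1 1 (.kill 136 224 218 1 1 (.zero 238 121 237 1 1 (.kill 159 225 206 1 1 (.kill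 227 228 121 1 1 (.split 229 (.kill 163 230 218 1 1 (.kill 164 231 218 1 1 (.split 232 (.kill 181 233 206 1 1 (.kill 191 234 206 1 1 (.kill 197 235 206 1 1 (.kill 200 236 206 1 1 (.kill 237 238 121 1 1 (.kill 203 239 206 1 1 (.hub 2051))))))) (.kill 181 233 206 1 1 (.kill 191 234 206 1 1 (.kill 197 235 206 1 1 (.kill 200 236 206 1 1 (.kill 237 238 121 1 1 (.kill 203 239 206 1 1 (.hub 2061)))))))))) (.kill 163 230 218 1 1 (.kill 164 231 218 1 1 (.kill 137 232 229 1 1 (.zero 238 121 237 1 1 (.kill 181 233 206 1 1 (.kill 191 234 206 1 1 (.kill 197 235 206 1 1 (.kill 200 236 206 1 1 (.kill 237 238 121 1 1 (.kill 203 239 206 1 1 (.hub 2019)))))))))))))))))) (.kill 135 223 218 1 1 (.zero 238 121 237 1 1 (.kill 136 224 218 1 1 (.zero 238 121 237 1 1 (.kill 159 225 206 1 1 (.kill 227 228 121 1 1 (.kill 162 229 222 1 1 (.kill 163 230 218 1 1 (.kill 164 231 218 1 1 (.kill 165 232 222 1 1 (.kill 181 233 206 1 1 (.kill 191 234 206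 1 1 (.kill 197 235 206 1 1 (.kill 200 236 206 1 1 (.kill 237 238 121 1 1 (.kill 203 239 206 1 1 (.hub 2070)))))))))))))))))))) (.kill 126 218 217 1 1 (.zero 238 121 237 1 1 (.kill 220 221 121 1 1 (.kill 135 222 217 1 1 (.zero 238 121 237 1 1 (.split 223 (.kill 137 224 217 1 1 (.zero 238 121 237 1 1 (.kill 159 225 206 1 1 (.kill 227 228 121 1 1 (.kill 163 229 217 1 1 (.split 230 (.kill 165 231 217 1 1 (.split 232 (.kill 181 233 206 1 1 (.kill 191 234 206 1 1 (.kill 197 235 206 1 1 (.kill 200 236 206 1 1 (.kill 237 238 121 1 1 (.kill 203 239 206 1 1 (.hub 2050))))))) (.kill 181 233 206 1 1 (.kill 191 234 206 1 1 (.kill 197 235 206 1 1 (.kill 200 236 206 1 1 (.kill 237 238 121 1 1 (.kill 203 239 206 1 1 (.hub 2060))))))))) (.kill 165 231 217 1 1 (.kill 136 232 230 1 1 (.zero 238 121 237 1 1 (.kill 181 233 206 1 1 (.kill 191 234 206 1 1 (.kill 197 235 206 1 1 (.kill 200 236 206 1 1 (.kill 237 238 121 1 1 (.kill 203 239 206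 1 1 (.hub 2029)))))))))))))))) (.kill 137 224 217 1 1 (.zero 238 121 237 1 1 (.kill 159 225 206 1 1 (.kill 227 228 121 1 1 (.kill 163 229 217 1 1 (.kill 162 230 223 1 1 (.kill 165 231 217 1 1 (.kill 164 232 223 1 1 (.kill 181 233 206 1 1 (.kill 191 234 206 1 1 (.kill 197 235 206 1 1 (.kill 200 236 206 1 1 (.kill 237 238 121 1 1 (.kill 203 239 206 1 1 (.hub 2077)))))))))))))))))))))

/-- A tree. -/
def tree2104 : Tree :=
  .split 206 (.kill 208 209 121 1 1 (.kill 211 212 121 1 1 (.split 213 (.kill 215 216 121 1 1 (.split 217 (.split 218 (.kill 220 221 121 1 1 (.hub 1870)) (.kill 220 221 121 1 1 (.split 222 (.kill 135 223 218 1 1 (.zero 238 121 237 1 1 (.kill 136 224 218 1 1 (.zero 238 121 237 1 1 (.kill 147 225 218 1 1 (.zero 238 121 237 1 1 (.kill 227 228 121 1 1 (.split 229 (.kill 163 230 218 1 1 (.kill 164 231 218 1 1 (.split 232 (.kill 169 233 218 1 1 (.split 234 (.split 235 (.kill 184 236 218 1 1 (.kill 237 238 121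 1 1 (.kill 187 239 218 1 1 (.hub 1880)))) (.kill 184 236 218 1 1 (.kill 237 238 121 1 1 (.kill 187 239 218 1 1 (.hub 1820))))) (.kill 130 235 234 1 1 (.kill 184 236 218 1 1 (.kill 237 238 121 1 1 (.kill 187 239 218 1 1 (.hub 1819))))))) (.kill 169 233 218 1 1 (.kill 141 234 232 1 1 (.kill 142 235 232 1 1 (.kill 184 236 218 1 1 (.kill 237 238 121 1 1 (.kill 187 239 218 1 1 (.hub 1882)))))))))) (.kill 163 230 218 1 1 (.kill 164 231 218 1 1 (.kill 137 232 229 1 1 (.zero 238 121 237 1 1 (.kill 169 233 218 1 1 (.kill 148 234 229 1 1 (.kill 152 235 229 1 1 (.kill 184 236 218 1 1 (.kill 237 238 121 1 1 (.kill 187 239 218 1 1 (.hub 1884))))))))))))))))))) (.kill 135 223 218 1 1 (.zero 238 121 237 1 1 (.kill 136 224 218 1 1 (.zero 238 121 237 1 1 (.kill 147 225 218 1 1 (.zero 238 121 237 1 1 (.kill 227 228 121 1 1 (.kill 162 229 222 1 1 (.kill 163 230 218 1 1 (.kill 164 231 218 1 1 (.kill 165 232 222 1 1 (.kill 169 233 218 1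 1 (.kill 170 234 222 1 1 (.kill 174 235 222 1 1 (.kill 184 236 218 1 1 (.kill 237 238 121 1 1 (.kill 187 239 218 1 1 (.hub 1887))))))))))))))))))))) (.kill 126 218 217 1 1 (.zero 238 121 237 1 1 (.kill 220 221 121 1 1 (.kill 135 222 217 1 1 (.zero 238 121 237 1 1 (.split 223 (.kill 137 224 217 1 1 (.zero 238 121 237 1 1 (.kill 148 225 217 1 1 (.zero 238 121 237 1 1 (.kill 227 228 121 1 1 (.kill 163 229 217 1 1 (.split 230 (.kill 165 231 217 1 1 (.split 232 (.kill 170 233 217 1 1 (.split 234 (.kill 184 235 217 1 1 (.split 236 (.kill 237 238 121 1 1 (.kill 190 239 217 1 1 (.hub 1897))) (.kill 237 238 121 1 1 (.kill 190 239 217 1 1 (.hub 1849))))) (.kill 184 235 217 1 1 (.kill 131 236 234 1 1 (.kill 237 238 121 1 1 (.kill 190 239 217 1 1 (.hub 1818))))))) (.kill 170 233 217 1 1 (.kill 141 234 232 1 1 (.kill 184 235 217 1 1 (.kill 143 236 232 1 1 (.kill 237 238 121 1 1 (.kill 190 239 217 1 1 (.hub 1881))))))))) (.kill 165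 231 217 1 1 (.kill 136 232 230 1 1 (.zero 238 121 237 1 1 (.kill 170 233 217 1 1 (.kill 147 234 230 1 1 (.kill 184 235 217 1 1 (.kill 152 236 230 1 1 (.kill 237 238 121 1 1 (.kill 190 239 217 1 1 (.hub 1899))))))))))))))))) (.kill 137 224 217 1 1 (.zero 238 121 237 1 1 (.kill 148 225 217 1 1 (.zero 238 121 237 1 1 (.kill 227 228 121 1 1 (.kill 163 229 217 1 1 (.kill 162 230 223 1 1 (.kill 165 231 217 1 1 (.kill 164 232 223 1 1 (.kill 170 233 217 1 1 (.kill 169 234 223 1 1 (.kill 184 235 217 1 1 (.kill 174 236 223 1 1 (.kill 237 238 121 1 1 (.kill 190 239 217 1 1 (.hub 1902)))))))))))))))))))))))) (.kill 215 216 121 1 1 (.kill 130 217 213 1 1 (.zero 238 121 237 1 1 (.kill 131 218 213 1 1 (.zero 238 121 237 1 1 (.kill 220 221 121 1 1 (.kill 136 222 213 1 1 (.zero 238 121 237 1 1 (.kill 137 223 213 1 1 (.zero 238 121 237 1 1 (.split 224 (.kill 152 225 213 1 1 (.zero 238 121 237 1 1 (.kill 227 228 121 1 1 (.kill 164 229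 213 1 1 (.kill 165 230 213 1 1 (.split 231 (.split 232 (.kill 174 233 213 1 1 (.kill 184 234 213 1 1 (.split 235 (.split 236 (.kill 237 238 121 1 1 (.kill 196 239 213 1 1 (.hub 1912))) (.kill 237 238 121 1 1 (.kill 196 239 213 1 1 (.hub 1848)))) (.kill 126 236 235 1 1 (.kill 237 238 121 1 1 (.kill 196 239 213 1 1 (.hub 1847))))))) (.kill 174 233 213 1 1 (.kill 184 234 213 1 1 (.kill 142 235 232 1 1 (.kill 143 236 232 1 1 (.kill 237 238 121 1 1 (.kill 196 239 213 1 1 (.hub 1913)))))))) (.kill 135 232 231 1 1 (.zero 238 121 237 1 1 (.kill 174 233 213 1 1 (.kill 184 234 213 1 1 (.kill 147 235 231 1 1 (.kill 148 236 231 1 1 (.kill 237 238 121 1 1 (.kill 196 239 213 1 1 (.hub 1915))))))))))))))) (.kill 152 225 213 1 1 (.zero 238 121 237 1 1 (.kill 227 228 121 1 1 (.kill 164 229 213 1 1 (.kill 165 230 213 1 1 (.kill 162 231 224 1 1 (.kill 163 232 224 1 1 (.kill 174 233 213 1 1 (.kill 184 234 213 1 1 (.kill 169 235 224 1 1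 (.kill 170 236 224 1 1 (.kill 237 238 121 1 1 (.kill 196 239 213 1 1 (.hub 1918)))))))))))))))))))))))))))) (.kill 208 209 121 1 1 (.kill 211 212 121 1 1 (.split 213 (.kill 215 216 121 1 1 (.hub 2078)) (.kill 215 216 121 1 1 (.kill 130 217 213 1 1 (.zero 238 121 237 1 1 (.kill 131 218 213 1 1 (.zero 238 121 237 1 1 (.kill 220 221 121 1 1 (.kill 136 222 213 1 1 (.zero 238 121 237 1 1 (.kill 137 223 213 1 1 (.zero 238 121 237 1 1 (.split 224 (.kill 159 225 206 1 1 (.kill 227 228 121 1 1 (.kill 164 229 213 1 1 (.kill 165 230 213 1 1 (.split 231 (.split 232 (.kill 181 233 206 1 1 (.kill 191 234 206 1 1 (.kill 197 235 206 1 1 (.kill 200 236 206 1 1 (.kill 237 238 121 1 1 (.kill 203 239 206 1 1 (.hub 2096))))))) (.kill 181 233 206 1 1 (.kill 191 234 206 1 1 (.kill 197 235 206 1 1 (.kill 200 236 206 1 1 (.kill 237 238 121 1 1 (.kill 203 239 206 1 1 (.hub 2059)))))))) (.kill 135 232 231 1 1 (.zero 238 121 237 1 1 (.kill 181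 233 206 1 1 (.kill 191 234 206 1 1 (.kill 197 235 206 1 1 (.kill 200 236 206 1 1 (.kill 237 238 121 1 1 (.kill 203 239 206 1 1 (.hub 2058)))))))))))))) (.kill 159 225 206 1 1 (.kill 227 228 121 1 1 (.kill 164 229 213 1 1 (.kill 165 230 213 1 1 (.kill 162 231 224 1 1 (.kill 163 232 224 1 1 (.kill 181 233 206 1 1 (.kill 191 234 206 1 1 (.kill 197 235 206 1 1 (.kill 200 236 206 1 1 (.kill 237 238 121 1 1 (.kill 203 239 206 1 1 (.hub 2103)))))))))))))))))))))))))))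

/-- A tree. -/
def tree2173 : Tree :=
  .kill 141 206 196 1 1 (.zero 238 121 237 1 1 (.kill 208 209 121 1 1 (.kill 211 212 121 1 1 (.kill 215 216 121 1 1 (.split 217 (.split 218 (.kill 220 221 121 1 1 (.split 222 (.split 223 (.kill 159 224 196 1 1 (.split 225 (.kill 227 228 121 1 1 (.split 229 (.split 230 (.kill 181 231 196 1 1 (.kill 191 232 196 1 1 (.split 233 (.split 234 (.kill 207 235 196 1 1 (.kill 210 236 196 1 1 (.kill 237 238 121 1 1 (.kill 213 239 196 1 1 (.hub 2113))))) (.kill 207 235 196 1 1 (.kill 210 236 196 1 1 (.kill 237 238 121 1 1 (.kill 213 239 196 1 1 (.hub 2115)))))) (.kill 135 234 233 1 1 (.kill 207 235 196 1 1 (.kill 210 236 196 1 1 (.kill 237 238 121 1 1 (.kill 213 239 196 1 1 (.hub 2114))))))))) (.kill 181 231 196 1 1 (.kill 191 232 196 1 1 (.kill 142 233 230 1 1 (.kill 147 234 230 1 1 (.kill 207 235 196 1 1 (.kill 210 236 196 1 1 (.kill 237 238 121 1 1 (.kill 213 239 196 1 1 (.hub 2121))))))))))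 (.kill 126 230 229 1 1 (.zero 238 121 237 1 1 (.kill 181 231 196 1 1 (.kill 191 232 196 1 1 (.kill 143 233 229 1 1 (.kill 148 234 229 1 1 (.kill 207 235 196 1 1 (.kill 210 236 196 1 1 (.kill 237 238 121 1 1 (.kill 213 239 196 1 1 (.hub 2120))))))))))))) (.kill 227 228 121 1 1 (.split 229 (.split 230 (.kill 181 231 196 1 1 (.kill 191 232 196 1 1 (.kill 162 233 225 1 1 (.kill 163 234 225 1 1 (.kill 207 235 196 1 1 (.kill 210 236 196 1 1 (.kill 237 238 121 1 1 (.kill 213 239 196 1 1 (.hub 2122))))))))) (.kill 181 231 196 1 1 (.kill 191 232 196 1 1 (.kill 162 233 225 1 1 (.kill 163 234 225 1 1 (.kill 207 235 196 1 1 (.kill 210 236 196 1 1 (.kill 237 238 121 1 1 (.kill 213 239 196 1 1 (.hub 2153)))))))))) (.kill 126 230 229 1 1 (.zero 238 121 237 1 1 (.kill 181 231 196 1 1 (.kill 191 232 196 1 1 (.kill 162 233 225 1 1 (.kill 163 234 225 1 1 (.kill 207 235 196 1 1 (.kill 210 236 196 1 1 (.kill 237 238 121 1 1 (.kill 213 239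 196 1 1 (.hub 2152))))))))))))))) (.kill 159 224 196 1 1 (.kill 142 225 223 1 1 (.zero 238 121 237 1 1 (.kill 227 228 121 1 1 (.split 229 (.kill 162 230 223 1 1 (.kill 181 231 196 1 1 (.kill 191 232 196 1 1 (.split 233 (.kill 169 234 223 1 1 (.kill 207 235 196 1 1 (.kill 210 236 196 1 1 (.kill 237 238 121 1 1 (.kill 213 239 196 1 1 (.hub 2159)))))) (.kill 169 234 223 1 1 (.kill 207 235 196 1 1 (.kill 210 236 196 1 1 (.kill 237 238 121 1 1 (.kill 213 239 196 1 1 (.hub 2162)))))))))) (.kill 162 230 223 1 1 (.kill 181 231 196 1 1 (.kill 191 232 196 1 1 (.kill 143 233 229 1 1 (.kill 169 234 223 1 1 (.kill 207 235 196 1 1 (.kill 210 236 196 1 1 (.kill 237 238 121 1 1 (.kill 213 239 196 1 1 (.hub 2163)))))))))))))))) (.kill 126 223 222 1 1 (.zero 238 121 237 1 1 (.kill 159 224 196 1 1 (.kill 143 225 222 1 1 (.zero 238 121 237 1 1 (.kill 227 228 121 1 1 (.kill 162 229 222 1 1 (.split 230 (.kill 181 231 196 1 1 (.kill 191 232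 196 1 1 (.split 233 (.kill 170 234 222 1 1 (.kill 207 235 196 1 1 (.kill 210 236 196 1 1 (.kill 237 238 121 1 1 (.kill 213 239 196 1 1 (.hub 2158)))))) (.kill 170 234 222 1 1 (.kill 207 235 196 1 1 (.kill 210 236 196 1 1 (.kill 237 238 121 1 1 (.kill 213 239 196 1 1 (.hub 2161))))))))) (.kill 181 231 196 1 1 (.kill 191 232 196 1 1 (.kill 142 233 230 1 1 (.kill 170 234 222 1 1 (.kill 207 235 196 1 1 (.kill 210 236 196 1 1 (.kill 237 238 121 1 1 (.kill 213 239 196 1 1 (.hub 2164))))))))))))))))))) (.kill 220 221 121 1 1 (.split 222 (.kill 135 223 218 1 1 (.zero 238 121 237 1 1 (.kill 159 224 196 1 1 (.kill 147 225 218 1 1 (.zero 238 121 237 1 1 (.kill 227 228 121 1 1 (.split 229 (.kill 163 230 218 1 1 (.kill 181 231 196 1 1 (.kill 191 232 196 1 1 (.kill 169 233 218 1 1 (.split 234 (.kill 207 235 196 1 1 (.kill 210 236 196 1 1 (.kill 237 238 121 1 1 (.kill 213 239 196 1 1 (.hub 2170))))) (.kill 207 235 196 1 1 (.kill 210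 236 196 1 1 (.kill 237 238 121 1 1 (.kill 213 239 196 1 1 (.hub 2172)))))))))) (.kill 163 230 218 1 1 (.kill 181 231 196 1 1 (.kill 191 232 196 1 1 (.kill 169 233 218 1 1 (.kill 148 234 229 1 1 (.kill 207 235 196 1 1 (.kill 210 236 196 1 1 (.kill 237 238 121 1 1 (.kill 213 239 196 1 1 (.hub 2018))))))))))))))))) (.kill 135 223 218 1 1 (.zero 238 121 237 1 1 (.kill 159 224 196 1 1 (.kill 147 225 218 1 1 (.zero 238 121 237 1 1 (.kill 227 228 121 1 1 (.kill 162 229 222 1 1 (.kill 163 230 218 1 1 (.kill 181 231 196 1 1 (.kill 191 232 196 1 1 (.kill 169 233 218 1 1 (.kill 170 234 222 1 1 (.kill 207 235 196 1 1 (.kill 210 236 196 1 1 (.kill 237 238 121 1 1 (.kill 213 239 196 1 1 (.hub 2069)))))))))))))))))))) (.kill 126 218 217 1 1 (.zero 238 121 237 1 1 (.kill 220 221 121 1 1 (.kill 135 222 217 1 1 (.zero 238 121 237 1 1 (.split 223 (.kill 159 224 196 1 1 (.kill 148 225 217 1 1 (.zero 238 121 237 1 1 (.kill 227 228 121 1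 1 (.kill 163 229 217 1 1 (.split 230 (.kill 181 231 196 1 1 (.kill 191 232 196 1 1 (.kill 170 233 217 1 1 (.split 234 (.kill 207 235 196 1 1 (.kill 210 236 196 1 1 (.kill 237 238 121 1 1 (.kill 213 239 196 1 1 (.hub 2169))))) (.kill 207 235 196 1 1 (.kill 210 236 196 1 1 (.kill 237 238 121 1 1 (.kill 213 239 196 1 1 (.hub 2171))))))))) (.kill 181 231 196 1 1 (.kill 191 232 196 1 1 (.kill 170 233 217 1 1 (.kill 147 234 230 1 1 (.kill 207 235 196 1 1 (.kill 210 236 196 1 1 (.kill 237 238 121 1 1 (.kill 213 239 196 1 1 (.hub 2028))))))))))))))) (.kill 159 224 196 1 1 (.kill 148 225 217 1 1 (.zero 238 121 237 1 1 (.kill 227 228 121 1 1 (.kill 163 229 217 1 1 (.kill 162 230 223 1 1 (.kill 181 231 196 1 1 (.kill 191 232 196 1 1 (.kill 170 233 217 1 1 (.kill 169 234 223 1 1 (.kill 207 235 196 1 1 (.kill 210 236 196 1 1 (.kill 237 238 121 1 1 (.kill 213 239 196 1 1 (.hub 2076))))))))))))))))))))))))))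

/-- A tree. -/
def tree2256 : Tree :=
  .split 203 (.zero 239 190 217 1 1 (.kill 142 206 190 1 1 (.zero 238 121 237 1 1 (.kill 208 209 121 1 1 (.kill 211 212 121 1 1 (.split 213 (.kill 215 216 121 1 1 (.split 218 (.kill 220 221 121 1 1 (.split 222 (.kill 159 223 190 1 1 (.split 224 (.split 225 (.kill 227 228 121 1 1 (.split 229 (.kill 181 230 190 1 1 (.split 231 (.kill 197 232 190 1 1 (.split 233 (.kill 207 234 190 1 1 (.split 235 (.kill 214 236 190 1 1 (.kill 237 238 121 1 1 (.kill 217 239 190 1 1 (.hub 2180)))) (.kill 214 236 190 1 1 (.kill 237 238 121 1 1 (.kill 217 239 190 1 1 (.hub 2181)))))) (.kill 207 234 190 1 1 (.kill 136 235 233 1 1 (.kill 214 236 190 1 1 (.kill 237 238 121 1 1 (.kill 217 239 190 1 1 (.hub 2183)))))))) (.kill 197 232 190 1 1 (.kill 141 233 231 1 1 (.kill 207 234 190 1 1 (.kill 147 235 231 1 1 (.kill 214 236 190 1 1 (.kill 237 238 121 1 1 (.kill 217 239 190 1 1 (.hub 2182)))))))))) (.kill 181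 230 190 1 1 (.kill 131 231 229 1 1 (.zero 238 121 237 1 1 (.kill 197 232 190 1 1 (.kill 143 233 229 1 1 (.kill 207 234 190 1 1 (.kill 152 235 229 1 1 (.kill 214 236 190 1 1 (.kill 237 238 121 1 1 (.kill 217 239 190 1 1 (.hub 2188))))))))))))) (.kill 227 228 121 1 1 (.split 229 (.kill 181 230 190 1 1 (.split 231 (.kill 197 232 190 1 1 (.kill 162 233 225 1 1 (.kill 207 234 190 1 1 (.kill 164 235 225 1 1 (.kill 214 236 190 1 1 (.kill 237 238 121 1 1 (.kill 217 239 190 1 1 (.hub 2190)))))))) (.kill 197 232 190 1 1 (.kill 162 233 225 1 1 (.kill 207 234 190 1 1 (.kill 164 235 225 1 1 (.kill 214 236 190 1 1 (.kill 237 238 121 1 1 (.kill 217 239 190 1 1 (.hub 2200)))))))))) (.kill 181 230 190 1 1 (.kill 131 231 229 1 1 (.zero 238 121 237 1 1 (.kill 197 232 190 1 1 (.kill 162 233 225 1 1 (.kill 207 234 190 1 1 (.kill 164 235 225 1 1 (.kill 214 236 190 1 1 (.kill 237 238 121 1 1 (.kill 217 239 190 1 1 (.hub 2151))))))))))))))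 (.kill 141 225 224 1 1 (.zero 238 121 237 1 1 (.kill 227 228 121 1 1 (.split 229 (.kill 181 230 190 1 1 (.kill 162 231 224 1 1 (.kill 197 232 190 1 1 (.split 233 (.kill 207 234 190 1 1 (.kill 169 235 224 1 1 (.kill 214 236 190 1 1 (.kill 237 238 121 1 1 (.kill 217 239 190 1 1 (.hub 2189)))))) (.kill 207 234 190 1 1 (.kill 169 235 224 1 1 (.kill 214 236 190 1 1 (.kill 237 238 121 1 1 (.kill 217 239 190 1 1 (.hub 2210)))))))))) (.kill 181 230 190 1 1 (.kill 162 231 224 1 1 (.kill 197 232 190 1 1 (.kill 143 233 229 1 1 (.kill 207 234 190 1 1 (.kill 169 235 224 1 1 (.kill 214 236 190 1 1 (.kill 237 238 121 1 1 (.kill 217 239 190 1 1 (.hub 2211)))))))))))))))) (.kill 159 223 190 1 1 (.kill 131 224 222 1 1 (.zero 238 121 237 1 1 (.kill 143 225 222 1 1 (.zero 238 121 237 1 1 (.kill 227 228 121 1 1 (.kill 162 229 222 1 1 (.kill 181 230 190 1 1 (.split 231 (.kill 197 232 190 1 1 (.split 233 (.kill 207 234 190 1 1 (.kill 174 235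 222 1 1 (.kill 214 236 190 1 1 (.kill 237 238 121 1 1 (.kill 217 239 190 1 1 (.hub 2216)))))) (.kill 207 234 190 1 1 (.kill 174 235 222 1 1 (.kill 214 236 190 1 1 (.kill 237 238 121 1 1 (.kill 217 239 190 1 1 (.hub 2160)))))))) (.kill 197 232 190 1 1 (.kill 141 233 231 1 1 (.kill 207 234 190 1 1 (.kill 174 235 222 1 1 (.kill 214 236 190 1 1 (.kill 237 238 121 1 1 (.kill 217 239 190 1 1 (.hub 2217))))))))))))))))))) (.kill 220 221 121 1 1 (.split 222 (.kill 159 223 190 1 1 (.kill 136 224 218 1 1 (.zero 238 121 237 1 1 (.kill 147 225 218 1 1 (.zero 238 121 237 1 1 (.kill 227 228 121 1 1 (.split 229 (.kill 181 230 190 1 1 (.kill 164 231 218 1 1 (.kill 197 232 190 1 1 (.kill 169 233 218 1 1 (.kill 207 234 190 1 1 (.split 235 (.kill 214 236 190 1 1 (.kill 237 238 121 1 1 (.kill 217 239 190 1 1 (.hub 2218)))) (.kill 214 236 190 1 1 (.kill 237 238 121 1 1 (.kill 217 239 190 1 1 (.hub 2219)))))))))) (.kill 181 230 190 1 1 (.kill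 164 231 218 1 1 (.kill 197 232 190 1 1 (.kill 169 233 218 1 1 (.kill 207 234 190 1 1 (.kill 152 235 229 1 1 (.kill 214 236 190 1 1 (.kill 237 238 121 1 1 (.kill 217 239 190 1 1 (.hub 2017))))))))))))))))) (.kill 159 223 190 1 1 (.kill 136 224 218 1 1 (.zero 238 121 237 1 1 (.kill 147 225 218 1 1 (.zero 238 121 237 1 1 (.kill 227 228 121 1 1 (.kill 162 229 222 1 1 (.kill 181 230 190 1 1 (.kill 164 231 218 1 1 (.kill 197 232 190 1 1 (.kill 169 233 218 1 1 (.kill 207 234 190 1 1 (.kill 174 235 222 1 1 (.kill 214 236 190 1 1 (.kill 237 238 121 1 1 (.kill 217 239 190 1 1 (.hub 2068))))))))))))))))))))) (.kill 215 216 121 1 1 (.kill 131 218 213 1 1 (.zero 238 121 237 1 1 (.kill 220 221 121 1 1 (.kill 136 222 213 1 1 (.zero 238 121 237 1 1 (.kill 159 223 190 1 1 (.split 224 (.kill 152 225 213 1 1 (.zero 238 121 237 1 1 (.kill 227 228 121 1 1 (.kill 164 229 213 1 1 (.kill 181 230 190 1 1 (.split 231 (.kill 197 232 190 1 1 (.kill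 174 233 213 1 1 (.kill 207 234 190 1 1 (.split 235 (.kill 214 236 190 1 1 (.kill 237 238 121 1 1 (.kill 217 239 190 1 1 (.hub 2224)))) (.kill 214 236 190 1 1 (.kill 237 238 121 1 1 (.kill 217 239 190 1 1 (.hub 2237)))))))) (.kill 197 232 190 1 1 (.kill 174 233 213 1 1 (.kill 207 234 190 1 1 (.kill 147 235 231 1 1 (.kill 214 236 190 1 1 (.kill 237 238 121 1 1 (.kill 217 239 190 1 1 (.hub 2027)))))))))))))) (.kill 152 225 213 1 1 (.zero 238 121 237 1 1 (.kill 227 228 121 1 1 (.kill 164 229 213 1 1 (.kill 181 230 190 1 1 (.kill 162 231 224 1 1 (.kill 197 232 190 1 1 (.kill 174 233 213 1 1 (.kill 207 234 190 1 1 (.kill 169 235 224 1 1 (.kill 214 236 190 1 1 (.kill 237 238 121 1 1 (.kill 217 239 190 1 1 (.hub 2075)))))))))))))))))))))))))))) (.kill 142 206 190 1 1 (.zero 238 121 237 1 1 (.zero 239 190 217 1 1 (.kill 208 209 121 1 1 (.kill 211 212 121 1 1 (.kill 141 213 203 1 1 (.zero 238 121 237 1 1 (.kill 215 216 121 1 1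 (.kill 143 218 203 1 1 (.zero 238 121 237 1 1 (.kill 220 221 121 1 1 (.kill 147 222 203 1 1 (.zero 238 121 237 1 1 (.kill 159 223 190 1 1 (.kill 152 224 203 1 1 (.zero 238 121 237 1 1 (.split 225 (.kill 227 228 121 1 1 (.kill 169 229 203 1 1 (.kill 181 230 190 1 1 (.kill 174 231 203 1 1 (.kill 197 232 190 1 1 (.split 233 (.kill 207 234 190 1 1 (.split 235 (.kill 214 236 190 1 1 (.kill 237 238 121 1 1 (.kill 217 239 190 1 1 (.hub 2242)))) (.kill 214 236 190 1 1 (.kill 237 238 121 1 1 (.kill 217 239 190 1 1 (.hub 2255)))))) (.kill 207 234 190 1 1 (.kill 136 235 233 1 1 (.kill 214 236 190 1 1 (.kill 237 238 121 1 1 (.kill 217 239 190 1 1 (.hub 2056)))))))))))) (.kill 227 228 121 1 1 (.kill 169 229 203 1 1 (.kill 181 230 190 1 1 (.kill 174 231 203 1 1 (.kill 197 232 190 1 1 (.kill 162 233 225 1 1 (.kill 207 234 190 1 1 (.kill 164 235 225 1 1 (.kill 214 236 190 1 1 (.kill 237 238 121 1 1 (.kill 217 239 190 1 1 (.hub 2101)))))))))))))))))))))))))))))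

/-- A tree. -/
def tree2273 : Tree :=
  .split 203 (.zero 239 187 218 1 1 (.kill 143 206 187 1 1 (.zero 238 121 237 1 1 (.kill 208 209 121 1 1 (.kill 211 212 121 1 1 (.split 213 (.kill 215 216 121 1 1 (.split 217 (.kill 220 221 121 1 1 (.kill 159 222 187 1 1 (.split 223 (.split 224 (.split 225 (.kill 227 228 121 1 1 (.kill 181 229 187 1 1 (.split 230 (.split 231 (.kill 200 232 187 1 1 (.split 233 (.kill 210 234 187 1 1 (.kill 214 235 187 1 1 (.split 236 (.kill 237 238 121 1 1 (.kill 218 239 187 1 1 (.hub 2257))) (.kill 237 238 121 1 1 (.kill 218 239 187 1 1 (.hub 2258)))))) (.kill 210 234 187 1 1 (.kill 214 235 187 1 1 (.kill 137 236 233 1 1 (.kill 237 238 121 1 1 (.kill 218 239 187 1 1 (.hub 2261)))))))) (.kill 200 232 187 1 1 (.kill 141 233 231 1 1 (.kill 210 234 187 1 1 (.kill 214 235 187 1 1 (.kill 148 236 231 1 1 (.kill 237 238 121 1 1 (.kill 218 239 187 1 1 (.hub 2260))))))))) (.kill 130 231 230 1 1 (.zero 238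 121 237 1 1 (.kill 200 232 187 1 1 (.kill 142 233 230 1 1 (.kill 210 234 187 1 1 (.kill 214 235 187 1 1 (.kill 152 236 230 1 1 (.kill 237 238 121 1 1 (.kill 218 239 187 1 1 (.hub 2259))))))))))))) (.kill 227 228 121 1 1 (.kill 181 229 187 1 1 (.split 230 (.split 231 (.kill 200 232 187 1 1 (.kill 162 233 225 1 1 (.kill 210 234 187 1 1 (.kill 214 235 187 1 1 (.kill 165 236 225 1 1 (.kill 237 238 121 1 1 (.kill 218 239 187 1 1 (.hub 2264)))))))) (.kill 200 232 187 1 1 (.kill 162 233 225 1 1 (.kill 210 234 187 1 1 (.kill 214 235 187 1 1 (.kill 165 236 225 1 1 (.kill 237 238 121 1 1 (.kill 218 239 187 1 1 (.hub 2199))))))))) (.kill 130 231 230 1 1 (.zero 238 121 237 1 1 (.kill 200 232 187 1 1 (.kill 162 233 225 1 1 (.kill 210 234 187 1 1 (.kill 214 235 187 1 1 (.kill 165 236 225 1 1 (.kill 237 238 121 1 1 (.kill 218 239 187 1 1 (.hub 2198)))))))))))))) (.kill 141 225 224 1 1 (.zero 238 121 237 1 1 (.kill 227 228 121 1 1 (.kill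 181 229 187 1 1 (.split 230 (.kill 162 231 224 1 1 (.kill 200 232 187 1 1 (.split 233 (.kill 210 234 187 1 1 (.kill 214 235 187 1 1 (.kill 170 236 224 1 1 (.kill 237 238 121 1 1 (.kill 218 239 187 1 1 (.hub 2263)))))) (.kill 210 234 187 1 1 (.kill 214 235 187 1 1 (.kill 170 236 224 1 1 (.kill 237 238 121 1 1 (.kill 218 239 187 1 1 (.hub 2209))))))))) (.kill 162 231 224 1 1 (.kill 200 232 187 1 1 (.kill 142 233 230 1 1 (.kill 210 234 187 1 1 (.kill 214 235 187 1 1 (.kill 170 236 224 1 1 (.kill 237 238 121 1 1 (.kill 218 239 187 1 1 (.hub 2265))))))))))))))) (.kill 130 224 223 1 1 (.zero 238 121 237 1 1 (.kill 142 225 223 1 1 (.zero 238 121 237 1 1 (.kill 227 228 121 1 1 (.kill 181 229 187 1 1 (.kill 162 230 223 1 1 (.split 231 (.kill 200 232 187 1 1 (.split 233 (.kill 210 234 187 1 1 (.kill 214 235 187 1 1 (.kill 174 236 223 1 1 (.kill 237 238 121 1 1 (.kill 218 239 187 1 1 (.hub 2262)))))) (.kill 210 234 187 1 1 (.kill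 214 235 187 1 1 (.kill 174 236 223 1 1 (.kill 237 238 121 1 1 (.kill 218 239 187 1 1 (.hub 2208)))))))) (.kill 200 232 187 1 1 (.kill 141 233 231 1 1 (.kill 210 234 187 1 1 (.kill 214 235 187 1 1 (.kill 174 236 223 1 1 (.kill 237 238 121 1 1 (.kill 218 239 187 1 1 (.hub 2266))))))))))))))))))) (.kill 220 221 121 1 1 (.kill 159 222 187 1 1 (.split 223 (.kill 137 224 217 1 1 (.zero 238 121 237 1 1 (.kill 148 225 217 1 1 (.zero 238 121 237 1 1 (.kill 227 228 121 1 1 (.kill 181 229 187 1 1 (.split 230 (.kill 165 231 217 1 1 (.kill 200 232 187 1 1 (.kill 170 233 217 1 1 (.kill 210 234 187 1 1 (.kill 214 235 187 1 1 (.split 236 (.kill 237 238 121 1 1 (.kill 218 239 187 1 1 (.hub 2268))) (.kill 237 238 121 1 1 (.kill 218 239 187 1 1 (.hub 2270))))))))) (.kill 165 231 217 1 1 (.kill 200 232 187 1 1 (.kill 170 233 217 1 1 (.kill 210 234 187 1 1 (.kill 214 235 187 1 1 (.kill 152 236 230 1 1 (.kill 237 238 121 1 1 (.kill 218 239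 187 1 1 (.hub 2016)))))))))))))))) (.kill 137 224 217 1 1 (.zero 238 121 237 1 1 (.kill 148 225 217 1 1 (.zero 238 121 237 1 1 (.kill 227 228 121 1 1 (.kill 181 229 187 1 1 (.kill 162 230 223 1 1 (.kill 165 231 217 1 1 (.kill 200 232 187 1 1 (.kill 170 233 217 1 1 (.kill 210 234 187 1 1 (.kill 214 235 187 1 1 (.kill 174 236 223 1 1 (.kill 237 238 121 1 1 (.kill 218 239 187 1 1 (.hub 2067))))))))))))))))))))) (.kill 215 216 121 1 1 (.kill 130 217 213 1 1 (.zero 238 121 237 1 1 (.kill 220 221 121 1 1 (.kill 159 222 187 1 1 (.kill 137 223 213 1 1 (.zero 238 121 237 1 1 (.split 224 (.kill 152 225 213 1 1 (.zero 238 121 237 1 1 (.kill 227 228 121 1 1 (.kill 181 229 187 1 1 (.kill 165 230 213 1 1 (.split 231 (.kill 200 232 187 1 1 (.kill 174 233 213 1 1 (.kill 210 234 187 1 1 (.kill 214 235 187 1 1 (.split 236 (.kill 237 238 121 1 1 (.kill 218 239 187 1 1 (.hub 2267))) (.kill 237 238 121 1 1 (.kill 218 239 187 1 1 (.hub 2269))))))))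 (.kill 200 232 187 1 1 (.kill 174 233 213 1 1 (.kill 210 234 187 1 1 (.kill 214 235 187 1 1 (.kill 148 236 231 1 1 (.kill 237 238 121 1 1 (.kill 218 239 187 1 1 (.hub 2026)))))))))))))) (.kill 152 225 213 1 1 (.zero 238 121 237 1 1 (.kill 227 228 121 1 1 (.kill 181 229 187 1 1 (.kill 165 230 213 1 1 (.kill 162 231 224 1 1 (.kill 200 232 187 1 1 (.kill 174 233 213 1 1 (.kill 210 234 187 1 1 (.kill 214 235 187 1 1 (.kill 170 236 224 1 1 (.kill 237 238 121 1 1 (.kill 218 239 187 1 1 (.hub 2074)))))))))))))))))))))))))))) (.kill 143 206 187 1 1 (.zero 238 121 237 1 1 (.zero 239 187 218 1 1 (.kill 208 209 121 1 1 (.kill 211 212 121 1 1 (.kill 141 213 203 1 1 (.zero 238 121 237 1 1 (.kill 215 216 121 1 1 (.kill 142 217 203 1 1 (.zero 238 121 237 1 1 (.kill 220 221 121 1 1 (.kill 159 222 187 1 1 (.kill 148 223 203 1 1 (.zero 238 121 237 1 1 (.kill 152 224 203 1 1 (.zero 238 121 237 1 1 (.split 225 (.kill 227 228 121 1 1 (.kill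 181 229 187 1 1 (.kill 170 230 203 1 1 (.kill 174 231 203 1 1 (.kill 200 232 187 1 1 (.split 233 (.kill 210 234 187 1 1 (.kill 214 235 187 1 1 (.split 236 (.kill 237 238 121 1 1 (.kill 218 239 187 1 1 (.hub 2271))) (.kill 237 238 121 1 1 (.kill 218 239 187 1 1 (.hub 2272)))))) (.kill 210 234 187 1 1 (.kill 214 235 187 1 1 (.kill 137 236 233 1 1 (.kill 237 238 121 1 1 (.kill 218 239 187 1 1 (.hub 2055)))))))))))) (.kill 227 228 121 1 1 (.kill 181 229 187 1 1 (.kill 170 230 203 1 1 (.kill 174 231 203 1 1 (.kill 200 232 187 1 1 (.kill 162 233 225 1 1 (.kill 210 234 187 1 1 (.kill 214 235 187 1 1 (.kill 165 236 225 1 1 (.kill 237 238 121 1 1 (.kill 218 239 187 1 1 (.hub 2100)))))))))))))))))))))))))))))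

/-- Trees from index 1683. -/
def trees2_0 : List Tree := [
    .weyl 0 883423532389192164791648750371459257913741948437809479060803100646309888 (.hub 1682),
    .weyl 0 883423532389192164791648750371459257913741948437809479060803100646309888 (.hub 1656),
    .weyl 2 883423532389192164791648750371459257913741948437809479060803100646309888 (.hub 1684),
    .weyl 3 883423532389192164791648750371459257913741948437809479060803100646309888 (.hub 1685),
    .weyl 4 883423532389192164791648750371459257913741948437809479060803100646309888 (.hub 1686),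
    .weyl 1 883423532389192164791648750371459257913741948437809479060803100646309888 (.hub 1687),
    .weyl 3 883423532389192164791648750371459257913741948437809479060803100646309888 (.hub 1688),
    .weyl 2 883423532389192164791648750371459257913741948437809479060803100646309888 (.hub 1689),
    .weyl 0 883423532389192164791648750371459257913741948437809479060803100646309888 (.hub 1690),
    .weyl 1 883423532389192164791648750371459257913741948437809479060803100646309888 (.hub 1660),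
    .weyl 1 883423532389192164791648750371459257913741948437809479060803100646309888 (.hub 1686),
    .weyl 0 883423532389192164791648750371459257913741948437809479060803100646309888 (.hub 1655),
    .weyl 2 883423532389192164791648750371459257913741948437809479060803100646309888 (.hub 1694),
    .weyl 3 883423532389192164791648750371459257913741948437809479060803100646309888 (.hub 1695),
    .weyl 1 883423532389192164791648750371459257913741948437809479060803100646309888 (.hub 1696),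
    .weyl 0 883423532389192164791648750371459257913741948437809479060803100646309888 (.hub 1654),
    .weyl 2 883423532389192164791648750371459257913741948437809479060803100646309888 (.hub 1698),
    .weyl 0 883423532389192164791648750371459257913741948437809479060803100646309888 (.hub 1653),
    .weyl 0 883423532389192164791648750371459257913741948437809479060803100646309888 (.hub 1652)]

theorem trees2_0_ok : allOK tab simples patterns 1683 trees2_0 = true :=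
  Fast.allOK_of_fast (by decide +kernel)

/-- Trees from index 1702. -/
def trees2_1 : List Tree := [
    .weyl 1 883423532389192164791648750371459257913741948437809479060803100646309888 (.hub 1651),
    .split 120 (.split 122 (.split 125 (.split 129 (.split 134 (.split 140 (.split 146 (.split 151 (.split 155 (.split 158 (.split 160 (.split 161 (.split 168 (.split 173 (.split 177 (.split 180 (.split 182 (.split 183 (.split 187 (.split 190 (.split 192 (.split 193 (.split 196 (.split 198 (.split 199 (.split 201 (.split 202 (.split 203 (.split 206 (.split 208 (.split 209 (.split 211 (.split 212 (.split 213 (.split 215 (.split 216 (.split 217 (.split 218 (.split 220 (.split 221 (.split 222 (.split 223 (.split 224 (.split 225 (.split 227 (.split 228 (.split 229 (.split 230 (.split 231 (.split 232 (.split 233 (.split 234 (.split 235 (.split 236 (.split 237 (.split 238 (.split 239 (.hub 0) (.hub 37)) (.hub 1674)) (.hub 1673))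 (.hub 1672)) (.hub 1671)) (.hub 1670)) (.hub 1676)) (.hub 1669)) (.hub 1668)) (.hub 1677)) (.hub 1679)) (.hub 1683)) (.hub 1691)) (.hub 1675)) (.hub 1667)) (.hub 1666)) (.hub 1678)) (.hub 1682)) (.hub 1690)) (.hub 1665)) (.hub 1664)) (.hub 1681)) (.hub 1689)) (.hub 1663)) (.hub 1680)) (.hub 1688)) (.hub 1692)) (.hub 1693)) (.hub 1697)) (.hub 1662)) (.hub 1661)) (.hub 1687)) (.hub 1660)) (.hub 1686)) (.hub 1696)) (.hub 1659)) (.hub 1685)) (.hub 1695)) (.hub 1699)) (.hub 1658)) (.hub 1684)) (.hub 1694)) (.hub 1698)) (.hub 1700)) (.hub 1701)) (.hub 1657)) (.hub 1656)) (.hub 1655)) (.hub 1654)) (.hub 1653)) (.hub 1702)) (.hub 1652)) (.hub 1651)) (.hub 1650)) (.hub 1649)) (.hub 1648)) (.hub 1647),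
    .weyl 7 0 (.hub 10),
    .weyl 0 0 (.hub 53),
    .weyl 3 0 (.hub 1705),
    .weyl 4 0 (.hub 1706),
    .weyl 5 0 (.hub 1707),
    .weyl 6 0 (.hub 1708),
    .weyl 7 0 (.hub 1709),
    .weyl 6 0 (.hub 1710),
    .weyl 5 0 (.hub 1711),
    .weyl 4 0 (.hub 1712),
    .weyl 3 0 (.hub 1713),
    .weyl 1 0 (.hub 1714),
    .weyl 2 0 (.hub 1715),
    .weyl 0 0 (.hub 1716),
    .weyl 3 0 (.hub 1717),
    .weyl 2 0 (.hub 1718),
    .weyl 4 0 (.hub 1719),
    .weyl 3 0 (.hub 1720),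
    .weyl 5 0 (.hub 1721),
    .weyl 4 0 (.hub 1722),
    .weyl 6 0 (.hub 1723),
    .weyl 5 0 (.hub 1724),
    .weyl 7 0 (.hub 1725),
    .weyl 7 0 (.hub 56),
    .weyl 6 0 (.hub 1727),
    .weyl 5 0 (.hub 1728),
    .weyl 4 0 (.hub 1729),
    .weyl 3 0 (.hub 1730),
    .weyl 1 0 (.hub 1731),
    .weyl 2 0 (.hub 1732),
    .weyl 0 0 (.hub 1733),
    .weyl 3 0 (.hub 1734),
    .weyl 2 0 (.hub 1735),
    .weyl 4 0 (.hub 1736),
    .weyl 3 0 (.hub 1737),
    .weyl 5 0 (.hub 1738),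
    .weyl 4 0 (.hub 1739),
    .weyl 5 0 (.hub 1737),
    .weyl 4 0 (.hub 1735),
    .weyl 5 0 (.hub 1742),
    .weyl 7 0 (.hub 88),
    .weyl 6 0 (.hub 1744),
    .weyl 5 0 (.hub 1745),
    .weyl 4 0 (.hub 1746),
    .weyl 3 0 (.hub 1747),
    .weyl 1 0 (.hub 1748),
    .weyl 2 0 (.hub 1749),
    .weyl 0 0 (.hub 1750),
    .weyl 3 0 (.hub 1751),
    .weyl 2 0 (.hub 1752),
    .weyl 4 0 (.hub 1753),
    .weyl 5 0 (.hub 1754),
    .weyl 7 0 (.hub 122),
    .weyl 6 0 (.hub 1756),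
    .weyl 5 0 (.hub 1757),
    .weyl 4 0 (.hub 1758),
    .weyl 3 0 (.hub 1759),
    .weyl 1 0 (.hub 1760),
    .weyl 2 0 (.hub 1761),
    .weyl 0 0 (.hub 1762),
    .weyl 3 0 (.hub 1763),
    .weyl 2 0 (.hub 1764),
    .weyl 4 0 (.hub 1765),
    .weyl 3 0 (.hub 1766),
    .weyl 1 0 (.hub 1767),
    .weyl 5 0 (.hub 1768),
    .weyl 4 0 (.hub 1769),
    .weyl 3 0 (.hub 1770),
    .weyl 2 0 (.hub 1771),
    .weyl 0 0 (.hub 1772),
    .weyl 4 0 (.hub 1752),
    .weyl 5 0 (.hub 1774),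
    .weyl 7 0 (.hub 157),
    .weyl 6 0 (.hub 1776),
    .weyl 5 0 (.hub 1777),
    .weyl 4 0 (.hub 1778),
    .weyl 3 0 (.hub 1779),
    .weyl 1 0 (.hub 1780),
    .weyl 2 0 (.hub 1781),
    .weyl 0 0 (.hub 1782),
    .weyl 3 0 (.hub 1783),
    .weyl 2 0 (.hub 1784),
    .weyl 4 0 (.hub 1785),
    .weyl 3 0 (.hub 1786),
    .weyl 1 0 (.hub 1787),
    .weyl 5 0 (.hub 1788),
    .weyl 4 0 (.hub 1789),
    .weyl 3 0 (.hub 1790),
    .weyl 2 0 (.hub 1791),
    .weyl 0 0 (.hub 1792),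
    .weyl 7 0 (.hub 186),
    .weyl 6 0 (.hub 1794),
    .weyl 5 0 (.hub 1795),
    .weyl 4 0 (.hub 1796),
    .weyl 3 0 (.hub 1797),
    .weyl 1 0 (.hub 1798),
    .weyl 2 0 (.hub 1799),
    .weyl 0 0 (.hub 1800)]

theorem trees2_1_ok : allOK tab simples patterns 1702 trees2_1 = true :=
  Fast.allOK_of_fast (by decide +kernel)

/-- Trees from index 1802. -/
def trees2_2 : List Tree := [
    .weyl 3 0 (.hub 1801),
    .weyl 4 0 (.hub 1802),
    .weyl 5 0 (.hub 1803),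
    .weyl 7 0 (.hub 210),
    .weyl 6 0 (.hub 1805),
    .weyl 5 0 (.hub 1806),
    .weyl 4 0 (.hub 1807),
    .weyl 3 0 (.hub 1808),
    .weyl 1 0 (.hub 1809),
    .weyl 2 0 (.hub 1810),
    .weyl 0 0 (.hub 1811),
    .weyl 3 0 (.hub 1812),
    .weyl 2 0 (.hub 1813),
    .weyl 4 0 (.hub 1814),
    .weyl 3 0 (.hub 1815),
    .weyl 1 0 (.hub 1816),
    .weyl 5 0 (.hub 1817),
    .weyl 4 0 (.hub 1818),
    .weyl 3 0 (.hub 1819),
    .weyl 2 0 (.hub 1820),
    .weyl 0 0 (.hub 1821),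
    .weyl 7 0 (.hub 239),
    .weyl 6 0 (.hub 1823),
    .weyl 5 0 (.hub 1824),
    .weyl 4 0 (.hub 1825),
    .weyl 3 0 (.hub 1826),
    .weyl 1 0 (.hub 1827),
    .weyl 2 0 (.hub 1828),
    .weyl 0 0 (.hub 1829),
    .weyl 3 0 (.hub 1830),
    .weyl 4 0 (.hub 1831),
    .weyl 5 0 (.hub 1832),
    .weyl 7 0 (.hub 263),
    .weyl 6 0 (.hub 1834),
    .weyl 5 0 (.hub 1835),
    .weyl 4 0 (.hub 1836),
    .weyl 3 0 (.hub 1837),
    .weyl 1 0 (.hub 1838),
    .weyl 2 0 (.hub 1839),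
    .weyl 0 0 (.hub 1840),
    .weyl 3 0 (.hub 1841),
    .weyl 2 0 (.hub 1842),
    .weyl 4 0 (.hub 1843),
    .weyl 3 0 (.hub 1844),
    .weyl 1 0 (.hub 1845),
    .weyl 5 0 (.hub 1846),
    .weyl 4 0 (.hub 1847),
    .weyl 3 0 (.hub 1848),
    .weyl 2 0 (.hub 1849),
    .weyl 0 0 (.hub 1850),
    .weyl 3 0 (.hub 1733),
    .weyl 4 0 (.hub 1852),
    .weyl 5 0 (.hub 1853),
    .weyl 3 0 (.hub 1750),
    .weyl 4 0 (.hub 1855),
    .weyl 5 0 (.hub 1856),
    .weyl 5 0 (.hub 1767),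
    .weyl 4 0 (.hub 1858),
    .weyl 3 0 (.hub 1800),
    .weyl 4 0 (.hub 1860),
    .weyl 5 0 (.hub 1861),
    .weyl 5 0 (.hub 1787),
    .weyl 4 0 (.hub 1863),
    .weyl 5 0 (.hub 1766),
    .weyl 3 0 (.hub 1829),
    .weyl 4 0 (.hub 1866),
    .weyl 5 0 (.hub 1867),
    .weyl 5 0 (.hub 1786),
    tree1870,
    .weyl 7 0 (.hub 465),
    .weyl 6 0 (.hub 1871),
    .weyl 5 0 (.hub 1872),
    .weyl 4 0 (.hub 1873),
    .weyl 3 0 (.hub 1874),
    .weyl 1 0 (.hub 1875),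
    .weyl 2 0 (.hub 1876),
    .weyl 3 0 (.hub 1877),
    .weyl 4 0 (.hub 1878),
    .weyl 5 0 (.hub 1879),
    .weyl 5 0 (.hub 1816),
    .weyl 4 0 (.hub 1881),
    .weyl 4 0 (.hub 1764),
    .weyl 5 0 (.hub 1883),
    .weyl 3 0 (.hub 1762),
    .weyl 4 0 (.hub 1885),
    .weyl 5 0 (.hub 1886),
    .weyl 7 0 (.hub 558),
    .weyl 6 0 (.hub 1888),
    .weyl 5 0 (.hub 1889),
    .weyl 4 0 (.hub 1890),
    .weyl 3 0 (.hub 1891),
    .weyl 1 0 (.hub 1892),
    .weyl 2 0 (.hub 1893),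
    .weyl 3 0 (.hub 1894),
    .weyl 4 0 (.hub 1895),
    .weyl 5 0 (.hub 1896),
    .weyl 4 0 (.hub 1784),
    .weyl 5 0 (.hub 1898),
    .weyl 3 0 (.hub 1782),
    .weyl 4 0 (.hub 1900)]

theorem trees2_2_ok : allOK tab simples patterns 1802 trees2_2 = true :=
  Fast.allOK_of_fast (by decide +kernel)

/-- Trees from index 1902. -/
def trees2_3 : List Tree := [
    .weyl 5 0 (.hub 1901),
    .weyl 7 0 (.hub 731),
    .weyl 6 0 (.hub 1903),
    .weyl 5 0 (.hub 1904),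
    .weyl 4 0 (.hub 1905),
    .weyl 3 0 (.hub 1906),
    .weyl 1 0 (.hub 1907),
    .weyl 2 0 (.hub 1908),
    .weyl 3 0 (.hub 1909),
    .weyl 4 0 (.hub 1910),
    .weyl 5 0 (.hub 1911),
    .weyl 5 0 (.hub 1815),
    .weyl 4 0 (.hub 1813),
    .weyl 5 0 (.hub 1914),
    .weyl 3 0 (.hub 1811),
    .weyl 4 0 (.hub 1916),
    .weyl 5 0 (.hub 1917),
    .weyl 7 0 (.hub 48),
    .weyl 3 0 (.hub 109),
    .weyl 4 0 (.hub 1920),
    .weyl 5 0 (.hub 1921),
    .weyl 4 0 (.hub 1922),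
    .weyl 3 0 (.hub 1923),
    .weyl 1 0 (.hub 1924),
    .weyl 2 0 (.hub 1925),
    .weyl 3 0 (.hub 1926),
    .weyl 4 0 (.hub 1927),
    .weyl 6 0 (.hub 1928),
    .weyl 5 0 (.hub 1929),
    .weyl 4 0 (.hub 1930),
    .weyl 3 0 (.hub 1931),
    .weyl 1 0 (.hub 1932),
    .weyl 2 0 (.hub 1933),
    .weyl 0 0 (.hub 1934),
    .weyl 3 0 (.hub 1935),
    .weyl 2 0 (.hub 1936),
    .weyl 4 0 (.hub 1937),
    .weyl 3 0 (.hub 1938),
    .weyl 1 0 (.hub 1939),
    .weyl 5 0 (.hub 1940),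
    .weyl 6 0 (.hub 1941),
    .weyl 7 0 (.hub 1942),
    .weyl 6 0 (.hub 1943),
    .weyl 5 0 (.hub 1944),
    .weyl 4 0 (.hub 1945),
    .weyl 3 0 (.hub 1946),
    .weyl 2 0 (.hub 1947),
    .weyl 2 0 (.hub 3),
    .weyl 0 0 (.hub 1949),
    .weyl 3 0 (.hub 1950),
    .weyl 2 0 (.hub 1951),
    .weyl 4 0 (.hub 1952),
    .weyl 3 0 (.hub 1953),
    .weyl 1 0 (.hub 1954),
    .weyl 2 0 (.hub 1955),
    .weyl 0 0 (.hub 1956),
    .weyl 3 0 (.hub 1957),
    .weyl 2 0 (.hub 1958),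
    .weyl 4 0 (.hub 1959),
    .weyl 3 0 (.hub 1960),
    .weyl 5 0 (.hub 1961),
    .weyl 4 0 (.hub 1962),
    .weyl 6 0 (.hub 1963),
    .weyl 5 0 (.hub 1964),
    .weyl 4 0 (.hub 1965),
    .weyl 3 0 (.hub 1966),
    .weyl 1 0 (.hub 1967),
    .weyl 2 0 (.hub 1968),
    .weyl 0 0 (.hub 1969),
    .weyl 3 0 (.hub 1970),
    .weyl 2 0 (.hub 1971),
    .weyl 4 0 (.hub 1972),
    .weyl 3 0 (.hub 1973),
    .weyl 1 0 (.hub 1974),
    .weyl 5 0 (.hub 1975),
    .weyl 6 0 (.hub 1976),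
    .weyl 7 0 (.hub 1977),
    .weyl 6 0 (.hub 1978),
    .weyl 5 0 (.hub 1979),
    .weyl 4 0 (.hub 1980),
    .weyl 3 0 (.hub 1981),
    .weyl 0 0 (.hub 5),
    .weyl 4 0 (.hub 1983),
    .weyl 3 0 (.hub 1984),
    .weyl 1 0 (.hub 1985),
    .weyl 2 0 (.hub 1986),
    .weyl 0 0 (.hub 1987),
    .weyl 3 0 (.hub 1988),
    .weyl 2 0 (.hub 1989),
    .weyl 4 0 (.hub 1990),
    .weyl 3 0 (.hub 1991),
    .weyl 5 0 (.hub 1992),
    .weyl 6 0 (.hub 1993),
    .weyl 5 0 (.hub 1994),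
    .weyl 4 0 (.hub 1995),
    .weyl 3 0 (.hub 1996),
    .weyl 1 0 (.hub 1997),
    .weyl 2 0 (.hub 1998),
    .weyl 0 0 (.hub 1999),
    .weyl 3 0 (.hub 2000)]

theorem trees2_3_ok : allOK tab simples patterns 1902 trees2_3 = true :=
  Fast.allOK_of_fast (by decide +kernel)

/-- Trees from index 2002. -/
def trees2_4 : List Tree := [
    .weyl 2 0 (.hub 2001),
    .weyl 4 0 (.hub 2002),
    .weyl 3 0 (.hub 2003),
    .weyl 1 0 (.hub 2004),
    .weyl 5 0 (.hub 2005),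
    .weyl 4 0 (.hub 2006),
    .weyl 3 0 (.hub 2007),
    .weyl 2 0 (.hub 2008),
    .weyl 0 0 (.hub 2009),
    .weyl 6 0 (.hub 2010),
    .weyl 5 0 (.hub 2011),
    .weyl 4 0 (.hub 2012),
    .weyl 7 0 (.hub 2013),
    .weyl 6 0 (.hub 2014),
    .weyl 5 0 (.hub 2015),
    .weyl 4 0 (.hub 2016),
    .weyl 3 0 (.hub 2017),
    .weyl 1 0 (.hub 2018),
    .weyl 2 0 (.hub 2019),
    .weyl 3 0 (.hub 2020),
    .weyl 4 0 (.hub 2021),
    .weyl 3 0 (.hub 2013),
    .weyl 7 0 (.hub 2023),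
    .weyl 6 0 (.hub 2024),
    .weyl 5 0 (.hub 2025),
    .weyl 4 0 (.hub 2026),
    .weyl 3 0 (.hub 2027),
    .weyl 1 0 (.hub 2028),
    .weyl 2 0 (.hub 2029),
    .weyl 3 0 (.hub 2030),
    .weyl 4 0 (.hub 2031),
    .weyl 3 0 (.hub 1963),
    .weyl 6 0 (.hub 2033),
    .weyl 5 0 (.hub 2034),
    .weyl 4 0 (.hub 2035),
    .weyl 3 0 (.hub 2036),
    .weyl 1 0 (.hub 2037),
    .weyl 2 0 (.hub 2038),
    .weyl 0 0 (.hub 2039),
    .weyl 3 0 (.hub 2040),
    .weyl 2 0 (.hub 2041),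
    .weyl 4 0 (.hub 2042),
    .weyl 3 0 (.hub 2043),
    .weyl 1 0 (.hub 2044),
    .weyl 5 0 (.hub 2045),
    .weyl 6 0 (.hub 2046),
    .weyl 7 0 (.hub 2047),
    .weyl 6 0 (.hub 2048),
    .weyl 5 0 (.hub 2049),
    .weyl 4 0 (.hub 2050),
    .weyl 1 0 (.hub 2023),
    .weyl 7 0 (.hub 2052),
    .weyl 6 0 (.hub 2053),
    .weyl 5 0 (.hub 2054),
    .weyl 4 0 (.hub 2055),
    .weyl 3 0 (.hub 2056),
    .weyl 1 0 (.hub 2057),
    .weyl 2 0 (.hub 2058),
    .weyl 3 0 (.hub 2059),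
    .weyl 4 0 (.hub 2060),
    .weyl 6 0 (.hub 2009),
    .weyl 5 0 (.hub 2062),
    .weyl 4 0 (.hub 2063),
    .weyl 7 0 (.hub 2064),
    .weyl 6 0 (.hub 2065),
    .weyl 5 0 (.hub 2066),
    .weyl 4 0 (.hub 2067),
    .weyl 3 0 (.hub 2068),
    .weyl 1 0 (.hub 2069),
    .weyl 3 0 (.hub 2064),
    .weyl 7 0 (.hub 2071),
    .weyl 6 0 (.hub 2072),
    .weyl 5 0 (.hub 2073),
    .weyl 4 0 (.hub 2074),
    .weyl 3 0 (.hub 2075),
    .weyl 1 0 (.hub 2076),
    tree2078,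
    .weyl 2 0 (.hub 2033),
    .weyl 6 0 (.hub 2079),
    .weyl 5 0 (.hub 2080),
    .weyl 4 0 (.hub 2081),
    .weyl 3 0 (.hub 2082),
    .weyl 1 0 (.hub 2083),
    .weyl 2 0 (.hub 2084),
    .weyl 0 0 (.hub 2085),
    .weyl 3 0 (.hub 2086),
    .weyl 2 0 (.hub 2087),
    .weyl 4 0 (.hub 2088),
    .weyl 3 0 (.hub 2089),
    .weyl 1 0 (.hub 2090),
    .weyl 5 0 (.hub 2091),
    .weyl 6 0 (.hub 2092),
    .weyl 7 0 (.hub 2093),
    .weyl 6 0 (.hub 2094),
    .weyl 5 0 (.hub 2095),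
    .weyl 1 0 (.hub 2071),
    .weyl 7 0 (.hub 2097),
    .weyl 6 0 (.hub 2098),
    .weyl 5 0 (.hub 2099),
    .weyl 4 0 (.hub 2100)]

theorem trees2_4_ok : allOK tab simples patterns 2002 trees2_4 = true :=
  Fast.allOK_of_fast (by decide +kernel)

/-- Trees from index 2102. -/
def trees2_5 : List Tree := [
    .weyl 3 0 (.hub 2101),
    .weyl 1 0 (.hub 2102),
    tree2104,
    .weyl 5 0 (.hub 1845),
    .weyl 4 0 (.hub 2105),
    .weyl 5 0 (.hub 1844),
    .weyl 4 0 (.hub 1842),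
    .weyl 5 0 (.hub 2108),
    .weyl 3 0 (.hub 1840),
    .weyl 4 0 (.hub 2110),
    .weyl 5 0 (.hub 2111),
    .weyl 7 0 (.hub 80),
    .weyl 1 0 (.hub 1947),
    .weyl 2 0 (.hub 2114),
    .weyl 5 0 (.hub 1939),
    .weyl 6 0 (.hub 2116),
    .weyl 7 0 (.hub 2117),
    .weyl 6 0 (.hub 2118),
    .weyl 5 0 (.hub 2119),
    .weyl 4 0 (.hub 2120),
    .weyl 1 0 (.hub 1982),
    .weyl 1 0 (.hub 1992),
    .weyl 5 0 (.hub 2123),
    .weyl 6 0 (.hub 2124),
    .weyl 5 0 (.hub 2125),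
    .weyl 4 0 (.hub 2126),
    .weyl 3 0 (.hub 2127),
    .weyl 1 0 (.hub 2128),
    .weyl 2 0 (.hub 2129),
    .weyl 0 0 (.hub 2130),
    .weyl 3 0 (.hub 2131),
    .weyl 2 0 (.hub 2132),
    .weyl 4 0 (.hub 2133),
    .weyl 3 0 (.hub 2134),
    .weyl 1 0 (.hub 2135),
    .weyl 5 0 (.hub 2136),
    .weyl 4 0 (.hub 2137),
    .weyl 3 0 (.hub 2138),
    .weyl 2 0 (.hub 2139),
    .weyl 0 0 (.hub 2140),
    .weyl 6 0 (.hub 2141),
    .weyl 5 0 (.hub 2142),
    .weyl 4 0 (.hub 2143),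
    .weyl 7 0 (.hub 2144),
    .weyl 6 0 (.hub 2145),
    .weyl 5 0 (.hub 2146),
    .weyl 4 0 (.hub 2147),
    .weyl 3 0 (.hub 2148),
    .weyl 1 0 (.hub 2149),
    .weyl 2 0 (.hub 2150),
    .weyl 3 0 (.hub 2151),
    .weyl 4 0 (.hub 2152),
    .weyl 5 0 (.hub 1974),
    .weyl 6 0 (.hub 2154),
    .weyl 7 0 (.hub 2155),
    .weyl 6 0 (.hub 2156),
    .weyl 5 0 (.hub 2157),
    .weyl 4 0 (.hub 2158),
    .weyl 0 0 (.hub 2151),
    .weyl 3 0 (.hub 2160),
    .weyl 4 0 (.hub 2161),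
    .weyl 2 0 (.hub 2018),
    .weyl 2 0 (.hub 2028),
    .weyl 5 0 (.hub 2044),
    .weyl 6 0 (.hub 2165),
    .weyl 7 0 (.hub 2166),
    .weyl 6 0 (.hub 2167),
    .weyl 5 0 (.hub 2168),
    .weyl 4 0 (.hub 2169),
    .weyl 2 0 (.hub 2161),
    .weyl 4 0 (.hub 2171)]

theorem trees2_5_ok : allOK tab simples patterns 2102 trees2_5 = true :=
  Fast.allOK_of_fast (by decide +kernel)

/-- Trees from index 2173. -/
def trees2_6 : List Tree := [
    tree2173,
    .weyl 5 0 (.hub 2090),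
    .weyl 6 0 (.hub 2174),
    .weyl 7 0 (.hub 2175),
    .weyl 6 0 (.hub 2176),
    .weyl 5 0 (.hub 2177),
    .weyl 2 0 (.hub 2057),
    .weyl 7 0 (.hub 178),
    .weyl 3 0 (.hub 2115),
    .weyl 3 0 (.hub 2121),
    .weyl 1 0 (.hub 2182),
    .weyl 5 0 (.hub 1938),
    .weyl 6 0 (.hub 2184),
    .weyl 7 0 (.hub 2185),
    .weyl 6 0 (.hub 2186),
    .weyl 5 0 (.hub 2187),
    .weyl 3 0 (.hub 2159),
    .weyl 1 0 (.hub 2189),
    .weyl 3 0 (.hub 2144),
    .weyl 7 0 (.hub 2191),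
    .weyl 6 0 (.hub 2192),
    .weyl 5 0 (.hub 2193),
    .weyl 4 0 (.hub 2194),
    .weyl 3 0 (.hub 2195),
    .weyl 1 0 (.hub 2196),
    .weyl 2 0 (.hub 2197),
    .weyl 3 0 (.hub 2198),
    .weyl 4 0 (.hub 2199),
    .weyl 2 0 (.hub 2191),
    .weyl 7 0 (.hub 2201),
    .weyl 6 0 (.hub 2202),
    .weyl 5 0 (.hub 2203),
    .weyl 4 0 (.hub 2204),
    .weyl 3 0 (.hub 2205),
    .weyl 1 0 (.hub 2206),
    .weyl 2 0 (.hub 2207),
    .weyl 3 0 (.hub 2208),
    .weyl 4 0 (.hub 2209),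
    .weyl 2 0 (.hub 2149),
    .weyl 5 0 (.hub 1973),
    .weyl 6 0 (.hub 2212),
    .weyl 7 0 (.hub 2213),
    .weyl 6 0 (.hub 2214),
    .weyl 5 0 (.hub 2215),
    .weyl 0 0 (.hub 2211),
    .weyl 3 0 (.hub 2170),
    .weyl 3 0 (.hub 2172),
    .weyl 5 0 (.hub 2043),
    .weyl 6 0 (.hub 2220),
    .weyl 7 0 (.hub 2221),
    .weyl 6 0 (.hub 2222),
    .weyl 5 0 (.hub 2223),
    .weyl 6 0 (.hub 2140),
    .weyl 5 0 (.hub 2225),
    .weyl 4 0 (.hub 2226),
    .weyl 7 0 (.hub 2227),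
    .weyl 6 0 (.hub 2228),
    .weyl 5 0 (.hub 2229),
    .weyl 4 0 (.hub 2230),
    .weyl 3 0 (.hub 2231),
    .weyl 1 0 (.hub 2232),
    .weyl 2 0 (.hub 2233),
    .weyl 0 0 (.hub 2234),
    .weyl 3 0 (.hub 2235),
    .weyl 2 0 (.hub 2236),
    .weyl 5 0 (.hub 2089),
    .weyl 6 0 (.hub 2238),
    .weyl 7 0 (.hub 2239),
    .weyl 6 0 (.hub 2240),
    .weyl 5 0 (.hub 2241),
    .weyl 6 0 (.hub 2139),
    .weyl 5 0 (.hub 2243),
    .weyl 4 0 (.hub 2244),
    .weyl 7 0 (.hub 2245),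
    .weyl 6 0 (.hub 2246),
    .weyl 5 0 (.hub 2247),
    .weyl 4 0 (.hub 2248),
    .weyl 3 0 (.hub 2249),
    .weyl 1 0 (.hub 2250),
    .weyl 2 0 (.hub 2251),
    .weyl 0 0 (.hub 2252),
    .weyl 3 0 (.hub 2253),
    .weyl 2 0 (.hub 2254)]

theorem trees2_6_ok : allOK tab simples patterns 2173 trees2_6 = true :=
  Fast.allOK_of_fast (by decide +kernel)

/-- Trees from index 2256. -/
def trees2_7 : List Tree := [
    tree2256,
    .weyl 7 0 (.hub 231),
    .weyl 4 0 (.hub 2181),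
    .weyl 4 0 (.hub 2188),
    .weyl 3 0 (.hub 2259),
    .weyl 1 0 (.hub 2260),
    .weyl 4 0 (.hub 2216),
    .weyl 3 0 (.hub 2262),
    .weyl 1 0 (.hub 2263),
    .weyl 2 0 (.hub 2196),
    .weyl 2 0 (.hub 2206),
    .weyl 4 0 (.hub 2224),
    .weyl 3 0 (.hub 2267),
    .weyl 4 0 (.hub 2237),
    .weyl 3 0 (.hub 2269),
    .weyl 4 0 (.hub 2242),
    .weyl 4 0 (.hub 2255)]

theorem trees2_7_ok : allOK tab simples patterns 2256 trees2_7 = true :=
  Fast.allOK_of_fast (by decide +kernel)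

/-- Trees from index 2273. -/
def trees2_8 : List Tree := [
    tree2273,
    .weyl 7 0 (.hub 457),
    .weyl 2 0 (.hub 2183),
    .weyl 3 0 (.hub 2275),
    .weyl 2 0 (.hub 2182),
    .weyl 4 0 (.hub 1936),
    .weyl 5 0 (.hub 2278),
    .weyl 6 0 (.hub 2279),
    .weyl 7 0 (.hub 2280),
    .weyl 6 0 (.hub 2281),
    .weyl 5 0 (.hub 2282),
    .weyl 2 0 (.hub 2190),
    .weyl 1 0 (.hub 2191),
    .weyl 7 0 (.hub 2285),
    .weyl 6 0 (.hub 2286),
    .weyl 5 0 (.hub 2287),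
    .weyl 4 0 (.hub 2288),
    .weyl 3 0 (.hub 2289),
    .weyl 1 0 (.hub 2290),
    .weyl 2 0 (.hub 2291),
    .weyl 3 0 (.hub 2292),
    .weyl 4 0 (.hub 2293),
    .weyl 2 0 (.hub 2189),
    .weyl 2 0 (.hub 2285),
    .weyl 7 0 (.hub 2296),
    .weyl 6 0 (.hub 2297),
    .weyl 5 0 (.hub 2298),
    .weyl 4 0 (.hub 2299),
    .weyl 3 0 (.hub 2300),
    .weyl 1 0 (.hub 2301),
    .weyl 2 0 (.hub 2302),
    .weyl 3 0 (.hub 2303),
    .weyl 4 0 (.hub 2304),
    .weyl 2 0 (.hub 2218),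
    .weyl 3 0 (.hub 2296),
    .weyl 7 0 (.hub 2307),
    .weyl 6 0 (.hub 2308),
    .weyl 5 0 (.hub 2309),
    .weyl 4 0 (.hub 2310),
    .weyl 3 0 (.hub 2311),
    .weyl 1 0 (.hub 2312),
    .weyl 2 0 (.hub 2313),
    .weyl 3 0 (.hub 2314),
    .weyl 4 0 (.hub 2315),
    .weyl 4 0 (.hub 1971),
    .weyl 5 0 (.hub 2317),
    .weyl 6 0 (.hub 2318),
    .weyl 7 0 (.hub 2319),
    .weyl 6 0 (.hub 2320),
    .weyl 5 0 (.hub 2321),
    .weyl 2 0 (.hub 2232),
    .weyl 0 0 (.hub 2323),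
    .weyl 6 0 (.hub 2008),
    .weyl 5 0 (.hub 2325),
    .weyl 4 0 (.hub 2326),
    .weyl 7 0 (.hub 2327),
    .weyl 6 0 (.hub 2328),
    .weyl 5 0 (.hub 2329),
    .weyl 4 0 (.hub 2330),
    .weyl 4 0 (.hub 2041),
    .weyl 5 0 (.hub 2332),
    .weyl 6 0 (.hub 2333),
    .weyl 7 0 (.hub 2334),
    .weyl 6 0 (.hub 2335),
    .weyl 5 0 (.hub 2336),
    .weyl 2 0 (.hub 2250),
    .weyl 0 0 (.hub 2338),
    .weyl 3 0 (.hub 2331),
    .weyl 4 0 (.hub 2087),
    .weyl 5 0 (.hub 2341),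
    .weyl 6 0 (.hub 2342),
    .weyl 7 0 (.hub 2343),
    .weyl 6 0 (.hub 2344),
    .weyl 5 0 (.hub 2345),
    .weyl 1 0 (.hub 2340)]

theorem trees2_8_ok : allOK tab simples patterns 2273 trees2_8 = true :=
  Fast.allOK_of_fast (by decide +kernel)

/-- Trees from index 1683. -/
def part2 : List Tree := trees2_0 ++ trees2_1 ++ trees2_2 ++ trees2_3 ++ trees2_4 ++ trees2_5 ++ trees2_6 ++ trees2_7 ++ trees2_8

theorem part2_ok : allOK tab simples patterns 1683 part2 = true :=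
  (allOK_append _ _ 1683 2273 (allOK_append _ _ 1683 2256 (allOK_append _ _ 1683 2173 (allOK_append _ _ 1683 2102 (allOK_append _ _ 1683 2002 (allOK_append _ _ 1683 1902 (allOK_append _ _ 1683 1802 (allOK_append _ _ 1683 1702 trees2_0_ok (by decide +kernel) trees2_1_ok) (by decide +kernel) trees2_2_ok) (by decide +kernel) trees2_3_ok) (by decide +kernel) trees2_4_ok) (by decide +kernel) trees2_5_ok) (by decide +kernel) trees2_6_ok) (by decide +kernel) trees2_7_ok) (by decide +kernel) trees2_8_ok)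

theorem part2_length : part2.length = 665 := by decide +kernel

end CfsgLib.OutAut.InvCheck.E8
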