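import Mathlib
import Cfsg.Agent.Lib.OutAut.InvCheck.E8.Data
import Cfsg.Agent.Lib.OutAut.InvCheck.Fast

/-!
Part 3 of the certificate for the involutions of `E8` in characteristic two.
-/

set_option autoImplicit false
set_option maxRecDepth 100000
set_option maxHeartbeats 0

noncomputable section

namespace CfsgLib.OutAut.InvCheck.E8

open Cfsg.Lie CfsgLib.Chevalley

/-- A tree. -/
def tree2348 : Tree :=
  .split 203 (.zero 239 180 222 1 1 (.kill 147 206 180 1 1 (.zero 238 121 237 1 1 (.kill 208 209 121 1 1 (.kill 211 212 121 1 1 (.split 213 (.kill 215 216 121 1 1 (.split 217 (.kill 159 218 180 1 1 (.kill 220 221 121 1 1 (.split 223 (.split 224 (.split 225 (.kill 227 228 121 1 1 (.split 229 (.kill 191 230 180 1 1 (.kill 197 231 180 1 1 (.split 232 (.kill 207 233 180 1 1 (.split 234 (.split 235 (.kill 219 236 180 1 1 (.kill 237 238 121 1 1 (.kill 222 239 180 1 1 (.hub 2274)))) (.kill 219 236 180 1 1 (.kill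 237 238 121 1 1 (.kill 222 239 180 1 1 (.hub 2276))))) (.kill 130 235 234 1 1 (.kill 219 236 180 1 1 (.kill 237 238 121 1 1 (.kill 222 239 180 1 1 (.hub 2275))))))) (.kill 207 233 180 1 1 (.kill 141 234 232 1 1 (.kill 142 235 232 1 1 (.kill 219 236 180 1 1 (.kill 237 238 121 1 1 (.kill 222 239 180 1 1 (.hub 2277)))))))))) (.kill 191 230 180 1 1 (.kill 197 231 180 1 1 (.kill 137 232 229 1 1 (.zero 238 121 237 1 1 (.kill 207 233 180 1 1 (.kill 148 234 229 1 1 (.kill 152 235 229 1 1 (.kill 219 236 180 1 1 (.kill 237 238 121 1 1 (.kill 222 239 180 1 1 (.hub 2283))))))))))))) (.kill 227 228 121 1 1 (.split 229 (.kill 191 230 180 1 1 (.kill 197 231 180 1 1 (.split 232 (.kill 207 233 180 1 1 (.kill 163 234 225 1 1 (.kill 164 235 225 1 1 (.kill 219 236 180 1 1 (.kill 237 238 121 1 1 (.kill 222 239 180 1 1 (.hub 2284))))))) (.kill 207 233 180 1 1 (.kill 163 234 225 1 1 (.kill 164 235 225 1 1 (.kill 219 236 180 1 1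 (.kill 237 238 121 1 1 (.kill 222 239 180 1 1 (.hub 2294)))))))))) (.kill 191 230 180 1 1 (.kill 197 231 180 1 1 (.kill 137 232 229 1 1 (.zero 238 121 237 1 1 (.kill 207 233 180 1 1 (.kill 163 234 225 1 1 (.kill 164 235 225 1 1 (.kill 219 236 180 1 1 (.kill 237 238 121 1 1 (.kill 222 239 180 1 1 (.hub 2150)))))))))))))) (.kill 141 225 224 1 1 (.zero 238 121 237 1 1 (.kill 227 228 121 1 1 (.split 229 (.kill 191 230 180 1 1 (.kill 197 231 180 1 1 (.kill 163 232 224 1 1 (.kill 207 233 180 1 1 (.split 234 (.kill 169 235 224 1 1 (.kill 219 236 180 1 1 (.kill 237 238 121 1 1 (.kill 222 239 180 1 1 (.hub 2295))))) (.kill 169 235 224 1 1 (.kill 219 236 180 1 1 (.kill 237 238 121 1 1 (.kill 222 239 180 1 1 (.hub 2305)))))))))) (.kill 191 230 180 1 1 (.kill 197 231 180 1 1 (.kill 163 232 224 1 1 (.kill 207 233 180 1 1 (.kill 148 234 229 1 1 (.kill 169 235 224 1 1 (.kill 219 236 180 1 1 (.kill 237 238 121 1 1 (.kill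 222 239 180 1 1 (.hub 2149))))))))))))))) (.kill 130 224 223 1 1 (.zero 238 121 237 1 1 (.kill 142 225 223 1 1 (.zero 238 121 237 1 1 (.kill 227 228 121 1 1 (.split 229 (.kill 191 230 180 1 1 (.kill 197 231 180 1 1 (.kill 164 232 223 1 1 (.kill 207 233 180 1 1 (.kill 169 234 223 1 1 (.split 235 (.kill 219 236 180 1 1 (.kill 237 238 121 1 1 (.kill 222 239 180 1 1 (.hub 2306)))) (.kill 219 236 180 1 1 (.kill 237 238 121 1 1 (.kill 222 239 180 1 1 (.hub 2316)))))))))) (.kill 191 230 180 1 1 (.kill 197 231 180 1 1 (.kill 164 232 223 1 1 (.kill 207 233 180 1 1 (.kill 169 234 223 1 1 (.kill 152 235 229 1 1 (.kill 219 236 180 1 1 (.kill 237 238 121 1 1 (.kill 222 239 180 1 1 (.hub 2148))))))))))))))))))) (.kill 159 218 180 1 1 (.kill 220 221 121 1 1 (.split 223 (.kill 137 224 217 1 1 (.zero 238 121 237 1 1 (.kill 148 225 217 1 1 (.zero 238 121 237 1 1 (.kill 227 228 121 1 1 (.kill 163 229 217 1 1 (.kill 191 230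 180 1 1 (.kill 197 231 180 1 1 (.split 232 (.kill 207 233 180 1 1 (.split 234 (.kill 184 235 217 1 1 (.kill 219 236 180 1 1 (.kill 237 238 121 1 1 (.kill 222 239 180 1 1 (.hub 2322))))) (.kill 184 235 217 1 1 (.kill 219 236 180 1 1 (.kill 237 238 121 1 1 (.kill 222 239 180 1 1 (.hub 2235))))))) (.kill 207 233 180 1 1 (.kill 141 234 232 1 1 (.kill 184 235 217 1 1 (.kill 219 236 180 1 1 (.kill 237 238 121 1 1 (.kill 222 239 180 1 1 (.hub 2324)))))))))))))))) (.kill 137 224 217 1 1 (.zero 238 121 237 1 1 (.kill 148 225 217 1 1 (.zero 238 121 237 1 1 (.kill 227 228 121 1 1 (.kill 163 229 217 1 1 (.kill 191 230 180 1 1 (.kill 197 231 180 1 1 (.kill 164 232 223 1 1 (.kill 207 233 180 1 1 (.kill 169 234 223 1 1 (.kill 184 235 217 1 1 (.kill 219 236 180 1 1 (.kill 237 238 121 1 1 (.kill 222 239 180 1 1 (.hub 2331))))))))))))))))))))) (.kill 215 216 121 1 1 (.kill 130 217 213 1 1 (.zero 238 121 237 1 1 (.kill 159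 218 180 1 1 (.kill 220 221 121 1 1 (.kill 137 223 213 1 1 (.zero 238 121 237 1 1 (.split 224 (.kill 152 225 213 1 1 (.zero 238 121 237 1 1 (.kill 227 228 121 1 1 (.kill 164 229 213 1 1 (.kill 191 230 180 1 1 (.kill 197 231 180 1 1 (.split 232 (.kill 207 233 180 1 1 (.kill 184 234 213 1 1 (.split 235 (.kill 219 236 180 1 1 (.kill 237 238 121 1 1 (.kill 222 239 180 1 1 (.hub 2337)))) (.kill 219 236 180 1 1 (.kill 237 238 121 1 1 (.kill 222 239 180 1 1 (.hub 2236))))))) (.kill 207 233 180 1 1 (.kill 184 234 213 1 1 (.kill 142 235 232 1 1 (.kill 219 236 180 1 1 (.kill 237 238 121 1 1 (.kill 222 239 180 1 1 (.hub 2339)))))))))))))) (.kill 152 225 213 1 1 (.zero 238 121 237 1 1 (.kill 227 228 121 1 1 (.kill 164 229 213 1 1 (.kill 191 230 180 1 1 (.kill 197 231 180 1 1 (.kill 163 232 224 1 1 (.kill 207 233 180 1 1 (.kill 184 234 213 1 1 (.kill 169 235 224 1 1 (.kill 219 236 180 1 1 (.kill 237 238 121 1 1 (.kill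 222 239 180 1 1 (.hub 2340)))))))))))))))))))))))))))) (.kill 147 206 180 1 1 (.zero 238 121 237 1 1 (.zero 239 180 222 1 1 (.kill 208 209 121 1 1 (.kill 211 212 121 1 1 (.kill 141 213 203 1 1 (.zero 238 121 237 1 1 (.kill 215 216 121 1 1 (.kill 142 217 203 1 1 (.zero 238 121 237 1 1 (.kill 159 218 180 1 1 (.kill 220 221 121 1 1 (.kill 148 223 203 1 1 (.zero 238 121 237 1 1 (.kill 152 224 203 1 1 (.zero 238 121 237 1 1 (.split 225 (.kill 227 228 121 1 1 (.kill 169 229 203 1 1 (.kill 191 230 180 1 1 (.kill 197 231 180 1 1 (.kill 184 232 203 1 1 (.kill 207 233 180 1 1 (.split 234 (.split 235 (.kill 219 236 180 1 1 (.kill 237 238 121 1 1 (.kill 222 239 180 1 1 (.hub 2346)))) (.kill 219 236 180 1 1 (.kill 237 238 121 1 1 (.kill 222 239 180 1 1 (.hub 2254))))) (.kill 130 235 234 1 1 (.kill 219 236 180 1 1 (.kill 237 238 121 1 1 (.kill 222 239 180 1 1 (.hub 2253)))))))))))) (.kill 227 228 121 1 1 (.kill 169 229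 203 1 1 (.kill 191 230 180 1 1 (.kill 197 231 180 1 1 (.kill 184 232 203 1 1 (.kill 207 233 180 1 1 (.kill 163 234 225 1 1 (.kill 164 235 225 1 1 (.kill 219 236 180 1 1 (.kill 237 238 121 1 1 (.kill 222 239 180 1 1 (.hub 2347)))))))))))))))))))))))))))))

/-- A tree. -/
def tree2486 : Tree :=
  .split 180 (.kill 182 183 121 1 1 (.split 187 (.split 190 (.kill 192 193 121 1 1 (.split 196 (.kill 198 199 121 1 1 (.kill 201 202 121 1 1 (.split 203 (.hub 2104) (.zero 239 203 206 1 1 (.kill 208 209 121 1 1 (.kill 211 212 121 1 1 (.kill 141 213 203 1 1 (.zero 238 121 237 1 1 (.kill 215 216 121 1 1 (.kill 142 217 203 1 1 (.zero 238 121 237 1 1 (.kill 143 218 203 1 1 (.zero 238 121 237 1 1 (.kill 220 221 121 1 1 (.kill 147 222 203 1 1 (.zero 238 121 237 1 1 (.kill 148 223 203 1 1 (.zero 238 121 237 1 1 (.kill 152 224 203 1 1 (.zero 238 121 237 1 1 (.split 225 (.kill 227 228 121 1 1 (.kill 169 229 203 1 1 (.kill 170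 230 203 1 1 (.kill 174 231 203 1 1 (.kill 184 232 203 1 1 (.split 233 (.split 234 (.split 235 (.split 236 (.kill 237 238 121 1 1 (.kill 206 239 203 1 1 (.hub 1207))) (.kill 237 238 121 1 1 (.kill 206 239 203 1 1 (.hub 2106)))) (.kill 126 236 235 1 1 (.kill 237 238 121 1 1 (.kill 206 239 203 1 1 (.hub 2105))))) (.kill 130 235 234 1 1 (.kill 131 236 234 1 1 (.kill 237 238 121 1 1 (.kill 206 239 203 1 1 (.hub 2107)))))) (.kill 135 234 233 1 1 (.kill 136 235 233 1 1 (.kill 137 236 233 1 1 (.kill 237 238 121 1 1 (.kill 206 239 203 1 1 (.hub 2109)))))))))))) (.kill 227 228 121 1 1 (.kill 169 229 203 1 1 (.kill 170 230 203 1 1 (.kill 174 231 203 1 1 (.kill 184 232 203 1 1 (.kill 162 233 225 1 1 (.kill 163 234 225 1 1 (.kill 164 235 225 1 1 (.kill 165 236 225 1 1 (.kill 237 238 121 1 1 (.kill 206 239 203 1 1 (.hub 2112))))))))))))))))))))))))))))))))) (.kill 198 199 121 1 1 (.kill 201 202 121 1 1 (.split 203 (.zero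 239 196 213 1 1 (.hub 2173)) (.kill 141 206 196 1 1 (.zero 238 121 237 1 1 (.zero 239 196 213 1 1 (.kill 208 209 121 1 1 (.kill 211 212 121 1 1 (.kill 215 216 121 1 1 (.kill 142 217 203 1 1 (.zero 238 121 237 1 1 (.kill 143 218 203 1 1 (.zero 238 121 237 1 1 (.kill 220 221 121 1 1 (.kill 147 222 203 1 1 (.zero 238 121 237 1 1 (.kill 148 223 203 1 1 (.zero 238 121 237 1 1 (.kill 159 224 196 1 1 (.split 225 (.kill 227 228 121 1 1 (.kill 169 229 203 1 1 (.kill 170 230 203 1 1 (.kill 181 231 196 1 1 (.kill 191 232 196 1 1 (.split 233 (.split 234 (.kill 207 235 196 1 1 (.kill 210 236 196 1 1 (.kill 237 238 121 1 1 (.kill 213 239 196 1 1 (.hub 2178))))) (.kill 207 235 196 1 1 (.kill 210 236 196 1 1 (.kill 237 238 121 1 1 (.kill 213 239 196 1 1 (.hub 2179)))))) (.kill 135 234 233 1 1 (.kill 207 235 196 1 1 (.kill 210 236 196 1 1 (.kill 237 238 121 1 1 (.kill 213 239 196 1 1 (.hub 2057)))))))))))) (.kill 227 228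 121 1 1 (.kill 169 229 203 1 1 (.kill 170 230 203 1 1 (.kill 181 231 196 1 1 (.kill 191 232 196 1 1 (.kill 162 233 225 1 1 (.kill 163 234 225 1 1 (.kill 207 235 196 1 1 (.kill 210 236 196 1 1 (.kill 237 238 121 1 1 (.kill 213 239 196 1 1 (.hub 2102)))))))))))))))))))))))))))))))))) (.kill 192 193 121 1 1 (.kill 130 196 190 1 1 (.zero 238 121 237 1 1 (.kill 198 199 121 1 1 (.kill 201 202 121 1 1 (.hub 2256))))))) (.kill 126 190 187 1 1 (.zero 238 121 237 1 1 (.kill 192 193 121 1 1 (.kill 131 196 187 1 1 (.zero 238 121 237 1 1 (.kill 198 199 121 1 1 (.kill 201 202 121 1 1 (.hub 2273)))))))))) (.kill 182 183 121 1 1 (.split 187 (.kill 135 190 180 1 1 (.zero 238 121 237 1 1 (.kill 192 193 121 1 1 (.kill 136 196 180 1 1 (.zero 238 121 237 1 1 (.kill 198 199 121 1 1 (.kill 201 202 121 1 1 (.hub 2348)))))))) (.kill 135 190 180 1 1 (.zero 238 121 237 1 1 (.kill 192 193 121 1 1 (.kill 136 196 180 1 1 (.zero 238 121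 237 1 1 (.kill 198 199 121 1 1 (.kill 201 202 121 1 1 (.split 203 (.kill 147 206 180 1 1 (.zero 238 121 237 1 1 (.kill 208 209 121 1 1 (.kill 211 212 121 1 1 (.split 213 (.kill 215 216 121 1 1 (.split 217 (.kill 159 218 180 1 1 (.zero 238 121 237 1 1 (.zero 239 180 222 1 1 (.kill 220 221 121 1 1 (.split 223 (.split 224 (.split 225 (.kill 227 228 121 1 1 (.kill 181 229 187 1 1 (.kill 191 230 180 1 1 (.kill 197 231 180 1 1 (.kill 200 232 187 1 1 (.kill 207 233 180 1 1 (.kill 210 234 187 1 1 (.kill 214 235 187 1 1 (.kill 219 236 180 1 1 (.kill 237 238 121 1 1 (.kill 222 239 180 1 1 (.hub 2349)))))))))))) (.kill 227 228 121 1 1 (.kill 181 229 187 1 1 (.kill 191 230 180 1 1 (.kill 197 231 180 1 1 (.kill 200 232 187 1 1 (.kill 207 233 180 1 1 (.kill 210 234 187 1 1 (.kill 214 235 187 1 1 (.kill 219 236 180 1 1 (.kill 237 238 121 1 1 (.kill 222 239 180 1 1 (.hub 2370))))))))))))) (.kill 141 225 224 1 1 (.zero 238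 121 237 1 1 (.kill 227 228 121 1 1 (.kill 181 229 187 1 1 (.kill 191 230 180 1 1 (.kill 197 231 180 1 1 (.kill 200 232 187 1 1 (.kill 207 233 180 1 1 (.kill 210 234 187 1 1 (.kill 214 235 187 1 1 (.kill 219 236 180 1 1 (.kill 237 238 121 1 1 (.kill 222 239 180 1 1 (.hub 2369))))))))))))))) (.kill 130 224 223 1 1 (.zero 238 121 237 1 1 (.kill 142 225 223 1 1 (.zero 238 121 237 1 1 (.kill 227 228 121 1 1 (.kill 181 229 187 1 1 (.kill 191 230 180 1 1 (.kill 197 231 180 1 1 (.kill 200 232 187 1 1 (.kill 207 233 180 1 1 (.kill 210 234 187 1 1 (.kill 214 235 187 1 1 (.kill 219 236 180 1 1 (.kill 237 238 121 1 1 (.kill 222 239 180 1 1 (.hub 2368))))))))))))))))))))) (.kill 159 218 180 1 1 (.zero 238 121 237 1 1 (.zero 239 180 222 1 1 (.kill 220 221 121 1 1 (.split 223 (.kill 137 224 217 1 1 (.zero 238 121 237 1 1 (.kill 148 225 217 1 1 (.zero 238 121 237 1 1 (.kill 227 228 121 1 1 (.kill 181 229 187 1 1 (.kill 191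 230 180 1 1 (.kill 197 231 180 1 1 (.kill 200 232 187 1 1 (.kill 207 233 180 1 1 (.kill 210 234 187 1 1 (.kill 214 235 187 1 1 (.kill 219 236 180 1 1 (.kill 237 238 121 1 1 (.kill 222 239 180 1 1 (.hub 2376)))))))))))))))) (.kill 137 224 217 1 1 (.zero 238 121 237 1 1 (.kill 148 225 217 1 1 (.zero 238 121 237 1 1 (.kill 227 228 121 1 1 (.kill 181 229 187 1 1 (.kill 191 230 180 1 1 (.kill 197 231 180 1 1 (.kill 200 232 187 1 1 (.kill 207 233 180 1 1 (.kill 210 234 187 1 1 (.kill 214 235 187 1 1 (.kill 219 236 180 1 1 (.kill 237 238 121 1 1 (.kill 222 239 180 1 1 (.hub 2411))))))))))))))))))))))) (.kill 215 216 121 1 1 (.kill 130 217 213 1 1 (.zero 238 121 237 1 1 (.kill 159 218 180 1 1 (.zero 238 121 237 1 1 (.zero 239 180 222 1 1 (.kill 220 221 121 1 1 (.kill 137 223 213 1 1 (.zero 238 121 237 1 1 (.split 224 (.kill 152 225 213 1 1 (.zero 238 121 237 1 1 (.kill 227 228 121 1 1 (.kill 181 229 187 1 1 (.kill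 191 230 180 1 1 (.kill 197 231 180 1 1 (.kill 200 232 187 1 1 (.kill 207 233 180 1 1 (.kill 210 234 187 1 1 (.kill 214 235 187 1 1 (.kill 219 236 180 1 1 (.kill 237 238 121 1 1 (.kill 222 239 180 1 1 (.hub 2425)))))))))))))) (.kill 152 225 213 1 1 (.zero 238 121 237 1 1 (.kill 227 228 121 1 1 (.kill 181 229 187 1 1 (.kill 191 230 180 1 1 (.kill 197 231 180 1 1 (.kill 200 232 187 1 1 (.kill 207 233 180 1 1 (.kill 210 234 187 1 1 (.kill 214 235 187 1 1 (.kill 219 236 180 1 1 (.kill 237 238 121 1 1 (.kill 222 239 180 1 1 (.hub 2458))))))))))))))))))))))))))))) (.kill 143 206 187 1 1 (.zero 238 121 237 1 1 (.kill 208 209 121 1 1 (.kill 211 212 121 1 1 (.kill 141 213 203 1 1 (.zero 238 121 237 1 1 (.kill 215 216 121 1 1 (.kill 142 217 203 1 1 (.zero 238 121 237 1 1 (.kill 159 218 180 1 1 (.zero 238 121 237 1 1 (.zero 239 180 222 1 1 (.kill 220 221 121 1 1 (.kill 148 223 203 1 1 (.zero 238 121 237 1 1 (.kill 152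 224 203 1 1 (.zero 238 121 237 1 1 (.split 225 (.kill 227 228 121 1 1 (.kill 181 229 187 1 1 (.kill 191 230 180 1 1 (.kill 197 231 180 1 1 (.kill 200 232 187 1 1 (.kill 207 233 180 1 1 (.kill 210 234 187 1 1 (.kill 214 235 187 1 1 (.kill 219 236 180 1 1 (.kill 237 238 121 1 1 (.kill 222 239 180 1 1 (.hub 2479)))))))))))) (.kill 227 228 121 1 1 (.kill 181 229 187 1 1 (.kill 191 230 180 1 1 (.kill 197 231 180 1 1 (.kill 200 232 187 1 1 (.kill 207 233 180 1 1 (.kill 210 234 187 1 1 (.kill 214 235 187 1 1 (.kill 219 236 180 1 1 (.kill 237 238 121 1 1 (.kill 222 239 180 1 1 (.hub 2485))))))))))))))))))))))))))))))))))))))))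

/-- A tree. -/
def tree2555 : Tree :=
  .split 203 (.zero 239 177 223 1 1 (.kill 148 206 177 1 1 (.zero 238 121 237 1 1 (.kill 208 209 121 1 1 (.kill 211 212 121 1 1 (.split 213 (.kill 215 216 121 1 1 (.kill 159 217 177 1 1 (.split 218 (.kill 220 221 121 1 1 (.split 222 (.split 224 (.split 225 (.kill 227 228 121 1 1 (.kill 191 229 177 1 1 (.split 230 (.kill 200 231 177 1 1 (.split 232 (.kill 210 233 177 1 1 (.split 234 (.kill 219 235 177 1 1 (.split 236 (.kill 237 238 121 1 1 (.kill 223 239 177 1 1 (.hub 2487))) (.kill 237 238 121 1 1 (.kill 223 239 177 1 1 (.hub 2488))))) (.kill 219 235 177 1 1 (.kill 131 236 234 1 1 (.kill 237 238 121 1 1 (.kill 223 239 177 1 1 (.hub 2489))))))) (.kill 210 233 177 1 1 (.kill 141 234 232 1 1 (.kill 219 235 177 1 1 (.kill 143 236 232 1 1 (.kill 237 238 121 1 1 (.kill 223 239 177 1 1 (.hub 2490))))))))) (.kill 200 231 177 1 1 (.kill 136 232 230 1 1 (.zero 238 121 237 1 1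 (.kill 210 233 177 1 1 (.kill 147 234 230 1 1 (.kill 219 235 177 1 1 (.kill 152 236 230 1 1 (.kill 237 238 121 1 1 (.kill 223 239 177 1 1 (.hub 2491))))))))))))) (.kill 227 228 121 1 1 (.kill 191 229 177 1 1 (.split 230 (.kill 200 231 177 1 1 (.split 232 (.kill 210 233 177 1 1 (.kill 163 234 225 1 1 (.kill 219 235 177 1 1 (.kill 165 236 225 1 1 (.kill 237 238 121 1 1 (.kill 223 239 177 1 1 (.hub 2492))))))) (.kill 210 233 177 1 1 (.kill 163 234 225 1 1 (.kill 219 235 177 1 1 (.kill 165 236 225 1 1 (.kill 237 238 121 1 1 (.kill 223 239 177 1 1 (.hub 2293))))))))) (.kill 200 231 177 1 1 (.kill 136 232 230 1 1 (.zero 238 121 237 1 1 (.kill 210 233 177 1 1 (.kill 163 234 225 1 1 (.kill 219 235 177 1 1 (.kill 165 236 225 1 1 (.kill 237 238 121 1 1 (.kill 223 239 177 1 1 (.hub 2197)))))))))))))) (.kill 141 225 224 1 1 (.zero 238 121 237 1 1 (.kill 227 228 121 1 1 (.kill 191 229 177 1 1 (.split 230 (.kill 200 231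 177 1 1 (.kill 163 232 224 1 1 (.kill 210 233 177 1 1 (.split 234 (.kill 219 235 177 1 1 (.kill 170 236 224 1 1 (.kill 237 238 121 1 1 (.kill 223 239 177 1 1 (.hub 2493))))) (.kill 219 235 177 1 1 (.kill 170 236 224 1 1 (.kill 237 238 121 1 1 (.kill 223 239 177 1 1 (.hub 2304))))))))) (.kill 200 231 177 1 1 (.kill 163 232 224 1 1 (.kill 210 233 177 1 1 (.kill 147 234 230 1 1 (.kill 219 235 177 1 1 (.kill 170 236 224 1 1 (.kill 237 238 121 1 1 (.kill 223 239 177 1 1 (.hub 2196))))))))))))))) (.kill 131 224 222 1 1 (.zero 238 121 237 1 1 (.kill 143 225 222 1 1 (.zero 238 121 237 1 1 (.kill 227 228 121 1 1 (.kill 191 229 177 1 1 (.split 230 (.kill 200 231 177 1 1 (.kill 165 232 222 1 1 (.kill 210 233 177 1 1 (.kill 170 234 222 1 1 (.kill 219 235 177 1 1 (.split 236 (.kill 237 238 121 1 1 (.kill 223 239 177 1 1 (.hub 2494))) (.kill 237 238 121 1 1 (.kill 223 239 177 1 1 (.hub 2315))))))))) (.kill 200 231 177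 1 1 (.kill 165 232 222 1 1 (.kill 210 233 177 1 1 (.kill 170 234 222 1 1 (.kill 219 235 177 1 1 (.kill 152 236 230 1 1 (.kill 237 238 121 1 1 (.kill 223 239 177 1 1 (.hub 2147)))))))))))))))))) (.kill 220 221 121 1 1 (.split 222 (.kill 136 224 218 1 1 (.zero 238 121 237 1 1 (.kill 147 225 218 1 1 (.zero 238 121 237 1 1 (.kill 227 228 121 1 1 (.kill 191 229 177 1 1 (.kill 163 230 218 1 1 (.kill 200 231 177 1 1 (.split 232 (.kill 210 233 177 1 1 (.split 234 (.kill 219 235 177 1 1 (.kill 184 236 218 1 1 (.kill 237 238 121 1 1 (.kill 223 239 177 1 1 (.hub 2495))))) (.kill 219 235 177 1 1 (.kill 184 236 218 1 1 (.kill 237 238 121 1 1 (.kill 223 239 177 1 1 (.hub 2207))))))) (.kill 210 233 177 1 1 (.kill 141 234 232 1 1 (.kill 219 235 177 1 1 (.kill 184 236 218 1 1 (.kill 237 238 121 1 1 (.kill 223 239 177 1 1 (.hub 2206)))))))))))))))) (.kill 136 224 218 1 1 (.zero 238 121 237 1 1 (.kill 147 225 218 1 1 (.zero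 238 121 237 1 1 (.kill 227 228 121 1 1 (.kill 191 229 177 1 1 (.kill 163 230 218 1 1 (.kill 200 231 177 1 1 (.kill 165 232 222 1 1 (.kill 210 233 177 1 1 (.kill 170 234 222 1 1 (.kill 219 235 177 1 1 (.kill 184 236 218 1 1 (.kill 237 238 121 1 1 (.kill 223 239 177 1 1 (.hub 2330))))))))))))))))))))) (.kill 215 216 121 1 1 (.kill 159 217 177 1 1 (.kill 131 218 213 1 1 (.zero 238 121 237 1 1 (.kill 220 221 121 1 1 (.kill 136 222 213 1 1 (.zero 238 121 237 1 1 (.split 224 (.kill 152 225 213 1 1 (.zero 238 121 237 1 1 (.kill 227 228 121 1 1 (.kill 191 229 177 1 1 (.kill 165 230 213 1 1 (.kill 200 231 177 1 1 (.split 232 (.kill 210 233 177 1 1 (.kill 184 234 213 1 1 (.kill 219 235 177 1 1 (.split 236 (.kill 237 238 121 1 1 (.kill 223 239 177 1 1 (.hub 2496))) (.kill 237 238 121 1 1 (.kill 223 239 177 1 1 (.hub 2497))))))) (.kill 210 233 177 1 1 (.kill 184 234 213 1 1 (.kill 219 235 177 1 1 (.kill 143 236 232 1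 1 (.kill 237 238 121 1 1 (.kill 223 239 177 1 1 (.hub 2522)))))))))))))) (.kill 152 225 213 1 1 (.zero 238 121 237 1 1 (.kill 227 228 121 1 1 (.kill 191 229 177 1 1 (.kill 165 230 213 1 1 (.kill 200 231 177 1 1 (.kill 163 232 224 1 1 (.kill 210 233 177 1 1 (.kill 184 234 213 1 1 (.kill 219 235 177 1 1 (.kill 170 236 224 1 1 (.kill 237 238 121 1 1 (.kill 223 239 177 1 1 (.hub 2545)))))))))))))))))))))))))))) (.kill 148 206 177 1 1 (.zero 238 121 237 1 1 (.zero 239 177 223 1 1 (.kill 208 209 121 1 1 (.kill 211 212 121 1 1 (.kill 141 213 203 1 1 (.zero 238 121 237 1 1 (.kill 215 216 121 1 1 (.kill 159 217 177 1 1 (.kill 143 218 203 1 1 (.zero 238 121 237 1 1 (.kill 220 221 121 1 1 (.kill 147 222 203 1 1 (.zero 238 121 237 1 1 (.kill 152 224 203 1 1 (.zero 238 121 237 1 1 (.split 225 (.kill 227 228 121 1 1 (.kill 191 229 177 1 1 (.kill 170 230 203 1 1 (.kill 200 231 177 1 1 (.kill 184 232 203 1 1 (.kill 210 233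 177 1 1 (.split 234 (.kill 219 235 177 1 1 (.split 236 (.kill 237 238 121 1 1 (.kill 223 239 177 1 1 (.hub 2546))) (.kill 237 238 121 1 1 (.kill 223 239 177 1 1 (.hub 2547))))) (.kill 219 235 177 1 1 (.kill 131 236 234 1 1 (.kill 237 238 121 1 1 (.kill 223 239 177 1 1 (.hub 2550)))))))))))) (.kill 227 228 121 1 1 (.kill 191 229 177 1 1 (.kill 170 230 203 1 1 (.kill 200 231 177 1 1 (.kill 184 232 203 1 1 (.kill 210 233 177 1 1 (.kill 163 234 225 1 1 (.kill 219 235 177 1 1 (.kill 165 236 225 1 1 (.kill 237 238 121 1 1 (.kill 223 239 177 1 1 (.hub 2554)))))))))))))))))))))))))))))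

/-- A tree. -/
def tree2695 : Tree :=
  .split 203 (.zero 239 173 224 1 1 (.kill 152 206 173 1 1 (.zero 238 121 237 1 1 (.kill 208 209 121 1 1 (.kill 211 212 121 1 1 (.kill 159 213 173 1 1 (.kill 215 216 121 1 1 (.split 217 (.split 218 (.kill 220 221 121 1 1 (.split 222 (.split 223 (.split 225 (.kill 227 228 121 1 1 (.kill 197 229 173 1 1 (.kill 200 230 173 1 1 (.split 231 (.split 232 (.kill 214 233 173 1 1 (.kill 219 234 173 1 1 (.split 235 (.split 236 (.kill 237 238 121 1 1 (.kill 224 239 173 1 1 (.hub 2645))) (.kill 237 238 121 1 1 (.kill 224 239 173 1 1 (.hub 2647)))) (.kill 126 236 235 1 1 (.kill 237 238 121 1 1 (.kill 224 239 173 1 1 (.hub 2646))))))) (.kill 214 233 173 1 1 (.kill 219 234 173 1 1 (.kill 142 235 232 1 1 (.kill 143 236 232 1 1 (.kill 237 238 121 1 1 (.kill 224 239 173 1 1 (.hub 2649)))))))) (.kill 135 232 231 1 1 (.zero 238 121 237 1 1 (.kill 214 233 173 1 1 (.kill 219 234 173 1 1 (.kill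 147 235 231 1 1 (.kill 148 236 231 1 1 (.kill 237 238 121 1 1 (.kill 224 239 173 1 1 (.hub 2648))))))))))))) (.kill 227 228 121 1 1 (.kill 197 229 173 1 1 (.kill 200 230 173 1 1 (.split 231 (.split 232 (.kill 214 233 173 1 1 (.kill 219 234 173 1 1 (.kill 164 235 225 1 1 (.kill 165 236 225 1 1 (.kill 237 238 121 1 1 (.kill 224 239 173 1 1 (.hub 2650))))))) (.kill 214 233 173 1 1 (.kill 219 234 173 1 1 (.kill 164 235 225 1 1 (.kill 165 236 225 1 1 (.kill 237 238 121 1 1 (.kill 224 239 173 1 1 (.hub 2292)))))))) (.kill 135 232 231 1 1 (.zero 238 121 237 1 1 (.kill 214 233 173 1 1 (.kill 219 234 173 1 1 (.kill 164 235 225 1 1 (.kill 165 236 225 1 1 (.kill 237 238 121 1 1 (.kill 224 239 173 1 1 (.hub 2291)))))))))))))) (.kill 142 225 223 1 1 (.zero 238 121 237 1 1 (.kill 227 228 121 1 1 (.kill 197 229 173 1 1 (.kill 200 230 173 1 1 (.split 231 (.kill 164 232 223 1 1 (.kill 214 233 173 1 1 (.kill 219 234 173 1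 1 (.split 235 (.kill 174 236 223 1 1 (.kill 237 238 121 1 1 (.kill 224 239 173 1 1 (.hub 2652)))) (.kill 174 236 223 1 1 (.kill 237 238 121 1 1 (.kill 224 239 173 1 1 (.hub 2303)))))))) (.kill 164 232 223 1 1 (.kill 214 233 173 1 1 (.kill 219 234 173 1 1 (.kill 147 235 231 1 1 (.kill 174 236 223 1 1 (.kill 237 238 121 1 1 (.kill 224 239 173 1 1 (.hub 2195))))))))))))))) (.kill 126 223 222 1 1 (.zero 238 121 237 1 1 (.kill 143 225 222 1 1 (.zero 238 121 237 1 1 (.kill 227 228 121 1 1 (.kill 197 229 173 1 1 (.kill 200 230 173 1 1 (.split 231 (.kill 165 232 222 1 1 (.kill 214 233 173 1 1 (.kill 219 234 173 1 1 (.kill 174 235 222 1 1 (.split 236 (.kill 237 238 121 1 1 (.kill 224 239 173 1 1 (.hub 2654))) (.kill 237 238 121 1 1 (.kill 224 239 173 1 1 (.hub 2314)))))))) (.kill 165 232 222 1 1 (.kill 214 233 173 1 1 (.kill 219 234 173 1 1 (.kill 174 235 222 1 1 (.kill 148 236 231 1 1 (.kill 237 238 121 1 1 (.kill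 224 239 173 1 1 (.hub 2194)))))))))))))))))) (.kill 220 221 121 1 1 (.split 222 (.kill 135 223 218 1 1 (.zero 238 121 237 1 1 (.kill 147 225 218 1 1 (.zero 238 121 237 1 1 (.kill 227 228 121 1 1 (.kill 197 229 173 1 1 (.kill 200 230 173 1 1 (.kill 164 231 218 1 1 (.split 232 (.kill 214 233 173 1 1 (.kill 219 234 173 1 1 (.split 235 (.kill 184 236 218 1 1 (.kill 237 238 121 1 1 (.kill 224 239 173 1 1 (.hub 2651)))) (.kill 184 236 218 1 1 (.kill 237 238 121 1 1 (.kill 224 239 173 1 1 (.hub 2302))))))) (.kill 214 233 173 1 1 (.kill 219 234 173 1 1 (.kill 142 235 232 1 1 (.kill 184 236 218 1 1 (.kill 237 238 121 1 1 (.kill 224 239 173 1 1 (.hub 2205)))))))))))))))) (.kill 135 223 218 1 1 (.zero 238 121 237 1 1 (.kill 147 225 218 1 1 (.zero 238 121 237 1 1 (.kill 227 228 121 1 1 (.kill 197 229 173 1 1 (.kill 200 230 173 1 1 (.kill 164 231 218 1 1 (.kill 165 232 222 1 1 (.kill 214 233 173 1 1 (.kill 219 234 173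 1 1 (.kill 174 235 222 1 1 (.kill 184 236 218 1 1 (.kill 237 238 121 1 1 (.kill 224 239 173 1 1 (.hub 2660))))))))))))))))))) (.kill 126 218 217 1 1 (.zero 238 121 237 1 1 (.zero 239 173 224 1 1 (.kill 220 221 121 1 1 (.kill 135 222 217 1 1 (.zero 238 121 237 1 1 (.split 223 (.kill 148 225 217 1 1 (.zero 238 121 237 1 1 (.kill 227 228 121 1 1 (.kill 197 229 173 1 1 (.kill 200 230 173 1 1 (.kill 165 231 217 1 1 (.split 232 (.kill 214 233 173 1 1 (.kill 219 234 173 1 1 (.kill 184 235 217 1 1 (.split 236 (.kill 237 238 121 1 1 (.kill 224 239 173 1 1 (.hub 2653))) (.kill 237 238 121 1 1 (.kill 224 239 173 1 1 (.hub 2313))))))) (.kill 214 233 173 1 1 (.kill 219 234 173 1 1 (.kill 184 235 217 1 1 (.kill 143 236 232 1 1 (.kill 237 238 121 1 1 (.kill 224 239 173 1 1 (.hub 2204)))))))))))))) (.kill 148 225 217 1 1 (.zero 238 121 237 1 1 (.kill 227 228 121 1 1 (.kill 197 229 173 1 1 (.kill 200 230 173 1 1 (.kill 165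 231 217 1 1 (.kill 164 232 223 1 1 (.kill 214 233 173 1 1 (.kill 219 234 173 1 1 (.kill 184 235 217 1 1 (.kill 174 236 223 1 1 (.kill 237 238 121 1 1 (.kill 224 239 173 1 1 (.hub 2663))))))))))))))))))))))))))))) (.kill 152 206 173 1 1 (.zero 238 121 237 1 1 (.zero 239 173 224 1 1 (.kill 208 209 121 1 1 (.kill 211 212 121 1 1 (.kill 159 213 173 1 1 (.kill 215 216 121 1 1 (.kill 142 217 203 1 1 (.zero 238 121 237 1 1 (.kill 143 218 203 1 1 (.zero 238 121 237 1 1 (.kill 220 221 121 1 1 (.kill 147 222 203 1 1 (.zero 238 121 237 1 1 (.kill 148 223 203 1 1 (.zero 238 121 237 1 1 (.split 225 (.kill 227 228 121 1 1 (.kill 197 229 173 1 1 (.kill 200 230 173 1 1 (.kill 174 231 203 1 1 (.kill 184 232 203 1 1 (.kill 214 233 173 1 1 (.kill 219 234 173 1 1 (.split 235 (.split 236 (.kill 237 238 121 1 1 (.kill 224 239 173 1 1 (.hub 2664))) (.kill 237 238 121 1 1 (.kill 224 239 173 1 1 (.hub 2666)))) (.kill 126 236 235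 1 1 (.kill 237 238 121 1 1 (.kill 224 239 173 1 1 (.hub 2665)))))))))))) (.kill 227 228 121 1 1 (.kill 197 229 173 1 1 (.kill 200 230 173 1 1 (.kill 174 231 203 1 1 (.kill 184 232 203 1 1 (.kill 214 233 173 1 1 (.kill 219 234 173 1 1 (.kill 164 235 225 1 1 (.kill 165 236 225 1 1 (.kill 237 238 121 1 1 (.kill 224 239 173 1 1 (.hub 2694)))))))))))))))))))))))))))))

/-- A tree. -/
def tree2781 : Tree :=
  .split 173 (.split 177 (.hub 2486) (.kill 126 180 177 1 1 (.zero 193 121 192 1 1 (.zero 199 121 198 1 1 (.zero 202 121 201 1 1 (.zero 209 121 208 1 1 (.zero 212 121 211 1 1 (.zero 216 121 215 1 1 (.zero 221 121 220 1 1 (.zero 228 121 227 1 1 (.zero 238 121 237 1 1 (.kill 182 183 121 1 1 (.kill 135 187 177 1 1 (.zero 238 121 237 1 1 (.split 190 (.kill 192 193 121 1 1 (.kill 137 196 177 1 1 (.zero 238 121 237 1 1 (.kill 198 199 121 1 1 (.kill 201 202 121 1 1 (.hub 2555)))))) (.kill 192 193 121 1 1 (.kill 137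 196 177 1 1 (.zero 238 121 237 1 1 (.kill 198 199 121 1 1 (.kill 201 202 121 1 1 (.split 203 (.kill 148 206 177 1 1 (.zero 238 121 237 1 1 (.kill 208 209 121 1 1 (.kill 211 212 121 1 1 (.split 213 (.kill 215 216 121 1 1 (.kill 159 217 177 1 1 (.zero 238 121 237 1 1 (.zero 239 177 223 1 1 (.split 218 (.kill 220 221 121 1 1 (.split 222 (.split 224 (.split 225 (.kill 227 228 121 1 1 (.kill 191 229 177 1 1 (.kill 181 230 190 1 1 (.kill 200 231 177 1 1 (.kill 197 232 190 1 1 (.kill 210 233 177 1 1 (.kill 207 234 190 1 1 (.kill 219 235 177 1 1 (.kill 214 236 190 1 1 (.kill 237 238 121 1 1 (.kill 223 239 177 1 1 (.hub 2556)))))))))))) (.kill 227 228 121 1 1 (.kill 191 229 177 1 1 (.kill 181 230 190 1 1 (.kill 200 231 177 1 1 (.kill 197 232 190 1 1 (.kill 210 233 177 1 1 (.kill 207 234 190 1 1 (.kill 219 235 177 1 1 (.kill 214 236 190 1 1 (.kill 237 238 121 1 1 (.kill 223 239 177 1 1 (.hub 2565))))))))))))) (.kill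 141 225 224 1 1 (.zero 238 121 237 1 1 (.kill 227 228 121 1 1 (.kill 191 229 177 1 1 (.kill 181 230 190 1 1 (.kill 200 231 177 1 1 (.kill 197 232 190 1 1 (.kill 210 233 177 1 1 (.kill 207 234 190 1 1 (.kill 219 235 177 1 1 (.kill 214 236 190 1 1 (.kill 237 238 121 1 1 (.kill 223 239 177 1 1 (.hub 2564))))))))))))))) (.kill 131 224 222 1 1 (.zero 238 121 237 1 1 (.kill 143 225 222 1 1 (.zero 238 121 237 1 1 (.kill 227 228 121 1 1 (.kill 191 229 177 1 1 (.kill 181 230 190 1 1 (.kill 200 231 177 1 1 (.kill 197 232 190 1 1 (.kill 210 233 177 1 1 (.kill 207 234 190 1 1 (.kill 219 235 177 1 1 (.kill 214 236 190 1 1 (.kill 237 238 121 1 1 (.kill 223 239 177 1 1 (.hub 2367)))))))))))))))))) (.kill 220 221 121 1 1 (.split 222 (.kill 136 224 218 1 1 (.zero 238 121 237 1 1 (.kill 147 225 218 1 1 (.zero 238 121 237 1 1 (.kill 227 228 121 1 1 (.kill 191 229 177 1 1 (.kill 181 230 190 1 1 (.kill 200 231 177 1 1 (.kill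 197 232 190 1 1 (.kill 210 233 177 1 1 (.kill 207 234 190 1 1 (.kill 219 235 177 1 1 (.kill 214 236 190 1 1 (.kill 237 238 121 1 1 (.kill 223 239 177 1 1 (.hub 2566)))))))))))))))) (.kill 136 224 218 1 1 (.zero 238 121 237 1 1 (.kill 147 225 218 1 1 (.zero 238 121 237 1 1 (.kill 227 228 121 1 1 (.kill 191 229 177 1 1 (.kill 181 230 190 1 1 (.kill 200 231 177 1 1 (.kill 197 232 190 1 1 (.kill 210 233 177 1 1 (.kill 207 234 190 1 1 (.kill 219 235 177 1 1 (.kill 214 236 190 1 1 (.kill 237 238 121 1 1 (.kill 223 239 177 1 1 (.hub 2595))))))))))))))))))))))) (.kill 215 216 121 1 1 (.kill 159 217 177 1 1 (.zero 238 121 237 1 1 (.zero 239 177 223 1 1 (.kill 131 218 213 1 1 (.zero 238 121 237 1 1 (.kill 220 221 121 1 1 (.kill 136 222 213 1 1 (.zero 238 121 237 1 1 (.split 224 (.kill 152 225 213 1 1 (.zero 238 121 237 1 1 (.kill 227 228 121 1 1 (.kill 191 229 177 1 1 (.kill 181 230 190 1 1 (.kill 200 231 177 1 1 (.kill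 197 232 190 1 1 (.kill 210 233 177 1 1 (.kill 207 234 190 1 1 (.kill 219 235 177 1 1 (.kill 214 236 190 1 1 (.kill 237 238 121 1 1 (.kill 223 239 177 1 1 (.hub 2602)))))))))))))) (.kill 152 225 213 1 1 (.zero 238 121 237 1 1 (.kill 227 228 121 1 1 (.kill 191 229 177 1 1 (.kill 181 230 190 1 1 (.kill 200 231 177 1 1 (.kill 197 232 190 1 1 (.kill 210 233 177 1 1 (.kill 207 234 190 1 1 (.kill 219 235 177 1 1 (.kill 214 236 190 1 1 (.kill 237 238 121 1 1 (.kill 223 239 177 1 1 (.hub 2631))))))))))))))))))))))))))))) (.kill 148 206 177 1 1 (.zero 238 121 237 1 1 (.kill 208 209 121 1 1 (.kill 211 212 121 1 1 (.kill 141 213 203 1 1 (.zero 238 121 237 1 1 (.kill 215 216 121 1 1 (.kill 159 217 177 1 1 (.zero 238 121 237 1 1 (.zero 239 177 223 1 1 (.kill 143 218 203 1 1 (.zero 238 121 237 1 1 (.kill 220 221 121 1 1 (.kill 147 222 203 1 1 (.zero 238 121 237 1 1 (.kill 152 224 203 1 1 (.zero 238 121 237 1 1 (.split 225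 (.kill 227 228 121 1 1 (.kill 191 229 177 1 1 (.kill 181 230 190 1 1 (.kill 200 231 177 1 1 (.kill 197 232 190 1 1 (.kill 210 233 177 1 1 (.kill 207 234 190 1 1 (.kill 219 235 177 1 1 (.kill 214 236 190 1 1 (.kill 237 238 121 1 1 (.kill 223 239 177 1 1 (.hub 2638)))))))))))) (.kill 227 228 121 1 1 (.kill 191 229 177 1 1 (.kill 181 230 190 1 1 (.kill 200 231 177 1 1 (.kill 197 232 190 1 1 (.kill 210 233 177 1 1 (.kill 207 234 190 1 1 (.kill 219 235 177 1 1 (.kill 214 236 190 1 1 (.kill 237 238 121 1 1 (.kill 223 239 177 1 1 (.hub 2644))))))))))))))))))))))))))))))))))))))))))))))))))) (.kill 130 177 173 1 1 (.zero 199 121 198 1 1 (.zero 202 121 201 1 1 (.zero 209 121 208 1 1 (.zero 212 121 211 1 1 (.zero 216 121 215 1 1 (.zero 221 121 220 1 1 (.zero 228 121 227 1 1 (.zero 238 121 237 1 1 (.kill 131 180 173 1 1 (.zero 199 121 198 1 1 (.zero 202 121 201 1 1 (.zero 209 121 208 1 1 (.zero 212 121 211 1 1 (.zero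 216 121 215 1 1 (.zero 221 121 220 1 1 (.zero 228 121 227 1 1 (.zero 238 121 237 1 1 (.kill 182 183 121 1 1 (.kill 136 187 173 1 1 (.zero 238 121 237 1 1 (.kill 137 190 173 1 1 (.zero 238 121 237 1 1 (.kill 192 193 121 1 1 (.split 196 (.kill 198 199 121 1 1 (.kill 201 202 121 1 1 (.hub 2695))) (.kill 198 199 121 1 1 (.kill 201 202 121 1 1 (.split 203 (.kill 152 206 173 1 1 (.zero 238 121 237 1 1 (.kill 208 209 121 1 1 (.kill 211 212 121 1 1 (.kill 159 213 173 1 1 (.zero 238 121 237 1 1 (.zero 239 173 224 1 1 (.kill 215 216 121 1 1 (.split 217 (.split 218 (.kill 220 221 121 1 1 (.split 222 (.split 223 (.split 225 (.kill 227 228 121 1 1 (.kill 197 229 173 1 1 (.kill 200 230 173 1 1 (.kill 181 231 196 1 1 (.kill 191 232 196 1 1 (.kill 214 233 173 1 1 (.kill 219 234 173 1 1 (.kill 207 235 196 1 1 (.kill 210 236 196 1 1 (.kill 237 238 121 1 1 (.kill 224 239 173 1 1 (.hub 2696)))))))))))) (.kill 227 228 121 1 1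 (.kill 197 229 173 1 1 (.kill 200 230 173 1 1 (.kill 181 231 196 1 1 (.kill 191 232 196 1 1 (.kill 214 233 173 1 1 (.kill 219 234 173 1 1 (.kill 207 235 196 1 1 (.kill 210 236 196 1 1 (.kill 237 238 121 1 1 (.kill 224 239 173 1 1 (.hub 2705))))))))))))) (.kill 142 225 223 1 1 (.zero 238 121 237 1 1 (.kill 227 228 121 1 1 (.kill 197 229 173 1 1 (.kill 200 230 173 1 1 (.kill 181 231 196 1 1 (.kill 191 232 196 1 1 (.kill 214 233 173 1 1 (.kill 219 234 173 1 1 (.kill 207 235 196 1 1 (.kill 210 236 196 1 1 (.kill 237 238 121 1 1 (.kill 224 239 173 1 1 (.hub 2563))))))))))))))) (.kill 126 223 222 1 1 (.zero 238 121 237 1 1 (.kill 143 225 222 1 1 (.zero 238 121 237 1 1 (.kill 227 228 121 1 1 (.kill 197 229 173 1 1 (.kill 200 230 173 1 1 (.kill 181 231 196 1 1 (.kill 191 232 196 1 1 (.kill 214 233 173 1 1 (.kill 219 234 173 1 1 (.kill 207 235 196 1 1 (.kill 210 236 196 1 1 (.kill 237 238 121 1 1 (.kill 224 239 173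 1 1 (.hub 2562)))))))))))))))))) (.kill 220 221 121 1 1 (.split 222 (.kill 135 223 218 1 1 (.zero 238 121 237 1 1 (.kill 147 225 218 1 1 (.zero 238 121 237 1 1 (.kill 227 228 121 1 1 (.kill 197 229 173 1 1 (.kill 200 230 173 1 1 (.kill 181 231 196 1 1 (.kill 191 232 196 1 1 (.kill 214 233 173 1 1 (.kill 219 234 173 1 1 (.kill 207 235 196 1 1 (.kill 210 236 196 1 1 (.kill 237 238 121 1 1 (.kill 224 239 173 1 1 (.hub 2706)))))))))))))))) (.kill 135 223 218 1 1 (.zero 238 121 237 1 1 (.kill 147 225 218 1 1 (.zero 238 121 237 1 1 (.kill 227 228 121 1 1 (.kill 197 229 173 1 1 (.kill 200 230 173 1 1 (.kill 181 231 196 1 1 (.kill 191 232 196 1 1 (.kill 214 233 173 1 1 (.kill 219 234 173 1 1 (.kill 207 235 196 1 1 (.kill 210 236 196 1 1 (.kill 237 238 121 1 1 (.kill 224 239 173 1 1 (.hub 2735))))))))))))))))))) (.kill 126 218 217 1 1 (.zero 238 121 237 1 1 (.zero 239 173 224 1 1 (.kill 220 221 121 1 1 (.kill 135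 222 217 1 1 (.zero 238 121 237 1 1 (.split 223 (.kill 148 225 217 1 1 (.zero 238 121 237 1 1 (.kill 227 228 121 1 1 (.kill 197 229 173 1 1 (.kill 200 230 173 1 1 (.kill 181 231 196 1 1 (.kill 191 232 196 1 1 (.kill 214 233 173 1 1 (.kill 219 234 173 1 1 (.kill 207 235 196 1 1 (.kill 210 236 196 1 1 (.kill 237 238 121 1 1 (.kill 224 239 173 1 1 (.hub 2741)))))))))))))) (.kill 148 225 217 1 1 (.zero 238 121 237 1 1 (.kill 227 228 121 1 1 (.kill 197 229 173 1 1 (.kill 200 230 173 1 1 (.kill 181 231 196 1 1 (.kill 191 232 196 1 1 (.kill 214 233 173 1 1 (.kill 219 234 173 1 1 (.kill 207 235 196 1 1 (.kill 210 236 196 1 1 (.kill 237 238 121 1 1 (.kill 224 239 173 1 1 (.hub 2770)))))))))))))))))))))))))))))) (.kill 152 206 173 1 1 (.zero 238 121 237 1 1 (.kill 208 209 121 1 1 (.kill 211 212 121 1 1 (.kill 159 213 173 1 1 (.zero 238 121 237 1 1 (.zero 239 173 224 1 1 (.kill 215 216 121 1 1 (.kill 142 217 203 1 1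 (.zero 238 121 237 1 1 (.kill 143 218 203 1 1 (.zero 238 121 237 1 1 (.kill 220 221 121 1 1 (.kill 147 222 203 1 1 (.zero 238 121 237 1 1 (.kill 148 223 203 1 1 (.zero 238 121 237 1 1 (.split 225 (.kill 227 228 121 1 1 (.kill 197 229 173 1 1 (.kill 200 230 173 1 1 (.kill 181 231 196 1 1 (.kill 191 232 196 1 1 (.kill 214 233 173 1 1 (.kill 219 234 173 1 1 (.kill 207 235 196 1 1 (.kill 210 236 196 1 1 (.kill 237 238 121 1 1 (.kill 224 239 173 1 1 (.hub 2776)))))))))))) (.kill 227 228 121 1 1 (.kill 197 229 173 1 1 (.kill 200 230 173 1 1 (.kill 181 231 196 1 1 (.kill 191 232 196 1 1 (.kill 214 233 173 1 1 (.kill 219 234 173 1 1 (.kill 207 235 196 1 1 (.kill 210 236 196 1 1 (.kill 237 238 121 1 1 (.kill 224 239 173 1 1 (.hub 2780))))))))))))))))))))))))))))))))))))))))))))))))))))))))))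

/-- A tree. -/
def tree2839 : Tree :=
  .split 206 (.kill 208 209 121 1 1 (.kill 211 212 121 1 1 (.split 213 (.kill 215 216 121 1 1 (.split 217 (.split 218 (.kill 220 221 121 1 1 (.split 222 (.split 223 (.split 224 (.kill 227 228 121 1 1 (.kill 207 229 168 1 1 (.kill 210 230 168 1 1 (.kill 214 231 168 1 1 (.kill 219 232 168 1 1 (.split 233 (.split 234 (.split 235 (.split 236 (.kill 237 238 121 1 1 (.kill 225 239 168 1 1 (.hub 2783))) (.kill 237 238 121 1 1 (.kill 225 239 168 1 1 (.hub 2787)))) (.kill 126 236 235 1 1 (.kill 237 238 121 1 1 (.kill 225 239 168 1 1 (.hub 2786))))) (.kill 130 235 234 1 1 (.kill 131 236 234 1 1 (.kill 237 238 121 1 1 (.kill 225 239 168 1 1 (.hub 2785)))))) (.kill 135 234 233 1 1 (.kill 136 235 233 1 1 (.kill 137 236 233 1 1 (.kill 237 238 121 1 1 (.kill 225 239 168 1 1 (.hub 2784)))))))))))) (.kill 227 228 121 1 1 (.kill 207 229 168 1 1 (.kill 210 230 168 1 1 (.kill 214 231 168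 1 1 (.kill 219 232 168 1 1 (.split 233 (.split 234 (.kill 169 235 224 1 1 (.kill 170 236 224 1 1 (.kill 237 238 121 1 1 (.kill 225 239 168 1 1 (.hub 2790))))) (.kill 169 235 224 1 1 (.kill 170 236 224 1 1 (.kill 237 238 121 1 1 (.kill 225 239 168 1 1 (.hub 2791)))))) (.kill 135 234 233 1 1 (.kill 169 235 224 1 1 (.kill 170 236 224 1 1 (.kill 237 238 121 1 1 (.kill 225 239 168 1 1 (.hub 2290))))))))))))) (.kill 130 224 223 1 1 (.zero 238 121 237 1 1 (.kill 227 228 121 1 1 (.kill 207 229 168 1 1 (.kill 210 230 168 1 1 (.kill 214 231 168 1 1 (.kill 219 232 168 1 1 (.split 233 (.kill 169 234 223 1 1 (.split 235 (.kill 174 236 223 1 1 (.kill 237 238 121 1 1 (.kill 225 239 168 1 1 (.hub 2789)))) (.kill 174 236 223 1 1 (.kill 237 238 121 1 1 (.kill 225 239 168 1 1 (.hub 2792)))))) (.kill 169 234 223 1 1 (.kill 136 235 233 1 1 (.kill 174 236 223 1 1 (.kill 237 238 121 1 1 (.kill 225 239 168 1 1 (.hub 2289)))))))))))))))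 (.kill 126 223 222 1 1 (.zero 238 121 237 1 1 (.kill 131 224 222 1 1 (.zero 238 121 237 1 1 (.kill 227 228 121 1 1 (.kill 207 229 168 1 1 (.kill 210 230 168 1 1 (.kill 214 231 168 1 1 (.kill 219 232 168 1 1 (.split 233 (.kill 170 234 222 1 1 (.kill 174 235 222 1 1 (.split 236 (.kill 237 238 121 1 1 (.kill 225 239 168 1 1 (.hub 2794))) (.kill 237 238 121 1 1 (.kill 225 239 168 1 1 (.hub 2795)))))) (.kill 170 234 222 1 1 (.kill 174 235 222 1 1 (.kill 137 236 233 1 1 (.kill 237 238 121 1 1 (.kill 225 239 168 1 1 (.hub 2288)))))))))))))))))) (.kill 220 221 121 1 1 (.split 222 (.kill 135 223 218 1 1 (.zero 238 121 237 1 1 (.kill 136 224 218 1 1 (.zero 238 121 237 1 1 (.kill 227 228 121 1 1 (.kill 207 229 168 1 1 (.kill 210 230 168 1 1 (.kill 214 231 168 1 1 (.kill 219 232 168 1 1 (.kill 169 233 218 1 1 (.split 234 (.split 235 (.kill 184 236 218 1 1 (.kill 237 238 121 1 1 (.kill 225 239 168 1 1 (.hub 2788)))) (.kill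 184 236 218 1 1 (.kill 237 238 121 1 1 (.kill 225 239 168 1 1 (.hub 2301))))) (.kill 130 235 234 1 1 (.kill 184 236 218 1 1 (.kill 237 238 121 1 1 (.kill 225 239 168 1 1 (.hub 2300)))))))))))))))) (.kill 135 223 218 1 1 (.zero 238 121 237 1 1 (.kill 136 224 218 1 1 (.zero 238 121 237 1 1 (.kill 227 228 121 1 1 (.kill 207 229 168 1 1 (.kill 210 230 168 1 1 (.kill 214 231 168 1 1 (.kill 219 232 168 1 1 (.kill 169 233 218 1 1 (.kill 170 234 222 1 1 (.kill 174 235 222 1 1 (.kill 184 236 218 1 1 (.kill 237 238 121 1 1 (.kill 225 239 168 1 1 (.hub 2801))))))))))))))))))) (.kill 126 218 217 1 1 (.zero 238 121 237 1 1 (.zero 239 168 225 1 1 (.kill 220 221 121 1 1 (.kill 135 222 217 1 1 (.zero 238 121 237 1 1 (.split 223 (.kill 137 224 217 1 1 (.zero 238 121 237 1 1 (.kill 227 228 121 1 1 (.kill 207 229 168 1 1 (.kill 210 230 168 1 1 (.kill 214 231 168 1 1 (.kill 219 232 168 1 1 (.kill 170 233 217 1 1 (.split 234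 (.kill 184 235 217 1 1 (.split 236 (.kill 237 238 121 1 1 (.kill 225 239 168 1 1 (.hub 2793))) (.kill 237 238 121 1 1 (.kill 225 239 168 1 1 (.hub 2312))))) (.kill 184 235 217 1 1 (.kill 131 236 234 1 1 (.kill 237 238 121 1 1 (.kill 225 239 168 1 1 (.hub 2299)))))))))))))) (.kill 137 224 217 1 1 (.zero 238 121 237 1 1 (.kill 227 228 121 1 1 (.kill 207 229 168 1 1 (.kill 210 230 168 1 1 (.kill 214 231 168 1 1 (.kill 219 232 168 1 1 (.kill 170 233 217 1 1 (.kill 169 234 223 1 1 (.kill 184 235 217 1 1 (.kill 174 236 223 1 1 (.kill 237 238 121 1 1 (.kill 225 239 168 1 1 (.hub 2804))))))))))))))))))))))) (.kill 215 216 121 1 1 (.kill 130 217 213 1 1 (.zero 238 121 237 1 1 (.zero 239 168 225 1 1 (.kill 131 218 213 1 1 (.zero 238 121 237 1 1 (.zero 239 168 225 1 1 (.kill 220 221 121 1 1 (.kill 136 222 213 1 1 (.zero 238 121 237 1 1 (.kill 137 223 213 1 1 (.zero 238 121 237 1 1 (.split 224 (.kill 227 228 121 1 1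 (.kill 207 229 168 1 1 (.kill 210 230 168 1 1 (.kill 214 231 168 1 1 (.kill 219 232 168 1 1 (.kill 174 233 213 1 1 (.kill 184 234 213 1 1 (.split 235 (.split 236 (.kill 237 238 121 1 1 (.kill 225 239 168 1 1 (.hub 2805))) (.kill 237 238 121 1 1 (.kill 225 239 168 1 1 (.hub 2311)))) (.kill 126 236 235 1 1 (.kill 237 238 121 1 1 (.kill 225 239 168 1 1 (.hub 2310)))))))))))) (.kill 227 228 121 1 1 (.kill 207 229 168 1 1 (.kill 210 230 168 1 1 (.kill 214 231 168 1 1 (.kill 219 232 168 1 1 (.kill 174 233 213 1 1 (.kill 184 234 213 1 1 (.kill 169 235 224 1 1 (.kill 170 236 224 1 1 (.kill 237 238 121 1 1 (.kill 225 239 168 1 1 (.hub 2808)))))))))))))))))))))))))))) (.kill 208 209 121 1 1 (.kill 211 212 121 1 1 (.split 213 (.kill 215 216 121 1 1 (.split 217 (.split 218 (.kill 220 221 121 1 1 (.split 222 (.split 223 (.split 224 (.kill 227 228 121 1 1 (.kill 207 229 168 1 1 (.kill 210 230 168 1 1 (.kill 214 231 168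 1 1 (.kill 219 232 168 1 1 (.kill 181 233 206 1 1 (.kill 191 234 206 1 1 (.kill 197 235 206 1 1 (.kill 200 236 206 1 1 (.kill 237 238 121 1 1 (.kill 225 239 168 1 1 (.hub 2809)))))))))))) (.kill 227 228 121 1 1 (.kill 207 229 168 1 1 (.kill 210 230 168 1 1 (.kill 214 231 168 1 1 (.kill 219 232 168 1 1 (.kill 181 233 206 1 1 (.kill 191 234 206 1 1 (.kill 197 235 206 1 1 (.kill 200 236 206 1 1 (.kill 237 238 121 1 1 (.kill 225 239 168 1 1 (.hub 2704))))))))))))) (.kill 130 224 223 1 1 (.zero 238 121 237 1 1 (.kill 227 228 121 1 1 (.kill 207 229 168 1 1 (.kill 210 230 168 1 1 (.kill 214 231 168 1 1 (.kill 219 232 168 1 1 (.kill 181 233 206 1 1 (.kill 191 234 206 1 1 (.kill 197 235 206 1 1 (.kill 200 236 206 1 1 (.kill 237 238 121 1 1 (.kill 225 239 168 1 1 (.hub 2703))))))))))))))) (.kill 126 223 222 1 1 (.zero 238 121 237 1 1 (.kill 131 224 222 1 1 (.zero 238 121 237 1 1 (.kill 227 228 121 1 1 (.kill 207 229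 168 1 1 (.kill 210 230 168 1 1 (.kill 214 231 168 1 1 (.kill 219 232 168 1 1 (.kill 181 233 206 1 1 (.kill 191 234 206 1 1 (.kill 197 235 206 1 1 (.kill 200 236 206 1 1 (.kill 237 238 121 1 1 (.kill 225 239 168 1 1 (.hub 2702)))))))))))))))))) (.kill 220 221 121 1 1 (.split 222 (.kill 135 223 218 1 1 (.zero 238 121 237 1 1 (.kill 136 224 218 1 1 (.zero 238 121 237 1 1 (.kill 227 228 121 1 1 (.kill 207 229 168 1 1 (.kill 210 230 168 1 1 (.kill 214 231 168 1 1 (.kill 219 232 168 1 1 (.kill 181 233 206 1 1 (.kill 191 234 206 1 1 (.kill 197 235 206 1 1 (.kill 200 236 206 1 1 (.kill 237 238 121 1 1 (.kill 225 239 168 1 1 (.hub 2810)))))))))))))))) (.kill 135 223 218 1 1 (.zero 238 121 237 1 1 (.kill 136 224 218 1 1 (.zero 238 121 237 1 1 (.kill 227 228 121 1 1 (.kill 207 229 168 1 1 (.kill 210 230 168 1 1 (.kill 214 231 168 1 1 (.kill 219 232 168 1 1 (.kill 181 233 206 1 1 (.kill 191 234 206 1 1 (.kill 197 235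 206 1 1 (.kill 200 236 206 1 1 (.kill 237 238 121 1 1 (.kill 225 239 168 1 1 (.hub 2816))))))))))))))))))) (.kill 126 218 217 1 1 (.zero 238 121 237 1 1 (.zero 239 168 225 1 1 (.kill 220 221 121 1 1 (.kill 135 222 217 1 1 (.zero 238 121 237 1 1 (.split 223 (.kill 137 224 217 1 1 (.zero 238 121 237 1 1 (.kill 227 228 121 1 1 (.kill 207 229 168 1 1 (.kill 210 230 168 1 1 (.kill 214 231 168 1 1 (.kill 219 232 168 1 1 (.kill 181 233 206 1 1 (.kill 191 234 206 1 1 (.kill 197 235 206 1 1 (.kill 200 236 206 1 1 (.kill 237 238 121 1 1 (.kill 225 239 168 1 1 (.hub 2822)))))))))))))) (.kill 137 224 217 1 1 (.zero 238 121 237 1 1 (.kill 227 228 121 1 1 (.kill 207 229 168 1 1 (.kill 210 230 168 1 1 (.kill 214 231 168 1 1 (.kill 219 232 168 1 1 (.kill 181 233 206 1 1 (.kill 191 234 206 1 1 (.kill 197 235 206 1 1 (.kill 200 236 206 1 1 (.kill 237 238 121 1 1 (.kill 225 239 168 1 1 (.hub 2828))))))))))))))))))))))) (.kill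 215 216 121 1 1 (.kill 130 217 213 1 1 (.zero 238 121 237 1 1 (.zero 239 168 225 1 1 (.kill 131 218 213 1 1 (.zero 238 121 237 1 1 (.zero 239 168 225 1 1 (.kill 220 221 121 1 1 (.kill 136 222 213 1 1 (.zero 238 121 237 1 1 (.kill 137 223 213 1 1 (.zero 238 121 237 1 1 (.split 224 (.kill 227 228 121 1 1 (.kill 207 229 168 1 1 (.kill 210 230 168 1 1 (.kill 214 231 168 1 1 (.kill 219 232 168 1 1 (.kill 181 233 206 1 1 (.kill 191 234 206 1 1 (.kill 197 235 206 1 1 (.kill 200 236 206 1 1 (.kill 237 238 121 1 1 (.kill 225 239 168 1 1 (.hub 2834)))))))))))) (.kill 227 228 121 1 1 (.kill 207 229 168 1 1 (.kill 210 230 168 1 1 (.kill 214 231 168 1 1 (.kill 219 232 168 1 1 (.kill 181 233 206 1 1 (.kill 191 234 206 1 1 (.kill 197 235 206 1 1 (.kill 200 236 206 1 1 (.kill 237 238 121 1 1 (.kill 225 239 168 1 1 (.hub 2838))))))))))))))))))))))))))))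

/-- A tree. -/
def tree2889 : Tree :=
  .zero 238 121 237 1 1 (.kill 192 193 121 1 1 (.kill 164 196 158 1 1 (.zero 238 121 237 1 1 (.kill 198 199 121 1 1 (.kill 201 202 121 1 1 (.split 203 (.zero 239 158 229 1 1 (.kill 169 206 158 1 1 (.zero 238 121 237 1 1 (.kill 208 209 121 1 1 (.kill 211 212 121 1 1 (.split 213 (.kill 215 216 121 1 1 (.split 217 (.kill 181 218 158 1 1 (.kill 220 221 121 1 1 (.split 222 (.kill 191 223 158 1 1 (.kill 197 224 158 1 1 (.kill 207 225 158 1 1 (.kill 227 228 121 1 1 (.split 230 (.split 231 (.split 232 (.split 233 (.split 234 (.split 235 (.kill 226 236 158 1 1 (.kill 237 238 121 1 1 (.kill 229 239 158 1 1 (.hub 2843)))) (.kill 226 236 158 1 1 (.kill 237 238 121 1 1 (.kill 229 239 158 1 1 (.hub 2845))))) (.kill 130 235 234 1 1 (.kill 226 236 158 1 1 (.kill 237 238 121 1 1 (.kill 229 239 158 1 1 (.hub 2844)))))) (.kill 135 234 233 1 1 (.kill 136 235 233 1 1 (.kill 226 236 158 1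 1 (.kill 237 238 121 1 1 (.kill 229 239 158 1 1 (.hub 2846))))))) (.split 233 (.kill 141 234 232 1 1 (.kill 142 235 232 1 1 (.kill 226 236 158 1 1 (.kill 237 238 121 1 1 (.kill 229 239 158 1 1 (.hub 2847)))))) (.kill 141 234 232 1 1 (.kill 142 235 232 1 1 (.kill 226 236 158 1 1 (.kill 237 238 121 1 1 (.kill 229 239 158 1 1 (.hub 2850)))))))) (.kill 135 232 231 1 1 (.zero 238 121 237 1 1 (.kill 141 233 231 1 1 (.split 234 (.kill 147 235 231 1 1 (.kill 226 236 158 1 1 (.kill 237 238 121 1 1 (.kill 229 239 158 1 1 (.hub 2851))))) (.kill 147 235 231 1 1 (.kill 226 236 158 1 1 (.kill 237 238 121 1 1 (.kill 229 239 158 1 1 (.hub 2854)))))))))) (.kill 130 231 230 1 1 (.zero 238 121 237 1 1 (.kill 136 232 230 1 1 (.zero 238 121 237 1 1 (.kill 142 233 230 1 1 (.kill 147 234 230 1 1 (.split 235 (.kill 226 236 158 1 1 (.kill 237 238 121 1 1 (.kill 229 239 158 1 1 (.hub 2855)))) (.kill 226 236 158 1 1 (.kill 237 238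 121 1 1 (.kill 229 239 158 1 1 (.hub 2858)))))))))))))))) (.kill 191 223 158 1 1 (.kill 197 224 158 1 1 (.kill 207 225 158 1 1 (.kill 227 228 121 1 1 (.split 230 (.split 231 (.kill 165 232 222 1 1 (.split 233 (.kill 170 234 222 1 1 (.kill 174 235 222 1 1 (.kill 226 236 158 1 1 (.kill 237 238 121 1 1 (.kill 229 239 158 1 1 (.hub 2865)))))) (.kill 170 234 222 1 1 (.kill 174 235 222 1 1 (.kill 226 236 158 1 1 (.kill 237 238 121 1 1 (.kill 229 239 158 1 1 (.hub 2233)))))))) (.kill 165 232 222 1 1 (.kill 141 233 231 1 1 (.kill 170 234 222 1 1 (.kill 174 235 222 1 1 (.kill 226 236 158 1 1 (.kill 237 238 121 1 1 (.kill 229 239 158 1 1 (.hub 2232))))))))) (.kill 130 231 230 1 1 (.zero 238 121 237 1 1 (.kill 165 232 222 1 1 (.kill 142 233 230 1 1 (.kill 170 234 222 1 1 (.kill 174 235 222 1 1 (.kill 226 236 158 1 1 (.kill 237 238 121 1 1 (.kill 229 239 158 1 1 (.hub 2231)))))))))))))))))) (.kill 181 218 158 1 1 (.kill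 220 221 121 1 1 (.kill 135 222 217 1 1 (.zero 238 121 237 1 1 (.kill 191 223 158 1 1 (.kill 197 224 158 1 1 (.kill 207 225 158 1 1 (.kill 227 228 121 1 1 (.split 230 (.kill 165 231 217 1 1 (.split 232 (.kill 170 233 217 1 1 (.split 234 (.kill 184 235 217 1 1 (.kill 226 236 158 1 1 (.kill 237 238 121 1 1 (.kill 229 239 158 1 1 (.hub 2872))))) (.kill 184 235 217 1 1 (.kill 226 236 158 1 1 (.kill 237 238 121 1 1 (.kill 229 239 158 1 1 (.hub 2234))))))) (.kill 170 233 217 1 1 (.kill 141 234 232 1 1 (.kill 184 235 217 1 1 (.kill 226 236 158 1 1 (.kill 237 238 121 1 1 (.kill 229 239 158 1 1 (.hub 2323))))))))) (.kill 165 231 217 1 1 (.kill 136 232 230 1 1 (.zero 238 121 237 1 1 (.kill 170 233 217 1 1 (.kill 147 234 230 1 1 (.kill 184 235 217 1 1 (.kill 226 236 158 1 1 (.kill 237 238 121 1 1 (.kill 229 239 158 1 1 (.hub 2249))))))))))))))))))))) (.kill 215 216 121 1 1 (.kill 130 217 213 1 1 (.zero 238 121 237 1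 1 (.kill 181 218 158 1 1 (.kill 220 221 121 1 1 (.kill 136 222 213 1 1 (.zero 238 121 237 1 1 (.kill 191 223 158 1 1 (.kill 197 224 158 1 1 (.kill 207 225 158 1 1 (.kill 227 228 121 1 1 (.kill 165 230 213 1 1 (.split 231 (.split 232 (.kill 174 233 213 1 1 (.kill 184 234 213 1 1 (.split 235 (.kill 226 236 158 1 1 (.kill 237 238 121 1 1 (.kill 229 239 158 1 1 (.hub 2879)))) (.kill 226 236 158 1 1 (.kill 237 238 121 1 1 (.kill 229 239 158 1 1 (.hub 2880))))))) (.kill 174 233 213 1 1 (.kill 184 234 213 1 1 (.kill 142 235 232 1 1 (.kill 226 236 158 1 1 (.kill 237 238 121 1 1 (.kill 229 239 158 1 1 (.hub 2338)))))))) (.kill 135 232 231 1 1 (.zero 238 121 237 1 1 (.kill 174 233 213 1 1 (.kill 184 234 213 1 1 (.kill 147 235 231 1 1 (.kill 226 236 158 1 1 (.kill 237 238 121 1 1 (.kill 229 239 158 1 1 (.hub 2250)))))))))))))))))))))))))))) (.kill 169 206 158 1 1 (.zero 238 121 237 1 1 (.zero 239 158 229 1 1 (.kill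 208 209 121 1 1 (.kill 211 212 121 1 1 (.kill 141 213 203 1 1 (.zero 238 121 237 1 1 (.kill 215 216 121 1 1 (.kill 142 217 203 1 1 (.zero 238 121 237 1 1 (.kill 181 218 158 1 1 (.kill 220 221 121 1 1 (.kill 147 222 203 1 1 (.zero 238 121 237 1 1 (.kill 191 223 158 1 1 (.kill 197 224 158 1 1 (.kill 207 225 158 1 1 (.kill 227 228 121 1 1 (.kill 170 230 203 1 1 (.kill 174 231 203 1 1 (.kill 184 232 203 1 1 (.split 233 (.split 234 (.split 235 (.kill 226 236 158 1 1 (.kill 237 238 121 1 1 (.kill 229 239 158 1 1 (.hub 2887)))) (.kill 226 236 158 1 1 (.kill 237 238 121 1 1 (.kill 229 239 158 1 1 (.hub 2888))))) (.kill 130 235 234 1 1 (.kill 226 236 158 1 1 (.kill 237 238 121 1 1 (.kill 229 239 158 1 1 (.hub 2252)))))) (.kill 135 234 233 1 1 (.kill 136 235 233 1 1 (.kill 226 236 158 1 1 (.kill 237 238 121 1 1 (.kill 229 239 158 1 1 (.hub 2251))))))))))))))))))))))))))))))))))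

/-- Trees from index 2348. -/
def trees3_0 : List Tree := [
    tree2348,
    .weyl 7 0 (.hub 114),
    .weyl 5 0 (.hub 1988),
    .weyl 4 0 (.hub 2350),
    .weyl 3 0 (.hub 2351),
    .weyl 6 0 (.hub 2352),
    .weyl 5 0 (.hub 2353),
    .weyl 4 0 (.hub 2354),
    .weyl 3 0 (.hub 2355),
    .weyl 1 0 (.hub 2356),
    .weyl 2 0 (.hub 2357),
    .weyl 0 0 (.hub 2358),
    .weyl 3 0 (.hub 2359),
    .weyl 2 0 (.hub 2360),
    .weyl 4 0 (.hub 2361),
    .weyl 5 0 (.hub 2362),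
    .weyl 6 0 (.hub 2363),
    .weyl 7 0 (.hub 2364),
    .weyl 6 0 (.hub 2365),
    .weyl 5 0 (.hub 2366),
    .weyl 4 0 (.hub 2367),
    .weyl 3 0 (.hub 2368),
    .weyl 1 0 (.hub 2369),
    .weyl 4 0 (.hub 2360),
    .weyl 5 0 (.hub 2371),
    .weyl 6 0 (.hub 2372),
    .weyl 7 0 (.hub 2373),
    .weyl 6 0 (.hub 2374),
    .weyl 5 0 (.hub 2375),
    .weyl 0 0 (.hub 6),
    .weyl 1 0 (.hub 2377),
    .weyl 2 0 (.hub 2378),
    .weyl 4 0 (.hub 2379),
    .weyl 3 0 (.hub 2380),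
    .weyl 1 0 (.hub 2381),
    .weyl 2 0 (.hub 2382),
    .weyl 6 0 (.hub 2383),
    .weyl 5 0 (.hub 2384),
    .weyl 4 0 (.hub 2385),
    .weyl 3 0 (.hub 2386),
    .weyl 1 0 (.hub 2387),
    .weyl 2 0 (.hub 2388),
    .weyl 0 0 (.hub 2389),
    .weyl 3 0 (.hub 2390),
    .weyl 4 0 (.hub 2391),
    .weyl 5 0 (.hub 2392),
    .weyl 6 0 (.hub 2393),
    .weyl 7 0 (.hub 2394),
    .weyl 6 0 (.hub 2395),
    .weyl 5 0 (.hub 2396),
    .weyl 4 0 (.hub 2397),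
    .weyl 3 0 (.hub 2398),
    .weyl 1 0 (.hub 2399),
    .weyl 2 0 (.hub 2400),
    .weyl 0 0 (.hub 2401),
    .weyl 3 0 (.hub 2402),
    .weyl 2 0 (.hub 2403),
    .weyl 4 0 (.hub 2404),
    .weyl 3 0 (.hub 2405),
    .weyl 5 0 (.hub 2406),
    .weyl 4 0 (.hub 2407),
    .weyl 6 0 (.hub 2408),
    .weyl 5 0 (.hub 2409),
    .weyl 7 0 (.hub 2410),
    .weyl 6 0 (.hub 2351),
    .weyl 5 0 (.hub 2412),
    .weyl 4 0 (.hub 2413),
    .weyl 3 0 (.hub 2414),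
    .weyl 1 0 (.hub 2415),
    .weyl 2 0 (.hub 2416),
    .weyl 0 0 (.hub 2417),
    .weyl 3 0 (.hub 2418),
    .weyl 4 0 (.hub 2419),
    .weyl 5 0 (.hub 2420),
    .weyl 6 0 (.hub 2421),
    .weyl 7 0 (.hub 2422),
    .weyl 6 0 (.hub 2423),
    .weyl 5 0 (.hub 2424),
    .weyl 3 0 (.hub 2379),
    .weyl 4 0 (.hub 2426),
    .weyl 3 0 (.hub 2427),
    .weyl 1 0 (.hub 2428),
    .weyl 2 0 (.hub 2429),
    .weyl 6 0 (.hub 2430),
    .weyl 5 0 (.hub 2431),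
    .weyl 4 0 (.hub 2432),
    .weyl 3 0 (.hub 2433),
    .weyl 1 0 (.hub 2434),
    .weyl 2 0 (.hub 2435),
    .weyl 0 0 (.hub 2436),
    .weyl 3 0 (.hub 2437),
    .weyl 4 0 (.hub 2438),
    .weyl 5 0 (.hub 2439),
    .weyl 6 0 (.hub 2440),
    .weyl 7 0 (.hub 2441),
    .weyl 6 0 (.hub 2442),
    .weyl 5 0 (.hub 2443),
    .weyl 4 0 (.hub 2444),
    .weyl 3 0 (.hub 2445),
    .weyl 1 0 (.hub 2446)]

theorem trees3_0_ok : allOK tab simples patterns 2348 trees3_0 = true :=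
  Fast.allOK_of_fast (by decide +kernel)

/-- Trees from index 2448. -/
def trees3_1 : List Tree := [
    .weyl 2 0 (.hub 2447),
    .weyl 0 0 (.hub 2448),
    .weyl 3 0 (.hub 2449),
    .weyl 2 0 (.hub 2450),
    .weyl 4 0 (.hub 2451),
    .weyl 3 0 (.hub 2452),
    .weyl 5 0 (.hub 2453),
    .weyl 4 0 (.hub 2454),
    .weyl 6 0 (.hub 2455),
    .weyl 5 0 (.hub 2456),
    .weyl 7 0 (.hub 2457),
    .weyl 4 0 (.hub 5),
    .weyl 3 0 (.hub 2459),
    .weyl 1 0 (.hub 2460),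
    .weyl 2 0 (.hub 2461),
    .weyl 0 0 (.hub 2462),
    .weyl 5 0 (.hub 2463),
    .weyl 4 0 (.hub 2464),
    .weyl 6 0 (.hub 2465),
    .weyl 5 0 (.hub 2466),
    .weyl 4 0 (.hub 2467),
    .weyl 3 0 (.hub 2468),
    .weyl 1 0 (.hub 2469),
    .weyl 2 0 (.hub 2470),
    .weyl 0 0 (.hub 2471),
    .weyl 3 0 (.hub 2472),
    .weyl 4 0 (.hub 2473),
    .weyl 5 0 (.hub 2474),
    .weyl 6 0 (.hub 2475),
    .weyl 7 0 (.hub 2476),
    .weyl 6 0 (.hub 2477),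
    .weyl 5 0 (.hub 2478),
    .weyl 1 0 (.hub 2453),
    .weyl 5 0 (.hub 2480),
    .weyl 4 0 (.hub 2481),
    .weyl 6 0 (.hub 2482),
    .weyl 5 0 (.hub 2483),
    .weyl 7 0 (.hub 2484),
    tree2486,
    .weyl 7 0 (.hub 550),
    .weyl 4 0 (.hub 2276),
    .weyl 2 0 (.hub 2261),
    .weyl 2 0 (.hub 2260),
    .weyl 4 0 (.hub 2283),
    .weyl 2 0 (.hub 2264),
    .weyl 2 0 (.hub 2263),
    .weyl 2 0 (.hub 2268),
    .weyl 4 0 (.hub 2322),
    .weyl 4 0 (.hub 2337),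
    .weyl 4 0 (.hub 2236),
    .weyl 6 0 (.hub 2123),
    .weyl 5 0 (.hub 2498),
    .weyl 4 0 (.hub 2499),
    .weyl 3 0 (.hub 2500),
    .weyl 1 0 (.hub 2501),
    .weyl 2 0 (.hub 2502),
    .weyl 0 0 (.hub 2503),
    .weyl 3 0 (.hub 2504),
    .weyl 2 0 (.hub 2505),
    .weyl 4 0 (.hub 2506),
    .weyl 3 0 (.hub 2507),
    .weyl 1 0 (.hub 2508),
    .weyl 5 0 (.hub 2509),
    .weyl 4 0 (.hub 2510),
    .weyl 3 0 (.hub 2511),
    .weyl 6 0 (.hub 2512),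
    .weyl 5 0 (.hub 2513),
    .weyl 4 0 (.hub 2514),
    .weyl 7 0 (.hub 2515),
    .weyl 6 0 (.hub 2516),
    .weyl 5 0 (.hub 2517),
    .weyl 4 0 (.hub 2518),
    .weyl 3 0 (.hub 2519),
    .weyl 2 0 (.hub 2520),
    .weyl 0 0 (.hub 2521),
    .weyl 6 0 (.hub 1992),
    .weyl 5 0 (.hub 2523),
    .weyl 4 0 (.hub 2524),
    .weyl 3 0 (.hub 2525),
    .weyl 1 0 (.hub 2526),
    .weyl 2 0 (.hub 2527),
    .weyl 0 0 (.hub 2528),
    .weyl 3 0 (.hub 2529),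
    .weyl 2 0 (.hub 2530),
    .weyl 4 0 (.hub 2531),
    .weyl 3 0 (.hub 2532),
    .weyl 1 0 (.hub 2533),
    .weyl 5 0 (.hub 2534),
    .weyl 4 0 (.hub 2535),
    .weyl 3 0 (.hub 2536),
    .weyl 2 0 (.hub 2537),
    .weyl 6 0 (.hub 2538),
    .weyl 5 0 (.hub 2539),
    .weyl 4 0 (.hub 2540),
    .weyl 3 0 (.hub 2541),
    .weyl 7 0 (.hub 2542),
    .weyl 6 0 (.hub 2543),
    .weyl 5 0 (.hub 2544),
    .weyl 4 0 (.hub 2346),
    .weyl 4 0 (.hub 2254)]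

theorem trees3_1_ok : allOK tab simples patterns 2448 trees3_1 = true :=
  Fast.allOK_of_fast (by decide +kernel)

/-- Trees from index 2548. -/
def trees3_2 : List Tree := [
    .weyl 1 0 (.hub 2520),
    .weyl 2 0 (.hub 2548),
    .weyl 0 0 (.hub 2549),
    .weyl 1 0 (.hub 2542),
    .weyl 7 0 (.hub 2551),
    .weyl 6 0 (.hub 2552),
    .weyl 5 0 (.hub 2553),
    tree2555,
    .weyl 7 0 (.hub 149),
    .weyl 3 0 (.hub 2362),
    .weyl 5 0 (.hub 2557),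
    .weyl 6 0 (.hub 2558),
    .weyl 7 0 (.hub 2559),
    .weyl 6 0 (.hub 2560),
    .weyl 5 0 (.hub 2561),
    .weyl 4 0 (.hub 2562),
    .weyl 3 0 (.hub 2563),
    .weyl 1 0 (.hub 2564),
    .weyl 4 0 (.hub 2376),
    .weyl 0 0 (.hub 2383),
    .weyl 6 0 (.hub 2567),
    .weyl 5 0 (.hub 2568),
    .weyl 4 0 (.hub 2569),
    .weyl 3 0 (.hub 2570),
    .weyl 1 0 (.hub 2571),
    .weyl 2 0 (.hub 2572),
    .weyl 0 0 (.hub 2573),
    .weyl 3 0 (.hub 2574),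
    .weyl 4 0 (.hub 2575),
    .weyl 5 0 (.hub 2576),
    .weyl 6 0 (.hub 2577),
    .weyl 7 0 (.hub 2578),
    .weyl 6 0 (.hub 2579),
    .weyl 5 0 (.hub 2580),
    .weyl 4 0 (.hub 2581),
    .weyl 3 0 (.hub 2582),
    .weyl 1 0 (.hub 2583),
    .weyl 2 0 (.hub 2584),
    .weyl 0 0 (.hub 2585),
    .weyl 3 0 (.hub 2586),
    .weyl 2 0 (.hub 2587),
    .weyl 4 0 (.hub 2588),
    .weyl 3 0 (.hub 2589),
    .weyl 5 0 (.hub 2590),
    .weyl 4 0 (.hub 2591),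
    .weyl 6 0 (.hub 2592),
    .weyl 5 0 (.hub 2593),
    .weyl 7 0 (.hub 2594),
    .weyl 2 0 (.hub 2419),
    .weyl 4 0 (.hub 2596),
    .weyl 5 0 (.hub 2597),
    .weyl 6 0 (.hub 2598),
    .weyl 7 0 (.hub 2599),
    .weyl 6 0 (.hub 2600),
    .weyl 5 0 (.hub 2601),
    .weyl 3 0 (.hub 2430),
    .weyl 6 0 (.hub 2603),
    .weyl 5 0 (.hub 2604),
    .weyl 4 0 (.hub 2605),
    .weyl 3 0 (.hub 2606),
    .weyl 1 0 (.hub 2607),
    .weyl 2 0 (.hub 2608),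
    .weyl 0 0 (.hub 2609),
    .weyl 3 0 (.hub 2610),
    .weyl 4 0 (.hub 2611),
    .weyl 5 0 (.hub 2612),
    .weyl 6 0 (.hub 2613),
    .weyl 7 0 (.hub 2614),
    .weyl 6 0 (.hub 2615),
    .weyl 5 0 (.hub 2616),
    .weyl 4 0 (.hub 2617),
    .weyl 3 0 (.hub 2618),
    .weyl 1 0 (.hub 2619),
    .weyl 2 0 (.hub 2620),
    .weyl 0 0 (.hub 2621),
    .weyl 3 0 (.hub 2622),
    .weyl 2 0 (.hub 2623),
    .weyl 4 0 (.hub 2624),
    .weyl 3 0 (.hub 2625),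
    .weyl 5 0 (.hub 2626),
    .weyl 4 0 (.hub 2627),
    .weyl 6 0 (.hub 2628),
    .weyl 5 0 (.hub 2629),
    .weyl 7 0 (.hub 2630),
    .weyl 2 0 (.hub 2473),
    .weyl 4 0 (.hub 2632),
    .weyl 5 0 (.hub 2633),
    .weyl 6 0 (.hub 2634),
    .weyl 7 0 (.hub 2635),
    .weyl 6 0 (.hub 2636),
    .weyl 5 0 (.hub 2637),
    .weyl 1 0 (.hub 2626),
    .weyl 5 0 (.hub 2639),
    .weyl 4 0 (.hub 2640),
    .weyl 6 0 (.hub 2641),
    .weyl 5 0 (.hub 2642),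
    .weyl 7 0 (.hub 2643),
    .weyl 7 0 (.hub 723),
    .weyl 3 0 (.hub 2489),
    .weyl 4 0 (.hub 2646)]

theorem trees3_2_ok : allOK tab simples patterns 2548 trees3_2 = true :=
  Fast.allOK_of_fast (by decide +kernel)

/-- Trees from index 2648. -/
def trees3_3 : List Tree := [
    .weyl 3 0 (.hub 2491),
    .weyl 2 0 (.hub 2648),
    .weyl 3 0 (.hub 2492),
    .weyl 3 0 (.hub 2495),
    .weyl 2 0 (.hub 2651),
    .weyl 3 0 (.hub 2496),
    .weyl 2 0 (.hub 2653),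
    .weyl 6 0 (.hub 2537),
    .weyl 5 0 (.hub 2655),
    .weyl 4 0 (.hub 2656),
    .weyl 7 0 (.hub 2657),
    .weyl 6 0 (.hub 2658),
    .weyl 5 0 (.hub 2659),
    .weyl 7 0 (.hub 2541),
    .weyl 6 0 (.hub 2661),
    .weyl 5 0 (.hub 2662),
    .weyl 3 0 (.hub 2546),
    .weyl 3 0 (.hub 2550),
    .weyl 4 0 (.hub 2665),
    .weyl 3 0 (.hub 2463),
    .weyl 2 0 (.hub 2667),
    .weyl 4 0 (.hub 2668),
    .weyl 3 0 (.hub 2669),
    .weyl 6 0 (.hub 2670),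
    .weyl 5 0 (.hub 2671),
    .weyl 4 0 (.hub 2672),
    .weyl 3 0 (.hub 2673),
    .weyl 1 0 (.hub 2674),
    .weyl 2 0 (.hub 2675),
    .weyl 0 0 (.hub 2676),
    .weyl 3 0 (.hub 2677),
    .weyl 2 0 (.hub 2678),
    .weyl 4 0 (.hub 2679),
    .weyl 3 0 (.hub 2680),
    .weyl 1 0 (.hub 2681),
    .weyl 5 0 (.hub 2682),
    .weyl 4 0 (.hub 2683),
    .weyl 3 0 (.hub 2684),
    .weyl 2 0 (.hub 2685),
    .weyl 6 0 (.hub 2686),
    .weyl 5 0 (.hub 2687),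
    .weyl 4 0 (.hub 2688),
    .weyl 3 0 (.hub 2689),
    .weyl 1 0 (.hub 2690),
    .weyl 7 0 (.hub 2691),
    .weyl 6 0 (.hub 2692),
    .weyl 5 0 (.hub 2693),
    tree2695,
    .weyl 7 0 (.hub 202),
    .weyl 1 0 (.hub 2557),
    .weyl 5 0 (.hub 2697),
    .weyl 6 0 (.hub 2698),
    .weyl 7 0 (.hub 2699),
    .weyl 6 0 (.hub 2700),
    .weyl 5 0 (.hub 2701),
    .weyl 4 0 (.hub 2702),
    .weyl 3 0 (.hub 2703),
    .weyl 1 0 (.hub 2704),
    .weyl 3 0 (.hub 2566),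
    .weyl 0 0 (.hub 2430),
    .weyl 6 0 (.hub 2707),
    .weyl 5 0 (.hub 2708),
    .weyl 4 0 (.hub 2709),
    .weyl 3 0 (.hub 2710),
    .weyl 1 0 (.hub 2711),
    .weyl 2 0 (.hub 2712),
    .weyl 0 0 (.hub 2713),
    .weyl 3 0 (.hub 2714),
    .weyl 4 0 (.hub 2715),
    .weyl 5 0 (.hub 2716),
    .weyl 6 0 (.hub 2717),
    .weyl 7 0 (.hub 2718),
    .weyl 6 0 (.hub 2719),
    .weyl 5 0 (.hub 2720),
    .weyl 4 0 (.hub 2721),
    .weyl 3 0 (.hub 2722),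
    .weyl 1 0 (.hub 2723),
    .weyl 2 0 (.hub 2724),
    .weyl 0 0 (.hub 2725),
    .weyl 3 0 (.hub 2726),
    .weyl 2 0 (.hub 2727),
    .weyl 4 0 (.hub 2728),
    .weyl 3 0 (.hub 2729),
    .weyl 5 0 (.hub 2730),
    .weyl 4 0 (.hub 2731),
    .weyl 6 0 (.hub 2732),
    .weyl 5 0 (.hub 2733),
    .weyl 7 0 (.hub 2734),
    .weyl 3 0 (.hub 2597),
    .weyl 5 0 (.hub 2736),
    .weyl 6 0 (.hub 2737),
    .weyl 7 0 (.hub 2738),
    .weyl 6 0 (.hub 2739),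
    .weyl 5 0 (.hub 2740),
    .weyl 3 0 (.hub 2707),
    .weyl 6 0 (.hub 2742),
    .weyl 5 0 (.hub 2743),
    .weyl 4 0 (.hub 2744),
    .weyl 3 0 (.hub 2745),
    .weyl 1 0 (.hub 2746)]

theorem trees3_3_ok : allOK tab simples patterns 2648 trees3_3 = true :=
  Fast.allOK_of_fast (by decide +kernel)

/-- Trees from index 2748. -/
def trees3_4 : List Tree := [
    .weyl 2 0 (.hub 2747),
    .weyl 0 0 (.hub 2748),
    .weyl 3 0 (.hub 2749),
    .weyl 4 0 (.hub 2750),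
    .weyl 5 0 (.hub 2751),
    .weyl 6 0 (.hub 2752),
    .weyl 7 0 (.hub 2753),
    .weyl 6 0 (.hub 2754),
    .weyl 5 0 (.hub 2755),
    .weyl 4 0 (.hub 2756),
    .weyl 3 0 (.hub 2757),
    .weyl 1 0 (.hub 2758),
    .weyl 2 0 (.hub 2759),
    .weyl 0 0 (.hub 2760),
    .weyl 3 0 (.hub 2761),
    .weyl 2 0 (.hub 2762),
    .weyl 4 0 (.hub 2763),
    .weyl 3 0 (.hub 2764),
    .weyl 5 0 (.hub 2765),
    .weyl 4 0 (.hub 2766),
    .weyl 6 0 (.hub 2767),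
    .weyl 5 0 (.hub 2768),
    .weyl 7 0 (.hub 2769),
    .weyl 3 0 (.hub 2633),
    .weyl 5 0 (.hub 2771),
    .weyl 6 0 (.hub 2772),
    .weyl 7 0 (.hub 2773),
    .weyl 6 0 (.hub 2774),
    .weyl 5 0 (.hub 2775),
    .weyl 3 0 (.hub 2641),
    .weyl 6 0 (.hub 2777),
    .weyl 5 0 (.hub 2778),
    .weyl 7 0 (.hub 2779),
    tree2781,
    .weyl 6 0 (.hub 1188),
    .weyl 7 0 (.hub 2782),
    .weyl 1 0 (.hub 2648),
    .weyl 2 0 (.hub 2784),
    .weyl 3 0 (.hub 2785),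
    .weyl 4 0 (.hub 2786),
    .weyl 1 0 (.hub 2651),
    .weyl 2 0 (.hub 2788),
    .weyl 3 0 (.hub 2789),
    .weyl 2 0 (.hub 2290),
    .weyl 2 0 (.hub 2301),
    .weyl 1 0 (.hub 2653),
    .weyl 2 0 (.hub 2793),
    .weyl 2 0 (.hub 2312),
    .weyl 6 0 (.hub 2685),
    .weyl 5 0 (.hub 2796),
    .weyl 4 0 (.hub 2797),
    .weyl 7 0 (.hub 2798),
    .weyl 6 0 (.hub 2799),
    .weyl 5 0 (.hub 2800),
    .weyl 7 0 (.hub 2689),
    .weyl 6 0 (.hub 2802),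
    .weyl 5 0 (.hub 2803),
    .weyl 1 0 (.hub 2664),
    .weyl 7 0 (.hub 2690),
    .weyl 6 0 (.hub 2806),
    .weyl 5 0 (.hub 2807),
    .weyl 7 0 (.hub 255),
    .weyl 1 0 (.hub 2706),
    .weyl 1 0 (.hub 2730),
    .weyl 5 0 (.hub 2811),
    .weyl 4 0 (.hub 2812),
    .weyl 6 0 (.hub 2813),
    .weyl 5 0 (.hub 2814),
    .weyl 7 0 (.hub 2815),
    .weyl 1 0 (.hub 2736),
    .weyl 5 0 (.hub 2817),
    .weyl 6 0 (.hub 2818),
    .weyl 7 0 (.hub 2819),
    .weyl 6 0 (.hub 2820),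
    .weyl 5 0 (.hub 2821),
    .weyl 1 0 (.hub 2765),
    .weyl 5 0 (.hub 2823),
    .weyl 4 0 (.hub 2824),
    .weyl 6 0 (.hub 2825),
    .weyl 5 0 (.hub 2826),
    .weyl 7 0 (.hub 2827),
    .weyl 1 0 (.hub 2771),
    .weyl 5 0 (.hub 2829),
    .weyl 6 0 (.hub 2830),
    .weyl 7 0 (.hub 2831),
    .weyl 6 0 (.hub 2832),
    .weyl 5 0 (.hub 2833),
    .weyl 3 0 (.hub 2825),
    .weyl 6 0 (.hub 2835),
    .weyl 5 0 (.hub 2836)]

theorem trees3_4_ok : allOK tab simples patterns 2748 trees3_4 = true :=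
  Fast.allOK_of_fast (by decide +kernel)

/-- Trees from index 2838. -/
def trees3_5 : List Tree := [
    .weyl 7 0 (.hub 2837),
    tree2839,
    .weyl 3 0 (.hub 41),
    .weyl 4 0 (.hub 2840),
    .weyl 6 0 (.hub 2841),
    .weyl 7 0 (.hub 2842),
    .weyl 0 0 (.hub 2275),
    .weyl 3 0 (.hub 2844),
    .weyl 0 0 (.hub 2284),
    .weyl 0 0 (.hub 2277),
    .weyl 0 0 (.hub 2292),
    .weyl 3 0 (.hub 2848),
    .weyl 4 0 (.hub 2849),
    .weyl 0 0 (.hub 2295),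
    .weyl 0 0 (.hub 2303),
    .weyl 3 0 (.hub 2852),
    .weyl 4 0 (.hub 2853),
    .weyl 0 0 (.hub 2306),
    .weyl 0 0 (.hub 2314),
    .weyl 3 0 (.hub 2856),
    .weyl 4 0 (.hub 2857),
    .weyl 3 0 (.hub 1934),
    .weyl 4 0 (.hub 2859),
    .weyl 5 0 (.hub 2860),
    .weyl 6 0 (.hub 2861),
    .weyl 7 0 (.hub 2862),
    .weyl 6 0 (.hub 2863),
    .weyl 5 0 (.hub 2864),
    .weyl 3 0 (.hub 1969),
    .weyl 4 0 (.hub 2866),
    .weyl 5 0 (.hub 2867),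
    .weyl 6 0 (.hub 2868),
    .weyl 7 0 (.hub 2869),
    .weyl 6 0 (.hub 2870),
    .weyl 5 0 (.hub 2871),
    .weyl 3 0 (.hub 2039),
    .weyl 4 0 (.hub 2873),
    .weyl 5 0 (.hub 2874),
    .weyl 6 0 (.hub 2875),
    .weyl 7 0 (.hub 2876),
    .weyl 6 0 (.hub 2877),
    .weyl 5 0 (.hub 2878),
    .weyl 3 0 (.hub 2234),
    .weyl 3 0 (.hub 2085),
    .weyl 4 0 (.hub 2881),
    .weyl 5 0 (.hub 2882),
    .weyl 6 0 (.hub 2883),
    .weyl 7 0 (.hub 2884),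
    .weyl 6 0 (.hub 2885),
    .weyl 5 0 (.hub 2886),
    .weyl 3 0 (.hub 2252)]

theorem trees3_5_ok : allOK tab simples patterns 2838 trees3_5 = true :=
  Fast.allOK_of_fast (by decide +kernel)

/-- Trees from index 2889. -/
def trees3_6 : List Tree := [
    tree2889,
    .weyl 6 0 (.hub 1922),
    .weyl 7 0 (.hub 2890),
    .weyl 1 0 (.hub 2352),
    .weyl 6 0 (.hub 2892),
    .weyl 5 0 (.hub 2893),
    .weyl 4 0 (.hub 2894),
    .weyl 3 0 (.hub 2895),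
    .weyl 1 0 (.hub 2896),
    .weyl 2 0 (.hub 2897),
    .weyl 0 0 (.hub 2898),
    .weyl 3 0 (.hub 2899),
    .weyl 2 0 (.hub 2900),
    .weyl 4 0 (.hub 2901),
    .weyl 5 0 (.hub 2902),
    .weyl 6 0 (.hub 2903),
    .weyl 7 0 (.hub 2904),
    .weyl 6 0 (.hub 2905),
    .weyl 5 0 (.hub 2906),
    .weyl 4 0 (.hub 2907),
    .weyl 3 0 (.hub 2908),
    .weyl 1 0 (.hub 2909),
    .weyl 3 0 (.hub 2358),
    .weyl 4 0 (.hub 2911),
    .weyl 5 0 (.hub 2912),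
    .weyl 6 0 (.hub 2913),
    .weyl 7 0 (.hub 2914),
    .weyl 6 0 (.hub 2915),
    .weyl 5 0 (.hub 2916),
    .weyl 6 0 (.hub 2382),
    .weyl 5 0 (.hub 2918),
    .weyl 4 0 (.hub 2919),
    .weyl 3 0 (.hub 2920),
    .weyl 1 0 (.hub 2921),
    .weyl 2 0 (.hub 2922),
    .weyl 0 0 (.hub 2923),
    .weyl 3 0 (.hub 2924),
    .weyl 4 0 (.hub 2925),
    .weyl 5 0 (.hub 2926),
    .weyl 6 0 (.hub 2927),
    .weyl 7 0 (.hub 2928),
    .weyl 6 0 (.hub 2929),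
    .weyl 5 0 (.hub 2930),
    .weyl 4 0 (.hub 2931),
    .weyl 3 0 (.hub 2932),
    .weyl 1 0 (.hub 2933),
    .weyl 2 0 (.hub 2934),
    .weyl 0 0 (.hub 2935),
    .weyl 3 0 (.hub 2936),
    .weyl 2 0 (.hub 2937),
    .weyl 4 0 (.hub 2938),
    .weyl 3 0 (.hub 2939),
    .weyl 5 0 (.hub 2940),
    .weyl 4 0 (.hub 2941),
    .weyl 6 0 (.hub 2942),
    .weyl 5 0 (.hub 2943),
    .weyl 7 0 (.hub 2944),
    .weyl 3 0 (.hub 2417),
    .weyl 4 0 (.hub 2946),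
    .weyl 5 0 (.hub 2947),
    .weyl 6 0 (.hub 2948),
    .weyl 7 0 (.hub 2949),
    .weyl 6 0 (.hub 2950),
    .weyl 5 0 (.hub 2951),
    .weyl 6 0 (.hub 2429),
    .weyl 5 0 (.hub 2953),
    .weyl 4 0 (.hub 2954),
    .weyl 3 0 (.hub 2955),
    .weyl 1 0 (.hub 2956),
    .weyl 2 0 (.hub 2957),
    .weyl 0 0 (.hub 2958),
    .weyl 3 0 (.hub 2959),
    .weyl 4 0 (.hub 2960),
    .weyl 5 0 (.hub 2961),
    .weyl 6 0 (.hub 2962),
    .weyl 7 0 (.hub 2963),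
    .weyl 6 0 (.hub 2964),
    .weyl 5 0 (.hub 2965),
    .weyl 4 0 (.hub 2966),
    .weyl 3 0 (.hub 2967),
    .weyl 1 0 (.hub 2968),
    .weyl 2 0 (.hub 2969),
    .weyl 0 0 (.hub 2970),
    .weyl 3 0 (.hub 2971),
    .weyl 2 0 (.hub 2972),
    .weyl 4 0 (.hub 2973),
    .weyl 3 0 (.hub 2974),
    .weyl 5 0 (.hub 2975),
    .weyl 4 0 (.hub 2976),
    .weyl 6 0 (.hub 2977),
    .weyl 5 0 (.hub 2978),
    .weyl 7 0 (.hub 2979),
    .weyl 3 0 (.hub 2471),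
    .weyl 4 0 (.hub 2981),
    .weyl 5 0 (.hub 2982),
    .weyl 6 0 (.hub 2983),
    .weyl 7 0 (.hub 2984),
    .weyl 6 0 (.hub 2985),
    .weyl 5 0 (.hub 2986),
    .weyl 1 0 (.hub 2975)]

theorem trees3_6_ok : allOK tab simples patterns 2889 trees3_6 = true :=
  Fast.allOK_of_fast (by decide +kernel)

/-- Trees from index 2989. -/
def trees3_7 : List Tree := [
    .weyl 5 0 (.hub 2988),
    .weyl 4 0 (.hub 2989),
    .weyl 6 0 (.hub 2990),
    .weyl 5 0 (.hub 2991),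
    .weyl 7 0 (.hub 2992),
    .weyl 4 0 (.hub 1950),
    .weyl 3 0 (.hub 2994),
    .weyl 1 0 (.hub 2995),
    .weyl 2 0 (.hub 2996),
    .weyl 3 0 (.hub 2997),
    .weyl 4 0 (.hub 2998),
    .weyl 5 0 (.hub 2999),
    .weyl 6 0 (.hub 3000),
    .weyl 7 0 (.hub 3001),
    .weyl 2 0 (.hub 2910),
    .weyl 2 0 (.hub 2909),
    .weyl 4 0 (.hub 2900),
    .weyl 5 0 (.hub 3005),
    .weyl 6 0 (.hub 3006),
    .weyl 7 0 (.hub 3007),
    .weyl 6 0 (.hub 3008),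
    .weyl 5 0 (.hub 3009),
    .weyl 4 0 (.hub 3010),
    .weyl 3 0 (.hub 2898),
    .weyl 4 0 (.hub 3012),
    .weyl 5 0 (.hub 3013),
    .weyl 6 0 (.hub 3014),
    .weyl 7 0 (.hub 3015),
    .weyl 6 0 (.hub 3016),
    .weyl 5 0 (.hub 3017),
    .weyl 2 0 (.hub 2377),
    .weyl 4 0 (.hub 3019),
    .weyl 3 0 (.hub 3020),
    .weyl 1 0 (.hub 3021),
    .weyl 6 0 (.hub 3022),
    .weyl 5 0 (.hub 3023),
    .weyl 4 0 (.hub 3024),
    .weyl 3 0 (.hub 3025),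
    .weyl 1 0 (.hub 3026),
    .weyl 2 0 (.hub 3027),
    .weyl 0 0 (.hub 3028),
    .weyl 3 0 (.hub 3029),
    .weyl 4 0 (.hub 3030),
    .weyl 5 0 (.hub 3031),
    .weyl 6 0 (.hub 3032),
    .weyl 7 0 (.hub 3033),
    .weyl 6 0 (.hub 3034),
    .weyl 5 0 (.hub 3035),
    .weyl 4 0 (.hub 3036),
    .weyl 3 0 (.hub 3037),
    .weyl 1 0 (.hub 3038),
    .weyl 2 0 (.hub 3039),
    .weyl 0 0 (.hub 3040),
    .weyl 3 0 (.hub 3041),
    .weyl 2 0 (.hub 3042),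
    .weyl 4 0 (.hub 3043),
    .weyl 3 0 (.hub 3044),
    .weyl 5 0 (.hub 3045),
    .weyl 4 0 (.hub 3046),
    .weyl 6 0 (.hub 3047),
    .weyl 5 0 (.hub 3048),
    .weyl 7 0 (.hub 3049),
    .weyl 2 0 (.hub 1985),
    .weyl 0 0 (.hub 3051),
    .weyl 5 0 (.hub 3052),
    .weyl 4 0 (.hub 3053),
    .weyl 6 0 (.hub 3054),
    .weyl 5 0 (.hub 3055),
    .weyl 4 0 (.hub 3056),
    .weyl 3 0 (.hub 3057),
    .weyl 1 0 (.hub 3058),
    .weyl 2 0 (.hub 3059),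
    .weyl 3 0 (.hub 3060),
    .weyl 4 0 (.hub 3061),
    .weyl 5 0 (.hub 3062),
    .weyl 6 0 (.hub 3063),
    .weyl 7 0 (.hub 3064),
    .weyl 6 0 (.hub 3065),
    .weyl 5 0 (.hub 3066),
    .weyl 1 0 (.hub 2426),
    .weyl 4 0 (.hub 3068),
    .weyl 3 0 (.hub 3069),
    .weyl 1 0 (.hub 3070),
    .weyl 6 0 (.hub 3071),
    .weyl 5 0 (.hub 3072),
    .weyl 4 0 (.hub 3073),
    .weyl 3 0 (.hub 3074),
    .weyl 1 0 (.hub 3075),
    .weyl 2 0 (.hub 3076),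
    .weyl 0 0 (.hub 3077),
    .weyl 3 0 (.hub 3078),
    .weyl 4 0 (.hub 3079),
    .weyl 5 0 (.hub 3080),
    .weyl 6 0 (.hub 3081),
    .weyl 7 0 (.hub 3082),
    .weyl 6 0 (.hub 3083),
    .weyl 5 0 (.hub 3084),
    .weyl 4 0 (.hub 3085),
    .weyl 3 0 (.hub 3086),
    .weyl 1 0 (.hub 3087)]

theorem trees3_7_ok : allOK tab simples patterns 2989 trees3_7 = true :=
  Fast.allOK_of_fast (by decide +kernel)

/-- Trees from index 3089. -/
def trees3_8 : List Tree := [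
    .weyl 2 0 (.hub 3088),
    .weyl 0 0 (.hub 3089),
    .weyl 3 0 (.hub 3090),
    .weyl 2 0 (.hub 3091),
    .weyl 4 0 (.hub 3092),
    .weyl 3 0 (.hub 3093),
    .weyl 5 0 (.hub 3094),
    .weyl 4 0 (.hub 3095),
    .weyl 6 0 (.hub 3096),
    .weyl 5 0 (.hub 3097),
    .weyl 7 0 (.hub 3098),
    .weyl 2 0 (.hub 2460),
    .weyl 0 0 (.hub 3100),
    .weyl 5 0 (.hub 3101),
    .weyl 4 0 (.hub 3102),
    .weyl 6 0 (.hub 3103),
    .weyl 5 0 (.hub 3104),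
    .weyl 4 0 (.hub 3105),
    .weyl 3 0 (.hub 3106),
    .weyl 1 0 (.hub 3107),
    .weyl 2 0 (.hub 3108),
    .weyl 3 0 (.hub 3109),
    .weyl 4 0 (.hub 3110),
    .weyl 5 0 (.hub 3111),
    .weyl 6 0 (.hub 3112),
    .weyl 7 0 (.hub 3113),
    .weyl 6 0 (.hub 3114),
    .weyl 5 0 (.hub 3115),
    .weyl 1 0 (.hub 3094),
    .weyl 5 0 (.hub 3117),
    .weyl 4 0 (.hub 3118),
    .weyl 6 0 (.hub 3119),
    .weyl 5 0 (.hub 3120),
    .weyl 7 0 (.hub 3121)]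

theorem trees3_8_ok : allOK tab simples patterns 3089 trees3_8 = true :=
  Fast.allOK_of_fast (by decide +kernel)

/-- Trees from index 2348. -/
def part3 : List Tree := trees3_0 ++ trees3_1 ++ trees3_2 ++ trees3_3 ++ trees3_4 ++ trees3_5 ++ trees3_6 ++ trees3_7 ++ trees3_8

theorem part3_ok : allOK tab simples patterns 2348 part3 = true :=
  (allOK_append _ _ 2348 3089 (allOK_append _ _ 2348 2989 (allOK_append _ _ 2348 2889 (allOK_append _ _ 2348 2838 (allOK_append _ _ 2348 2748 (allOK_append _ _ 2348 2648 (allOK_append _ _ 2348 2548 (allOK_append _ _ 2348 2448 trees3_0_ok (by decide +kernel) trees3_1_ok) (by decide +kernel) trees3_2_ok) (by decide +kernel) trees3_3_ok) (by decide +kernel) trees3_4_ok) (by decide +kernel) trees3_5_ok) (by decide +kernel) trees3_6_ok) (by decide +kernel) trees3_7_ok) (by decide +kernel) trees3_8_ok)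

theorem part3_length : part3.length = 775 := by decide +kernel

end CfsgLib.OutAut.InvCheck.E8
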