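import Mathlib
import Cfsg.Agent.Lib.OutAut.InvCheck.E8.Data
import Cfsg.Agent.Lib.OutAut.InvCheck.Fast

/-!
Part 4 of the certificate for the involutions of `E8` in characteristic two.
-/

set_option autoImplicit false
set_option maxRecDepth 100000
set_option maxHeartbeats 0

noncomputable section

namespace CfsgLib.OutAut.InvCheck.E8

open Cfsg.Lie CfsgLib.Chevalley

/-- A tree. -/
def tree3123 : Tree :=
  .split 177 (.kill 162 180 158 1 1 (.zero 238 121 237 1 1 (.kill 182 183 121 1 1 (.split 187 (.kill 163 190 158 1 1 (.hub 2889)) (.kill 163 190 158 1 1 (.zero 238 121 237 1 1 (.kill 192 193 121 1 1 (.kill 164 196 158 1 1 (.zero 238 121 237 1 1 (.kill 198 199 121 1 1 (.kill 201 202 121 1 1 (.split 203 (.kill 169 206 158 1 1 (.zero 238 121 237 1 1 (.kill 208 209 121 1 1 (.kill 211 212 121 1 1 (.split 213 (.kill 215 216 121 1 1 (.split 217 (.kill 181 218 158 1 1 (.zero 238 121 237 1 1 (.zero 239 158 229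 1 1 (.kill 220 221 121 1 1 (.kill 159 222 187 1 1 (.kill 191 223 158 1 1 (.kill 197 224 158 1 1 (.kill 207 225 158 1 1 (.kill 227 228 121 1 1 (.split 230 (.split 231 (.kill 200 232 187 1 1 (.split 233 (.kill 210 234 187 1 1 (.kill 214 235 187 1 1 (.kill 226 236 158 1 1 (.kill 237 238 121 1 1 (.kill 229 239 158 1 1 (.hub 2891)))))) (.kill 210 234 187 1 1 (.kill 214 235 187 1 1 (.kill 226 236 158 1 1 (.kill 237 238 121 1 1 (.kill 229 239 158 1 1 (.hub 2910)))))))) (.kill 200 232 187 1 1 (.kill 141 233 231 1 1 (.kill 210 234 187 1 1 (.kill 214 235 187 1 1 (.kill 226 236 158 1 1 (.kill 237 238 121 1 1 (.kill 229 239 158 1 1 (.hub 2909))))))))) (.kill 130 231 230 1 1 (.zero 238 121 237 1 1 (.kill 200 232 187 1 1 (.kill 142 233 230 1 1 (.kill 210 234 187 1 1 (.kill 214 235 187 1 1 (.kill 226 236 158 1 1 (.kill 237 238 121 1 1 (.kill 229 239 158 1 1 (.hub 2908)))))))))))))))))))) (.kill 181 218 158 1 1 (.zero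 238 121 237 1 1 (.zero 239 158 229 1 1 (.kill 220 221 121 1 1 (.kill 159 222 187 1 1 (.kill 191 223 158 1 1 (.kill 197 224 158 1 1 (.kill 207 225 158 1 1 (.kill 227 228 121 1 1 (.split 230 (.kill 165 231 217 1 1 (.kill 200 232 187 1 1 (.kill 170 233 217 1 1 (.kill 210 234 187 1 1 (.kill 214 235 187 1 1 (.kill 226 236 158 1 1 (.kill 237 238 121 1 1 (.kill 229 239 158 1 1 (.hub 2917))))))))) (.kill 165 231 217 1 1 (.kill 200 232 187 1 1 (.kill 170 233 217 1 1 (.kill 210 234 187 1 1 (.kill 214 235 187 1 1 (.kill 226 236 158 1 1 (.kill 237 238 121 1 1 (.kill 229 239 158 1 1 (.hub 2945))))))))))))))))))))) (.kill 215 216 121 1 1 (.kill 130 217 213 1 1 (.zero 238 121 237 1 1 (.kill 181 218 158 1 1 (.zero 238 121 237 1 1 (.zero 239 158 229 1 1 (.kill 220 221 121 1 1 (.kill 159 222 187 1 1 (.kill 191 223 158 1 1 (.kill 197 224 158 1 1 (.kill 207 225 158 1 1 (.kill 227 228 121 1 1 (.kill 165 230 213 1 1 (.split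 231 (.kill 200 232 187 1 1 (.kill 174 233 213 1 1 (.kill 210 234 187 1 1 (.kill 214 235 187 1 1 (.kill 226 236 158 1 1 (.kill 237 238 121 1 1 (.kill 229 239 158 1 1 (.hub 2952)))))))) (.kill 200 232 187 1 1 (.kill 174 233 213 1 1 (.kill 210 234 187 1 1 (.kill 214 235 187 1 1 (.kill 226 236 158 1 1 (.kill 237 238 121 1 1 (.kill 229 239 158 1 1 (.hub 2980))))))))))))))))))))))))))) (.kill 169 206 158 1 1 (.zero 238 121 237 1 1 (.kill 208 209 121 1 1 (.kill 211 212 121 1 1 (.kill 141 213 203 1 1 (.zero 238 121 237 1 1 (.kill 215 216 121 1 1 (.kill 142 217 203 1 1 (.zero 238 121 237 1 1 (.kill 181 218 158 1 1 (.zero 238 121 237 1 1 (.zero 239 158 229 1 1 (.kill 220 221 121 1 1 (.kill 159 222 187 1 1 (.kill 191 223 158 1 1 (.kill 197 224 158 1 1 (.kill 207 225 158 1 1 (.kill 227 228 121 1 1 (.kill 170 230 203 1 1 (.kill 174 231 203 1 1 (.kill 200 232 187 1 1 (.split 233 (.kill 210 234 187 1 1 (.kill 214 235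 187 1 1 (.kill 226 236 158 1 1 (.kill 237 238 121 1 1 (.kill 229 239 158 1 1 (.hub 2987)))))) (.kill 210 234 187 1 1 (.kill 214 235 187 1 1 (.kill 226 236 158 1 1 (.kill 237 238 121 1 1 (.kill 229 239 158 1 1 (.hub 2993)))))))))))))))))))))))))))))))))))))))) (.kill 162 180 158 1 1 (.zero 238 121 237 1 1 (.kill 182 183 121 1 1 (.kill 135 187 177 1 1 (.zero 238 121 237 1 1 (.kill 163 190 158 1 1 (.zero 238 121 237 1 1 (.kill 192 193 121 1 1 (.kill 164 196 158 1 1 (.zero 238 121 237 1 1 (.kill 198 199 121 1 1 (.kill 201 202 121 1 1 (.split 203 (.kill 169 206 158 1 1 (.zero 238 121 237 1 1 (.kill 208 209 121 1 1 (.kill 211 212 121 1 1 (.split 213 (.kill 215 216 121 1 1 (.kill 159 217 177 1 1 (.kill 181 218 158 1 1 (.kill 220 221 121 1 1 (.split 222 (.kill 191 223 158 1 1 (.zero 238 121 237 1 1 (.zero 239 158 229 1 1 (.kill 197 224 158 1 1 (.kill 207 225 158 1 1 (.kill 227 228 121 1 1 (.split 230 (.kill 200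 231 177 1 1 (.split 232 (.kill 210 233 177 1 1 (.split 234 (.kill 219 235 177 1 1 (.kill 226 236 158 1 1 (.kill 237 238 121 1 1 (.kill 229 239 158 1 1 (.hub 3002))))) (.kill 219 235 177 1 1 (.kill 226 236 158 1 1 (.kill 237 238 121 1 1 (.kill 229 239 158 1 1 (.hub 3003))))))) (.kill 210 233 177 1 1 (.kill 141 234 232 1 1 (.kill 219 235 177 1 1 (.kill 226 236 158 1 1 (.kill 237 238 121 1 1 (.kill 229 239 158 1 1 (.hub 3004))))))))) (.kill 200 231 177 1 1 (.kill 136 232 230 1 1 (.zero 238 121 237 1 1 (.kill 210 233 177 1 1 (.kill 147 234 230 1 1 (.kill 219 235 177 1 1 (.kill 226 236 158 1 1 (.kill 237 238 121 1 1 (.kill 229 239 158 1 1 (.hub 3011))))))))))))))))) (.kill 191 223 158 1 1 (.zero 238 121 237 1 1 (.zero 239 158 229 1 1 (.kill 197 224 158 1 1 (.kill 207 225 158 1 1 (.kill 227 228 121 1 1 (.split 230 (.kill 200 231 177 1 1 (.kill 165 232 222 1 1 (.kill 210 233 177 1 1 (.kill 170 234 222 1 1 (.kill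 219 235 177 1 1 (.kill 226 236 158 1 1 (.kill 237 238 121 1 1 (.kill 229 239 158 1 1 (.hub 3018))))))))) (.kill 200 231 177 1 1 (.kill 165 232 222 1 1 (.kill 210 233 177 1 1 (.kill 170 234 222 1 1 (.kill 219 235 177 1 1 (.kill 226 236 158 1 1 (.kill 237 238 121 1 1 (.kill 229 239 158 1 1 (.hub 3050))))))))))))))))))))) (.kill 215 216 121 1 1 (.kill 159 217 177 1 1 (.kill 181 218 158 1 1 (.kill 220 221 121 1 1 (.kill 136 222 213 1 1 (.zero 238 121 237 1 1 (.kill 191 223 158 1 1 (.zero 238 121 237 1 1 (.zero 239 158 229 1 1 (.kill 197 224 158 1 1 (.kill 207 225 158 1 1 (.kill 227 228 121 1 1 (.kill 165 230 213 1 1 (.kill 200 231 177 1 1 (.split 232 (.kill 210 233 177 1 1 (.kill 184 234 213 1 1 (.kill 219 235 177 1 1 (.kill 226 236 158 1 1 (.kill 237 238 121 1 1 (.kill 229 239 158 1 1 (.hub 3067))))))) (.kill 210 233 177 1 1 (.kill 184 234 213 1 1 (.kill 219 235 177 1 1 (.kill 226 236 158 1 1 (.kill 237 238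 121 1 1 (.kill 229 239 158 1 1 (.hub 3099))))))))))))))))))))))))))) (.kill 169 206 158 1 1 (.zero 238 121 237 1 1 (.kill 208 209 121 1 1 (.kill 211 212 121 1 1 (.kill 141 213 203 1 1 (.zero 238 121 237 1 1 (.kill 215 216 121 1 1 (.kill 159 217 177 1 1 (.kill 181 218 158 1 1 (.kill 220 221 121 1 1 (.kill 147 222 203 1 1 (.zero 238 121 237 1 1 (.kill 191 223 158 1 1 (.zero 238 121 237 1 1 (.zero 239 158 229 1 1 (.kill 197 224 158 1 1 (.kill 207 225 158 1 1 (.kill 227 228 121 1 1 (.kill 170 230 203 1 1 (.kill 200 231 177 1 1 (.kill 184 232 203 1 1 (.kill 210 233 177 1 1 (.split 234 (.kill 219 235 177 1 1 (.kill 226 236 158 1 1 (.kill 237 238 121 1 1 (.kill 229 239 158 1 1 (.hub 3116))))) (.kill 219 235 177 1 1 (.kill 226 236 158 1 1 (.kill 237 238 121 1 1 (.kill 229 239 158 1 1 (.hub 3122)))))))))))))))))))))))))))))))))))))))))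

/-- A tree. -/
def tree3312 : Tree :=
  .split 168 (.split 173 (.hub 3123) (.kill 130 177 173 1 1 (.zero 199 121 198 1 1 (.zero 202 121 201 1 1 (.zero 209 121 208 1 1 (.zero 212 121 211 1 1 (.zero 216 121 215 1 1 (.zero 221 121 220 1 1 (.zero 228 121 227 1 1 (.zero 238 121 237 1 1 (.kill 162 180 158 1 1 (.zero 238 121 237 1 1 (.kill 182 183 121 1 1 (.kill 136 187 173 1 1 (.zero 238 121 237 1 1 (.kill 163 190 158 1 1 (.zero 238 121 237 1 1 (.kill 192 193 121 1 1 (.kill 164 196 158 1 1 (.zero 238 121 237 1 1 (.kill 198 199 121 1 1 (.kill 201 202 121 1 1 (.split 203 (.kill 169 206 158 1 1 (.zero 238 121 237 1 1 (.kill 208 209 121 1 1 (.kill 211 212 121 1 1 (.kill 159 213 173 1 1 (.kill 215 216 121 1 1 (.split 217 (.kill 181 218 158 1 1 (.kill 220 221 121 1 1 (.split 222 (.kill 191 223 158 1 1 (.kill 197 224 158 1 1 (.zero 238 121 237 1 1 (.zero 239 158 229 1 1 (.kill 207 225 158 1 1 (.kill 227 228 121 1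 1 (.kill 200 230 173 1 1 (.split 231 (.split 232 (.kill 214 233 173 1 1 (.kill 219 234 173 1 1 (.split 235 (.kill 226 236 158 1 1 (.kill 237 238 121 1 1 (.kill 229 239 158 1 1 (.hub 3132)))) (.kill 226 236 158 1 1 (.kill 237 238 121 1 1 (.kill 229 239 158 1 1 (.hub 3133))))))) (.kill 214 233 173 1 1 (.kill 219 234 173 1 1 (.kill 142 235 232 1 1 (.kill 226 236 158 1 1 (.kill 237 238 121 1 1 (.kill 229 239 158 1 1 (.hub 3135)))))))) (.kill 135 232 231 1 1 (.zero 238 121 237 1 1 (.kill 214 233 173 1 1 (.kill 219 234 173 1 1 (.kill 147 235 231 1 1 (.kill 226 236 158 1 1 (.kill 237 238 121 1 1 (.kill 229 239 158 1 1 (.hub 3134))))))))))))))))) (.kill 191 223 158 1 1 (.kill 197 224 158 1 1 (.zero 238 121 237 1 1 (.zero 239 158 229 1 1 (.kill 207 225 158 1 1 (.kill 227 228 121 1 1 (.kill 200 230 173 1 1 (.split 231 (.kill 165 232 222 1 1 (.kill 214 233 173 1 1 (.kill 219 234 173 1 1 (.kill 174 235 222 1 1 (.kill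 226 236 158 1 1 (.kill 237 238 121 1 1 (.kill 229 239 158 1 1 (.hub 3150)))))))) (.kill 165 232 222 1 1 (.kill 214 233 173 1 1 (.kill 219 234 173 1 1 (.kill 174 235 222 1 1 (.kill 226 236 158 1 1 (.kill 237 238 121 1 1 (.kill 229 239 158 1 1 (.hub 3182))))))))))))))))))) (.kill 181 218 158 1 1 (.kill 220 221 121 1 1 (.kill 135 222 217 1 1 (.zero 238 121 237 1 1 (.kill 191 223 158 1 1 (.kill 197 224 158 1 1 (.zero 238 121 237 1 1 (.zero 239 158 229 1 1 (.kill 207 225 158 1 1 (.kill 227 228 121 1 1 (.kill 200 230 173 1 1 (.kill 165 231 217 1 1 (.split 232 (.kill 214 233 173 1 1 (.kill 219 234 173 1 1 (.kill 184 235 217 1 1 (.kill 226 236 158 1 1 (.kill 237 238 121 1 1 (.kill 229 239 158 1 1 (.hub 3195))))))) (.kill 214 233 173 1 1 (.kill 219 234 173 1 1 (.kill 184 235 217 1 1 (.kill 226 236 158 1 1 (.kill 237 238 121 1 1 (.kill 229 239 158 1 1 (.hub 3227))))))))))))))))))))))))))) (.kill 169 206 158 1 1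 (.zero 238 121 237 1 1 (.kill 208 209 121 1 1 (.kill 211 212 121 1 1 (.kill 159 213 173 1 1 (.kill 215 216 121 1 1 (.kill 142 217 203 1 1 (.zero 238 121 237 1 1 (.kill 181 218 158 1 1 (.kill 220 221 121 1 1 (.kill 147 222 203 1 1 (.zero 238 121 237 1 1 (.kill 191 223 158 1 1 (.kill 197 224 158 1 1 (.zero 238 121 237 1 1 (.zero 239 158 229 1 1 (.kill 207 225 158 1 1 (.kill 227 228 121 1 1 (.kill 200 230 173 1 1 (.kill 174 231 203 1 1 (.kill 184 232 203 1 1 (.kill 214 233 173 1 1 (.kill 219 234 173 1 1 (.split 235 (.kill 226 236 158 1 1 (.kill 237 238 121 1 1 (.kill 229 239 158 1 1 (.hub 3241)))) (.kill 226 236 158 1 1 (.kill 237 238 121 1 1 (.kill 229 239 158 1 1 (.hub 3245))))))))))))))))))))))))))))))))))))))))))))))))))) (.kill 141 173 168 1 1 (.zero 209 121 208 1 1 (.zero 212 121 211 1 1 (.zero 216 121 215 1 1 (.zero 221 121 220 1 1 (.zero 228 121 227 1 1 (.zero 238 121 237 1 1 (.kill 142 177 168 1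 1 (.zero 209 121 208 1 1 (.zero 212 121 211 1 1 (.zero 216 121 215 1 1 (.zero 221 121 220 1 1 (.zero 228 121 227 1 1 (.zero 238 121 237 1 1 (.kill 162 180 158 1 1 (.zero 238 121 237 1 1 (.kill 182 183 121 1 1 (.kill 147 187 168 1 1 (.zero 238 121 237 1 1 (.kill 163 190 158 1 1 (.zero 238 121 237 1 1 (.kill 192 193 121 1 1 (.kill 152 196 168 1 1 (.zero 238 121 237 1 1 (.kill 198 199 121 1 1 (.kill 201 202 121 1 1 (.kill 159 203 168 1 1 (.zero 238 121 237 1 1 (.kill 169 206 158 1 1 (.zero 238 121 237 1 1 (.kill 208 209 121 1 1 (.kill 211 212 121 1 1 (.split 213 (.kill 215 216 121 1 1 (.split 217 (.kill 181 218 158 1 1 (.kill 220 221 121 1 1 (.split 222 (.kill 191 223 158 1 1 (.kill 197 224 158 1 1 (.kill 207 225 158 1 1 (.zero 238 121 237 1 1 (.zero 239 158 229 1 1 (.kill 227 228 121 1 1 (.kill 210 230 168 1 1 (.kill 214 231 168 1 1 (.kill 219 232 168 1 1 (.split 233 (.split 234 (.split 235 (.kill 226 236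 158 1 1 (.kill 237 238 121 1 1 (.kill 229 239 158 1 1 (.hub 3250)))) (.kill 226 236 158 1 1 (.kill 237 238 121 1 1 (.kill 229 239 158 1 1 (.hub 3253))))) (.kill 130 235 234 1 1 (.kill 226 236 158 1 1 (.kill 237 238 121 1 1 (.kill 229 239 158 1 1 (.hub 3252)))))) (.kill 135 234 233 1 1 (.kill 136 235 233 1 1 (.kill 226 236 158 1 1 (.kill 237 238 121 1 1 (.kill 229 239 158 1 1 (.hub 3251)))))))))))))))) (.kill 191 223 158 1 1 (.kill 197 224 158 1 1 (.kill 207 225 158 1 1 (.zero 238 121 237 1 1 (.zero 239 158 229 1 1 (.kill 227 228 121 1 1 (.kill 210 230 168 1 1 (.kill 214 231 168 1 1 (.kill 219 232 168 1 1 (.split 233 (.kill 170 234 222 1 1 (.kill 174 235 222 1 1 (.kill 226 236 158 1 1 (.kill 237 238 121 1 1 (.kill 229 239 158 1 1 (.hub 3267)))))) (.kill 170 234 222 1 1 (.kill 174 235 222 1 1 (.kill 226 236 158 1 1 (.kill 237 238 121 1 1 (.kill 229 239 158 1 1 (.hub 3273))))))))))))))))))) (.kill 181 218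 158 1 1 (.kill 220 221 121 1 1 (.kill 135 222 217 1 1 (.zero 238 121 237 1 1 (.kill 191 223 158 1 1 (.kill 197 224 158 1 1 (.kill 207 225 158 1 1 (.zero 238 121 237 1 1 (.zero 239 158 229 1 1 (.kill 227 228 121 1 1 (.kill 210 230 168 1 1 (.kill 214 231 168 1 1 (.kill 219 232 168 1 1 (.kill 170 233 217 1 1 (.split 234 (.kill 184 235 217 1 1 (.kill 226 236 158 1 1 (.kill 237 238 121 1 1 (.kill 229 239 158 1 1 (.hub 3287))))) (.kill 184 235 217 1 1 (.kill 226 236 158 1 1 (.kill 237 238 121 1 1 (.kill 229 239 158 1 1 (.hub 3293)))))))))))))))))))))) (.kill 215 216 121 1 1 (.kill 130 217 213 1 1 (.zero 238 121 237 1 1 (.kill 181 218 158 1 1 (.kill 220 221 121 1 1 (.kill 136 222 213 1 1 (.zero 238 121 237 1 1 (.kill 191 223 158 1 1 (.kill 197 224 158 1 1 (.kill 207 225 158 1 1 (.zero 238 121 237 1 1 (.zero 239 158 229 1 1 (.kill 227 228 121 1 1 (.kill 210 230 168 1 1 (.kill 214 231 168 1 1 (.kill 219 232 168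 1 1 (.kill 174 233 213 1 1 (.kill 184 234 213 1 1 (.split 235 (.kill 226 236 158 1 1 (.kill 237 238 121 1 1 (.kill 229 239 158 1 1 (.hub 3307)))) (.kill 226 236 158 1 1 (.kill 237 238 121 1 1 (.kill 229 239 158 1 1 (.hub 3311))))))))))))))))))))))))))))))))))))))))))))))))))))))))

/-- A tree. -/
def tree3414 : Tree :=
  .split 190 (.kill 192 193 121 1 1 (.kill 165 196 155 1 1 (.zero 238 121 237 1 1 (.kill 198 199 121 1 1 (.kill 201 202 121 1 1 (.split 203 (.zero 239 155 230 1 1 (.kill 170 206 155 1 1 (.zero 238 121 237 1 1 (.kill 208 209 121 1 1 (.kill 211 212 121 1 1 (.split 213 (.kill 215 216 121 1 1 (.kill 181 217 155 1 1 (.split 218 (.kill 220 221 121 1 1 (.kill 191 222 155 1 1 (.split 223 (.kill 200 224 155 1 1 (.kill 210 225 155 1 1 (.kill 227 228 121 1 1 (.split 229 (.split 231 (.split 232 (.split 233 (.split 234 (.kill 226 235 155 1 1 (.split 236 (.kill 237 238 121 1 1 (.kill 230 239 155 1 1 (.hub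 3314))) (.kill 237 238 121 1 1 (.kill 230 239 155 1 1 (.hub 3315))))) (.kill 226 235 155 1 1 (.kill 131 236 234 1 1 (.kill 237 238 121 1 1 (.kill 230 239 155 1 1 (.hub 3316)))))) (.kill 135 234 233 1 1 (.kill 226 235 155 1 1 (.kill 137 236 233 1 1 (.kill 237 238 121 1 1 (.kill 230 239 155 1 1 (.hub 3317))))))) (.split 233 (.kill 141 234 232 1 1 (.kill 226 235 155 1 1 (.kill 143 236 232 1 1 (.kill 237 238 121 1 1 (.kill 230 239 155 1 1 (.hub 3318)))))) (.kill 141 234 232 1 1 (.kill 226 235 155 1 1 (.kill 143 236 232 1 1 (.kill 237 238 121 1 1 (.kill 230 239 155 1 1 (.hub 2849)))))))) (.kill 135 232 231 1 1 (.zero 238 121 237 1 1 (.kill 141 233 231 1 1 (.split 234 (.kill 226 235 155 1 1 (.kill 148 236 231 1 1 (.kill 237 238 121 1 1 (.kill 230 239 155 1 1 (.hub 3319))))) (.kill 226 235 155 1 1 (.kill 148 236 231 1 1 (.kill 237 238 121 1 1 (.kill 230 239 155 1 1 (.hub 2853)))))))))) (.kill 131 231 229 1 1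 (.zero 238 121 237 1 1 (.kill 137 232 229 1 1 (.zero 238 121 237 1 1 (.kill 143 233 229 1 1 (.kill 148 234 229 1 1 (.kill 226 235 155 1 1 (.split 236 (.kill 237 238 121 1 1 (.kill 230 239 155 1 1 (.hub 3320))) (.kill 237 238 121 1 1 (.kill 230 239 155 1 1 (.hub 2857))))))))))))))) (.kill 200 224 155 1 1 (.kill 210 225 155 1 1 (.kill 227 228 121 1 1 (.split 229 (.split 231 (.kill 164 232 223 1 1 (.split 233 (.kill 169 234 223 1 1 (.kill 226 235 155 1 1 (.kill 174 236 223 1 1 (.kill 237 238 121 1 1 (.kill 230 239 155 1 1 (.hub 3321)))))) (.kill 169 234 223 1 1 (.kill 226 235 155 1 1 (.kill 174 236 223 1 1 (.kill 237 238 121 1 1 (.kill 230 239 155 1 1 (.hub 3328)))))))) (.kill 164 232 223 1 1 (.kill 141 233 231 1 1 (.kill 169 234 223 1 1 (.kill 226 235 155 1 1 (.kill 174 236 223 1 1 (.kill 237 238 121 1 1 (.kill 230 239 155 1 1 (.hub 3327))))))))) (.kill 131 231 229 1 1 (.zero 238 121 237 1 1 (.kill 164 232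 223 1 1 (.kill 143 233 229 1 1 (.kill 169 234 223 1 1 (.kill 226 235 155 1 1 (.kill 174 236 223 1 1 (.kill 237 238 121 1 1 (.kill 230 239 155 1 1 (.hub 2230))))))))))))))))) (.kill 220 221 121 1 1 (.kill 191 222 155 1 1 (.kill 135 223 218 1 1 (.zero 238 121 237 1 1 (.kill 200 224 155 1 1 (.kill 210 225 155 1 1 (.kill 227 228 121 1 1 (.split 229 (.kill 164 231 218 1 1 (.split 232 (.kill 169 233 218 1 1 (.split 234 (.kill 226 235 155 1 1 (.kill 184 236 218 1 1 (.kill 237 238 121 1 1 (.kill 230 239 155 1 1 (.hub 3329))))) (.kill 226 235 155 1 1 (.kill 184 236 218 1 1 (.kill 237 238 121 1 1 (.kill 230 239 155 1 1 (.hub 3330))))))) (.kill 169 233 218 1 1 (.kill 141 234 232 1 1 (.kill 226 235 155 1 1 (.kill 184 236 218 1 1 (.kill 237 238 121 1 1 (.kill 230 239 155 1 1 (.hub 3331))))))))) (.kill 164 231 218 1 1 (.kill 137 232 229 1 1 (.zero 238 121 237 1 1 (.kill 169 233 218 1 1 (.kill 148 234 229 1 1 (.kill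 226 235 155 1 1 (.kill 184 236 218 1 1 (.kill 237 238 121 1 1 (.kill 230 239 155 1 1 (.hub 2248))))))))))))))))))))) (.kill 215 216 121 1 1 (.kill 181 217 155 1 1 (.kill 131 218 213 1 1 (.zero 238 121 237 1 1 (.kill 220 221 121 1 1 (.kill 191 222 155 1 1 (.kill 137 223 213 1 1 (.zero 238 121 237 1 1 (.kill 200 224 155 1 1 (.kill 210 225 155 1 1 (.kill 227 228 121 1 1 (.kill 164 229 213 1 1 (.split 231 (.split 232 (.kill 174 233 213 1 1 (.kill 184 234 213 1 1 (.kill 226 235 155 1 1 (.split 236 (.kill 237 238 121 1 1 (.kill 230 239 155 1 1 (.hub 3332))) (.kill 237 238 121 1 1 (.kill 230 239 155 1 1 (.hub 3333))))))) (.kill 174 233 213 1 1 (.kill 184 234 213 1 1 (.kill 226 235 155 1 1 (.kill 143 236 232 1 1 (.kill 237 238 121 1 1 (.kill 230 239 155 1 1 (.hub 2521)))))))) (.kill 135 232 231 1 1 (.zero 238 121 237 1 1 (.kill 174 233 213 1 1 (.kill 184 234 213 1 1 (.kill 226 235 155 1 1 (.kill 148 236 231 1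 1 (.kill 237 238 121 1 1 (.kill 230 239 155 1 1 (.hub 2520)))))))))))))))))))))))))))) (.kill 170 206 155 1 1 (.zero 238 121 237 1 1 (.zero 239 155 230 1 1 (.kill 208 209 121 1 1 (.kill 211 212 121 1 1 (.kill 141 213 203 1 1 (.zero 238 121 237 1 1 (.kill 215 216 121 1 1 (.kill 181 217 155 1 1 (.kill 143 218 203 1 1 (.zero 238 121 237 1 1 (.kill 220 221 121 1 1 (.kill 191 222 155 1 1 (.kill 148 223 203 1 1 (.zero 238 121 237 1 1 (.kill 200 224 155 1 1 (.kill 210 225 155 1 1 (.kill 227 228 121 1 1 (.kill 169 229 203 1 1 (.kill 174 231 203 1 1 (.kill 184 232 203 1 1 (.split 233 (.split 234 (.kill 226 235 155 1 1 (.split 236 (.kill 237 238 121 1 1 (.kill 230 239 155 1 1 (.hub 3334))) (.kill 237 238 121 1 1 (.kill 230 239 155 1 1 (.hub 3335))))) (.kill 226 235 155 1 1 (.kill 131 236 234 1 1 (.kill 237 238 121 1 1 (.kill 230 239 155 1 1 (.hub 2549)))))) (.kill 135 234 233 1 1 (.kill 226 235 155 1 1 (.kill 137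 236 233 1 1 (.kill 237 238 121 1 1 (.kill 230 239 155 1 1 (.hub 2548)))))))))))))))))))))))))))))))))) (.kill 192 193 121 1 1 (.kill 165 196 155 1 1 (.zero 238 121 237 1 1 (.kill 198 199 121 1 1 (.kill 201 202 121 1 1 (.split 203 (.kill 170 206 155 1 1 (.zero 238 121 237 1 1 (.kill 208 209 121 1 1 (.kill 211 212 121 1 1 (.split 213 (.kill 215 216 121 1 1 (.kill 181 217 155 1 1 (.zero 238 121 237 1 1 (.zero 239 155 230 1 1 (.split 218 (.kill 220 221 121 1 1 (.kill 191 222 155 1 1 (.kill 159 223 190 1 1 (.kill 200 224 155 1 1 (.kill 210 225 155 1 1 (.kill 227 228 121 1 1 (.split 229 (.split 231 (.kill 197 232 190 1 1 (.split 233 (.kill 207 234 190 1 1 (.kill 226 235 155 1 1 (.kill 214 236 190 1 1 (.kill 237 238 121 1 1 (.kill 230 239 155 1 1 (.hub 3337)))))) (.kill 207 234 190 1 1 (.kill 226 235 155 1 1 (.kill 214 236 190 1 1 (.kill 237 238 121 1 1 (.kill 230 239 155 1 1 (.hub 3346)))))))) (.kill 197 232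 190 1 1 (.kill 141 233 231 1 1 (.kill 207 234 190 1 1 (.kill 226 235 155 1 1 (.kill 214 236 190 1 1 (.kill 237 238 121 1 1 (.kill 230 239 155 1 1 (.hub 3345))))))))) (.kill 131 231 229 1 1 (.zero 238 121 237 1 1 (.kill 197 232 190 1 1 (.kill 143 233 229 1 1 (.kill 207 234 190 1 1 (.kill 226 235 155 1 1 (.kill 214 236 190 1 1 (.kill 237 238 121 1 1 (.kill 230 239 155 1 1 (.hub 2907))))))))))))))))) (.kill 220 221 121 1 1 (.kill 191 222 155 1 1 (.kill 159 223 190 1 1 (.kill 200 224 155 1 1 (.kill 210 225 155 1 1 (.kill 227 228 121 1 1 (.split 229 (.kill 164 231 218 1 1 (.kill 197 232 190 1 1 (.kill 169 233 218 1 1 (.kill 207 234 190 1 1 (.kill 226 235 155 1 1 (.kill 214 236 190 1 1 (.kill 237 238 121 1 1 (.kill 230 239 155 1 1 (.hub 3347))))))))) (.kill 164 231 218 1 1 (.kill 197 232 190 1 1 (.kill 169 233 218 1 1 (.kill 207 234 190 1 1 (.kill 226 235 155 1 1 (.kill 214 236 190 1 1 (.kill 237 238 121 1 1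 (.kill 230 239 155 1 1 (.hub 3376))))))))))))))))))))) (.kill 215 216 121 1 1 (.kill 181 217 155 1 1 (.zero 238 121 237 1 1 (.zero 239 155 230 1 1 (.kill 131 218 213 1 1 (.zero 238 121 237 1 1 (.kill 220 221 121 1 1 (.kill 191 222 155 1 1 (.kill 159 223 190 1 1 (.kill 200 224 155 1 1 (.kill 210 225 155 1 1 (.kill 227 228 121 1 1 (.kill 164 229 213 1 1 (.split 231 (.kill 197 232 190 1 1 (.kill 174 233 213 1 1 (.kill 207 234 190 1 1 (.kill 226 235 155 1 1 (.kill 214 236 190 1 1 (.kill 237 238 121 1 1 (.kill 230 239 155 1 1 (.hub 3377)))))))) (.kill 197 232 190 1 1 (.kill 174 233 213 1 1 (.kill 207 234 190 1 1 (.kill 226 235 155 1 1 (.kill 214 236 190 1 1 (.kill 237 238 121 1 1 (.kill 230 239 155 1 1 (.hub 3406))))))))))))))))))))))))))) (.kill 170 206 155 1 1 (.zero 238 121 237 1 1 (.kill 208 209 121 1 1 (.kill 211 212 121 1 1 (.kill 141 213 203 1 1 (.zero 238 121 237 1 1 (.kill 215 216 121 1 1 (.kill 181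 217 155 1 1 (.zero 238 121 237 1 1 (.zero 239 155 230 1 1 (.kill 143 218 203 1 1 (.zero 238 121 237 1 1 (.kill 220 221 121 1 1 (.kill 191 222 155 1 1 (.kill 159 223 190 1 1 (.kill 200 224 155 1 1 (.kill 210 225 155 1 1 (.kill 227 228 121 1 1 (.kill 169 229 203 1 1 (.kill 174 231 203 1 1 (.kill 197 232 190 1 1 (.split 233 (.kill 207 234 190 1 1 (.kill 226 235 155 1 1 (.kill 214 236 190 1 1 (.kill 237 238 121 1 1 (.kill 230 239 155 1 1 (.hub 3407)))))) (.kill 207 234 190 1 1 (.kill 226 235 155 1 1 (.kill 214 236 190 1 1 (.kill 237 238 121 1 1 (.kill 230 239 155 1 1 (.hub 3413))))))))))))))))))))))))))))))))))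

/-- A tree. -/
def tree3582 : Tree :=
  .split 173 (.kill 162 177 155 1 1 (.zero 238 121 237 1 1 (.split 180 (.kill 182 183 121 1 1 (.kill 163 187 155 1 1 (.zero 238 121 237 1 1 (.hub 3414)))) (.kill 182 183 121 1 1 (.kill 163 187 155 1 1 (.zero 238 121 237 1 1 (.kill 135 190 180 1 1 (.zero 238 121 237 1 1 (.kill 192 193 121 1 1 (.kill 165 196 155 1 1 (.zero 238 121 237 1 1 (.kill 198 199 121 1 1 (.kill 201 202 121 1 1 (.split 203 (.kill 170 206 155 1 1 (.zero 238 121 237 1 1 (.kill 208 209 121 1 1 (.kill 211 212 121 1 1 (.split 213 (.kill 215 216 121 1 1 (.kill 181 217 155 1 1 (.kill 159 218 180 1 1 (.kill 220 221 121 1 1 (.kill 191 222 155 1 1 (.zero 238 121 237 1 1 (.zero 239 155 230 1 1 (.split 223 (.kill 200 224 155 1 1 (.kill 210 225 155 1 1 (.kill 227 228 121 1 1 (.split 229 (.kill 197 231 180 1 1 (.split 232 (.kill 207 233 180 1 1 (.split 234 (.kill 226 235 155 1 1 (.kill 219 236 180 1 1 (.kill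 237 238 121 1 1 (.kill 230 239 155 1 1 (.hub 3420))))) (.kill 226 235 155 1 1 (.kill 219 236 180 1 1 (.kill 237 238 121 1 1 (.kill 230 239 155 1 1 (.hub 3421))))))) (.kill 207 233 180 1 1 (.kill 141 234 232 1 1 (.kill 226 235 155 1 1 (.kill 219 236 180 1 1 (.kill 237 238 121 1 1 (.kill 230 239 155 1 1 (.hub 3422))))))))) (.kill 197 231 180 1 1 (.kill 137 232 229 1 1 (.zero 238 121 237 1 1 (.kill 207 233 180 1 1 (.kill 148 234 229 1 1 (.kill 226 235 155 1 1 (.kill 219 236 180 1 1 (.kill 237 238 121 1 1 (.kill 230 239 155 1 1 (.hub 3010)))))))))))))) (.kill 200 224 155 1 1 (.kill 210 225 155 1 1 (.kill 227 228 121 1 1 (.split 229 (.kill 197 231 180 1 1 (.kill 164 232 223 1 1 (.kill 207 233 180 1 1 (.kill 169 234 223 1 1 (.kill 226 235 155 1 1 (.kill 219 236 180 1 1 (.kill 237 238 121 1 1 (.kill 230 239 155 1 1 (.hub 3423))))))))) (.kill 197 231 180 1 1 (.kill 164 232 223 1 1 (.kill 207 233 180 1 1 (.kill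 169 234 223 1 1 (.kill 226 235 155 1 1 (.kill 219 236 180 1 1 (.kill 237 238 121 1 1 (.kill 230 239 155 1 1 (.hub 3452))))))))))))))))))))) (.kill 215 216 121 1 1 (.kill 181 217 155 1 1 (.kill 159 218 180 1 1 (.kill 220 221 121 1 1 (.kill 191 222 155 1 1 (.zero 238 121 237 1 1 (.zero 239 155 230 1 1 (.kill 137 223 213 1 1 (.zero 238 121 237 1 1 (.kill 200 224 155 1 1 (.kill 210 225 155 1 1 (.kill 227 228 121 1 1 (.kill 164 229 213 1 1 (.kill 197 231 180 1 1 (.split 232 (.kill 207 233 180 1 1 (.kill 184 234 213 1 1 (.kill 226 235 155 1 1 (.kill 219 236 180 1 1 (.kill 237 238 121 1 1 (.kill 230 239 155 1 1 (.hub 3460))))))) (.kill 207 233 180 1 1 (.kill 184 234 213 1 1 (.kill 226 235 155 1 1 (.kill 219 236 180 1 1 (.kill 237 238 121 1 1 (.kill 230 239 155 1 1 (.hub 3489))))))))))))))))))))))))))) (.kill 170 206 155 1 1 (.zero 238 121 237 1 1 (.kill 208 209 121 1 1 (.kill 211 212 121 1 1 (.kill 141 213 203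 1 1 (.zero 238 121 237 1 1 (.kill 215 216 121 1 1 (.kill 181 217 155 1 1 (.kill 159 218 180 1 1 (.kill 220 221 121 1 1 (.kill 191 222 155 1 1 (.zero 238 121 237 1 1 (.zero 239 155 230 1 1 (.kill 148 223 203 1 1 (.zero 238 121 237 1 1 (.kill 200 224 155 1 1 (.kill 210 225 155 1 1 (.kill 227 228 121 1 1 (.kill 169 229 203 1 1 (.kill 197 231 180 1 1 (.kill 184 232 203 1 1 (.kill 207 233 180 1 1 (.split 234 (.kill 226 235 155 1 1 (.kill 219 236 180 1 1 (.kill 237 238 121 1 1 (.kill 230 239 155 1 1 (.hub 3497))))) (.kill 226 235 155 1 1 (.kill 219 236 180 1 1 (.kill 237 238 121 1 1 (.kill 230 239 155 1 1 (.hub 3503)))))))))))))))))))))))))))))))))))))))))) (.kill 162 177 155 1 1 (.zero 238 121 237 1 1 (.kill 131 180 173 1 1 (.zero 199 121 198 1 1 (.zero 202 121 201 1 1 (.zero 209 121 208 1 1 (.zero 212 121 211 1 1 (.zero 216 121 215 1 1 (.zero 221 121 220 1 1 (.zero 228 121 227 1 1 (.zero 238 121 237 1 1 (.kill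 182 183 121 1 1 (.kill 163 187 155 1 1 (.zero 238 121 237 1 1 (.kill 137 190 173 1 1 (.zero 238 121 237 1 1 (.kill 192 193 121 1 1 (.kill 165 196 155 1 1 (.zero 238 121 237 1 1 (.kill 198 199 121 1 1 (.kill 201 202 121 1 1 (.split 203 (.kill 170 206 155 1 1 (.zero 238 121 237 1 1 (.kill 208 209 121 1 1 (.kill 211 212 121 1 1 (.kill 159 213 173 1 1 (.kill 215 216 121 1 1 (.kill 181 217 155 1 1 (.split 218 (.kill 220 221 121 1 1 (.kill 191 222 155 1 1 (.split 223 (.kill 200 224 155 1 1 (.zero 238 121 237 1 1 (.zero 239 155 230 1 1 (.kill 210 225 155 1 1 (.kill 227 228 121 1 1 (.kill 197 229 173 1 1 (.split 231 (.split 232 (.kill 214 233 173 1 1 (.kill 219 234 173 1 1 (.kill 226 235 155 1 1 (.split 236 (.kill 237 238 121 1 1 (.kill 230 239 155 1 1 (.hub 3506))) (.kill 237 238 121 1 1 (.kill 230 239 155 1 1 (.hub 3507))))))) (.kill 214 233 173 1 1 (.kill 219 234 173 1 1 (.kill 226 235 155 1 1 (.kill 143 236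 232 1 1 (.kill 237 238 121 1 1 (.kill 230 239 155 1 1 (.hub 3518)))))))) (.kill 135 232 231 1 1 (.zero 238 121 237 1 1 (.kill 214 233 173 1 1 (.kill 219 234 173 1 1 (.kill 226 235 155 1 1 (.kill 148 236 231 1 1 (.kill 237 238 121 1 1 (.kill 230 239 155 1 1 (.hub 3517)))))))))))))))) (.kill 200 224 155 1 1 (.zero 238 121 237 1 1 (.zero 239 155 230 1 1 (.kill 210 225 155 1 1 (.kill 227 228 121 1 1 (.kill 197 229 173 1 1 (.split 231 (.kill 164 232 223 1 1 (.kill 214 233 173 1 1 (.kill 219 234 173 1 1 (.kill 226 235 155 1 1 (.kill 174 236 223 1 1 (.kill 237 238 121 1 1 (.kill 230 239 155 1 1 (.hub 3519)))))))) (.kill 164 232 223 1 1 (.kill 214 233 173 1 1 (.kill 219 234 173 1 1 (.kill 226 235 155 1 1 (.kill 174 236 223 1 1 (.kill 237 238 121 1 1 (.kill 230 239 155 1 1 (.hub 3548)))))))))))))))))) (.kill 220 221 121 1 1 (.kill 191 222 155 1 1 (.kill 135 223 218 1 1 (.zero 238 121 237 1 1 (.kill 200 224 155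 1 1 (.zero 238 121 237 1 1 (.zero 239 155 230 1 1 (.kill 210 225 155 1 1 (.kill 227 228 121 1 1 (.kill 197 229 173 1 1 (.kill 164 231 218 1 1 (.split 232 (.kill 214 233 173 1 1 (.kill 219 234 173 1 1 (.kill 226 235 155 1 1 (.kill 184 236 218 1 1 (.kill 237 238 121 1 1 (.kill 230 239 155 1 1 (.hub 3549))))))) (.kill 214 233 173 1 1 (.kill 219 234 173 1 1 (.kill 226 235 155 1 1 (.kill 184 236 218 1 1 (.kill 237 238 121 1 1 (.kill 230 239 155 1 1 (.hub 3578))))))))))))))))))))))))))) (.kill 170 206 155 1 1 (.zero 238 121 237 1 1 (.kill 208 209 121 1 1 (.kill 211 212 121 1 1 (.kill 159 213 173 1 1 (.kill 215 216 121 1 1 (.kill 181 217 155 1 1 (.kill 143 218 203 1 1 (.zero 238 121 237 1 1 (.kill 220 221 121 1 1 (.kill 191 222 155 1 1 (.kill 148 223 203 1 1 (.zero 238 121 237 1 1 (.kill 200 224 155 1 1 (.zero 238 121 237 1 1 (.zero 239 155 230 1 1 (.kill 210 225 155 1 1 (.kill 227 228 121 1 1 (.kill 197 229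 173 1 1 (.kill 174 231 203 1 1 (.kill 184 232 203 1 1 (.kill 214 233 173 1 1 (.kill 219 234 173 1 1 (.kill 226 235 155 1 1 (.split 236 (.kill 237 238 121 1 1 (.kill 230 239 155 1 1 (.hub 3579))) (.kill 237 238 121 1 1 (.kill 230 239 155 1 1 (.hub 3581))))))))))))))))))))))))))))))))))))))))))))))))))

/-- A tree. -/
def tree3741 : Tree :=
  .split 196 (.kill 198 199 121 1 1 (.kill 201 202 121 1 1 (.split 203 (.zero 239 151 231 1 1 (.kill 174 206 151 1 1 (.zero 238 121 237 1 1 (.kill 208 209 121 1 1 (.kill 211 212 121 1 1 (.kill 181 213 151 1 1 (.kill 215 216 121 1 1 (.split 217 (.split 218 (.kill 220 221 121 1 1 (.kill 197 222 151 1 1 (.kill 200 223 151 1 1 (.split 224 (.kill 214 225 151 1 1 (.kill 227 228 121 1 1 (.split 229 (.split 230 (.split 232 (.split 233 (.kill 226 234 151 1 1 (.split 235 (.split 236 (.kill 237 238 121 1 1 (.kill 231 239 151 1 1 (.hub 3607))) (.kill 237 238 121 1 1 (.kill 231 239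 151 1 1 (.hub 3609)))) (.kill 126 236 235 1 1 (.kill 237 238 121 1 1 (.kill 231 239 151 1 1 (.hub 3608)))))) (.kill 226 234 151 1 1 (.kill 136 235 233 1 1 (.kill 137 236 233 1 1 (.kill 237 238 121 1 1 (.kill 231 239 151 1 1 (.hub 3610))))))) (.split 233 (.kill 226 234 151 1 1 (.kill 142 235 232 1 1 (.kill 143 236 232 1 1 (.kill 237 238 121 1 1 (.kill 231 239 151 1 1 (.hub 3611)))))) (.kill 226 234 151 1 1 (.kill 142 235 232 1 1 (.kill 143 236 232 1 1 (.kill 237 238 121 1 1 (.kill 231 239 151 1 1 (.hub 2848)))))))) (.kill 136 232 230 1 1 (.zero 238 121 237 1 1 (.kill 142 233 230 1 1 (.kill 226 234 151 1 1 (.split 235 (.kill 152 236 230 1 1 (.kill 237 238 121 1 1 (.kill 231 239 151 1 1 (.hub 3612)))) (.kill 152 236 230 1 1 (.kill 237 238 121 1 1 (.kill 231 239 151 1 1 (.hub 2852)))))))))) (.kill 126 230 229 1 1 (.zero 238 121 237 1 1 (.kill 137 232 229 1 1 (.zero 238 121 237 1 1 (.kill 143 233 229 1 1 (.kill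 226 234 151 1 1 (.kill 152 235 229 1 1 (.split 236 (.kill 237 238 121 1 1 (.kill 231 239 151 1 1 (.hub 3613))) (.kill 237 238 121 1 1 (.kill 231 239 151 1 1 (.hub 2856)))))))))))))) (.kill 214 225 151 1 1 (.kill 227 228 121 1 1 (.split 229 (.split 230 (.kill 163 232 224 1 1 (.split 233 (.kill 226 234 151 1 1 (.kill 169 235 224 1 1 (.kill 170 236 224 1 1 (.kill 237 238 121 1 1 (.kill 231 239 151 1 1 (.hub 3614)))))) (.kill 226 234 151 1 1 (.kill 169 235 224 1 1 (.kill 170 236 224 1 1 (.kill 237 238 121 1 1 (.kill 231 239 151 1 1 (.hub 3621)))))))) (.kill 163 232 224 1 1 (.kill 142 233 230 1 1 (.kill 226 234 151 1 1 (.kill 169 235 224 1 1 (.kill 170 236 224 1 1 (.kill 237 238 121 1 1 (.kill 231 239 151 1 1 (.hub 3326))))))))) (.kill 126 230 229 1 1 (.zero 238 121 237 1 1 (.kill 163 232 224 1 1 (.kill 143 233 229 1 1 (.kill 226 234 151 1 1 (.kill 169 235 224 1 1 (.kill 170 236 224 1 1 (.kill 237 238 121 1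 1 (.kill 231 239 151 1 1 (.hub 3325))))))))))))))))) (.kill 220 221 121 1 1 (.kill 197 222 151 1 1 (.kill 200 223 151 1 1 (.kill 136 224 218 1 1 (.zero 238 121 237 1 1 (.kill 214 225 151 1 1 (.kill 227 228 121 1 1 (.split 229 (.kill 163 230 218 1 1 (.split 232 (.kill 169 233 218 1 1 (.kill 226 234 151 1 1 (.split 235 (.kill 184 236 218 1 1 (.kill 237 238 121 1 1 (.kill 231 239 151 1 1 (.hub 3622)))) (.kill 184 236 218 1 1 (.kill 237 238 121 1 1 (.kill 231 239 151 1 1 (.hub 3623))))))) (.kill 169 233 218 1 1 (.kill 226 234 151 1 1 (.kill 142 235 232 1 1 (.kill 184 236 218 1 1 (.kill 237 238 121 1 1 (.kill 231 239 151 1 1 (.hub 3634))))))))) (.kill 163 230 218 1 1 (.kill 137 232 229 1 1 (.zero 238 121 237 1 1 (.kill 169 233 218 1 1 (.kill 226 234 151 1 1 (.kill 152 235 229 1 1 (.kill 184 236 218 1 1 (.kill 237 238 121 1 1 (.kill 231 239 151 1 1 (.hub 2518))))))))))))))))))) (.kill 126 218 217 1 1 (.zero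 238 121 237 1 1 (.zero 239 151 231 1 1 (.kill 220 221 121 1 1 (.kill 197 222 151 1 1 (.kill 200 223 151 1 1 (.kill 137 224 217 1 1 (.zero 238 121 237 1 1 (.kill 214 225 151 1 1 (.kill 227 228 121 1 1 (.kill 163 229 217 1 1 (.split 230 (.split 232 (.kill 170 233 217 1 1 (.kill 226 234 151 1 1 (.kill 184 235 217 1 1 (.split 236 (.kill 237 238 121 1 1 (.kill 231 239 151 1 1 (.hub 3635))) (.kill 237 238 121 1 1 (.kill 231 239 151 1 1 (.hub 3636))))))) (.kill 170 233 217 1 1 (.kill 226 234 151 1 1 (.kill 184 235 217 1 1 (.kill 143 236 232 1 1 (.kill 237 238 121 1 1 (.kill 231 239 151 1 1 (.hub 3633)))))))) (.kill 136 232 230 1 1 (.zero 238 121 237 1 1 (.kill 170 233 217 1 1 (.kill 226 234 151 1 1 (.kill 184 235 217 1 1 (.kill 152 236 230 1 1 (.kill 237 238 121 1 1 (.kill 231 239 151 1 1 (.hub 2519))))))))))))))))))))))))))))) (.kill 174 206 151 1 1 (.zero 238 121 237 1 1 (.zero 239 151 231 1 1 (.kill 208 209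 121 1 1 (.kill 211 212 121 1 1 (.kill 181 213 151 1 1 (.kill 215 216 121 1 1 (.kill 142 217 203 1 1 (.zero 238 121 237 1 1 (.kill 143 218 203 1 1 (.zero 238 121 237 1 1 (.kill 220 221 121 1 1 (.kill 197 222 151 1 1 (.kill 200 223 151 1 1 (.kill 152 224 203 1 1 (.zero 238 121 237 1 1 (.kill 214 225 151 1 1 (.kill 227 228 121 1 1 (.kill 169 229 203 1 1 (.kill 170 230 203 1 1 (.kill 184 232 203 1 1 (.split 233 (.kill 226 234 151 1 1 (.split 235 (.split 236 (.kill 237 238 121 1 1 (.kill 231 239 151 1 1 (.hub 3637))) (.kill 237 238 121 1 1 (.kill 231 239 151 1 1 (.hub 3639)))) (.kill 126 236 235 1 1 (.kill 237 238 121 1 1 (.kill 231 239 151 1 1 (.hub 3638)))))) (.kill 226 234 151 1 1 (.kill 136 235 233 1 1 (.kill 137 236 233 1 1 (.kill 237 238 121 1 1 (.kill 231 239 151 1 1 (.hub 3664))))))))))))))))))))))))))))))) (.kill 198 199 121 1 1 (.kill 201 202 121 1 1 (.split 203 (.kill 174 206 151 1 1 (.zero 238 121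 237 1 1 (.kill 208 209 121 1 1 (.kill 211 212 121 1 1 (.kill 181 213 151 1 1 (.zero 238 121 237 1 1 (.zero 239 151 231 1 1 (.kill 215 216 121 1 1 (.split 217 (.split 218 (.kill 220 221 121 1 1 (.kill 197 222 151 1 1 (.kill 200 223 151 1 1 (.kill 159 224 196 1 1 (.kill 214 225 151 1 1 (.kill 227 228 121 1 1 (.split 229 (.split 230 (.kill 191 232 196 1 1 (.split 233 (.kill 226 234 151 1 1 (.kill 207 235 196 1 1 (.kill 210 236 196 1 1 (.kill 237 238 121 1 1 (.kill 231 239 151 1 1 (.hub 3666)))))) (.kill 226 234 151 1 1 (.kill 207 235 196 1 1 (.kill 210 236 196 1 1 (.kill 237 238 121 1 1 (.kill 231 239 151 1 1 (.hub 3675)))))))) (.kill 191 232 196 1 1 (.kill 142 233 230 1 1 (.kill 226 234 151 1 1 (.kill 207 235 196 1 1 (.kill 210 236 196 1 1 (.kill 237 238 121 1 1 (.kill 231 239 151 1 1 (.hub 3344))))))))) (.kill 126 230 229 1 1 (.zero 238 121 237 1 1 (.kill 191 232 196 1 1 (.kill 143 233 229 1 1 (.kill 226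 234 151 1 1 (.kill 207 235 196 1 1 (.kill 210 236 196 1 1 (.kill 237 238 121 1 1 (.kill 231 239 151 1 1 (.hub 3343))))))))))))))))) (.kill 220 221 121 1 1 (.kill 197 222 151 1 1 (.kill 200 223 151 1 1 (.kill 159 224 196 1 1 (.kill 214 225 151 1 1 (.kill 227 228 121 1 1 (.split 229 (.kill 163 230 218 1 1 (.kill 191 232 196 1 1 (.kill 169 233 218 1 1 (.kill 226 234 151 1 1 (.kill 207 235 196 1 1 (.kill 210 236 196 1 1 (.kill 237 238 121 1 1 (.kill 231 239 151 1 1 (.hub 3676))))))))) (.kill 163 230 218 1 1 (.kill 191 232 196 1 1 (.kill 169 233 218 1 1 (.kill 226 234 151 1 1 (.kill 207 235 196 1 1 (.kill 210 236 196 1 1 (.kill 237 238 121 1 1 (.kill 231 239 151 1 1 (.hub 3705))))))))))))))))) (.kill 126 218 217 1 1 (.zero 238 121 237 1 1 (.zero 239 151 231 1 1 (.kill 220 221 121 1 1 (.kill 197 222 151 1 1 (.kill 200 223 151 1 1 (.kill 159 224 196 1 1 (.kill 214 225 151 1 1 (.kill 227 228 121 1 1 (.kill 163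 229 217 1 1 (.split 230 (.kill 191 232 196 1 1 (.kill 170 233 217 1 1 (.kill 226 234 151 1 1 (.kill 207 235 196 1 1 (.kill 210 236 196 1 1 (.kill 237 238 121 1 1 (.kill 231 239 151 1 1 (.hub 3706)))))))) (.kill 191 232 196 1 1 (.kill 170 233 217 1 1 (.kill 226 234 151 1 1 (.kill 207 235 196 1 1 (.kill 210 236 196 1 1 (.kill 237 238 121 1 1 (.kill 231 239 151 1 1 (.hub 3735)))))))))))))))))))))))))))) (.kill 174 206 151 1 1 (.zero 238 121 237 1 1 (.kill 208 209 121 1 1 (.kill 211 212 121 1 1 (.kill 181 213 151 1 1 (.zero 238 121 237 1 1 (.zero 239 151 231 1 1 (.kill 215 216 121 1 1 (.kill 142 217 203 1 1 (.zero 238 121 237 1 1 (.kill 143 218 203 1 1 (.zero 238 121 237 1 1 (.kill 220 221 121 1 1 (.kill 197 222 151 1 1 (.kill 200 223 151 1 1 (.kill 159 224 196 1 1 (.kill 214 225 151 1 1 (.kill 227 228 121 1 1 (.kill 169 229 203 1 1 (.kill 170 230 203 1 1 (.kill 191 232 196 1 1 (.split 233 (.kill 226 234 151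 1 1 (.kill 207 235 196 1 1 (.kill 210 236 196 1 1 (.kill 237 238 121 1 1 (.kill 231 239 151 1 1 (.hub 3736)))))) (.kill 226 234 151 1 1 (.kill 207 235 196 1 1 (.kill 210 236 196 1 1 (.kill 237 238 121 1 1 (.kill 231 239 151 1 1 (.hub 3740)))))))))))))))))))))))))))))))

/-- A tree. -/
def tree3906 : Tree :=
  .split 177 (.split 180 (.kill 182 183 121 1 1 (.kill 164 187 151 1 1 (.zero 238 121 237 1 1 (.kill 165 190 151 1 1 (.zero 238 121 237 1 1 (.kill 192 193 121 1 1 (.hub 3741))))))) (.kill 182 183 121 1 1 (.kill 164 187 151 1 1 (.zero 238 121 237 1 1 (.kill 165 190 151 1 1 (.zero 238 121 237 1 1 (.kill 192 193 121 1 1 (.kill 136 196 180 1 1 (.zero 238 121 237 1 1 (.kill 198 199 121 1 1 (.kill 201 202 121 1 1 (.split 203 (.kill 174 206 151 1 1 (.zero 238 121 237 1 1 (.kill 208 209 121 1 1 (.kill 211 212 121 1 1 (.kill 181 213 151 1 1 (.kill 215 216 121 1 1 (.split 217 (.kill 159 218 180 1 1 (.kill 220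 221 121 1 1 (.kill 197 222 151 1 1 (.zero 238 121 237 1 1 (.zero 239 151 231 1 1 (.kill 200 223 151 1 1 (.split 224 (.kill 214 225 151 1 1 (.kill 227 228 121 1 1 (.split 229 (.kill 191 230 180 1 1 (.split 232 (.kill 207 233 180 1 1 (.kill 226 234 151 1 1 (.split 235 (.kill 219 236 180 1 1 (.kill 237 238 121 1 1 (.kill 231 239 151 1 1 (.hub 3747)))) (.kill 219 236 180 1 1 (.kill 237 238 121 1 1 (.kill 231 239 151 1 1 (.hub 3748))))))) (.kill 207 233 180 1 1 (.kill 226 234 151 1 1 (.kill 142 235 232 1 1 (.kill 219 236 180 1 1 (.kill 237 238 121 1 1 (.kill 231 239 151 1 1 (.hub 3749))))))))) (.kill 191 230 180 1 1 (.kill 137 232 229 1 1 (.zero 238 121 237 1 1 (.kill 207 233 180 1 1 (.kill 226 234 151 1 1 (.kill 152 235 229 1 1 (.kill 219 236 180 1 1 (.kill 237 238 121 1 1 (.kill 231 239 151 1 1 (.hub 3515))))))))))))) (.kill 214 225 151 1 1 (.kill 227 228 121 1 1 (.split 229 (.kill 191 230 180 1 1 (.kill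 163 232 224 1 1 (.kill 207 233 180 1 1 (.kill 226 234 151 1 1 (.kill 169 235 224 1 1 (.kill 219 236 180 1 1 (.kill 237 238 121 1 1 (.kill 231 239 151 1 1 (.hub 3750))))))))) (.kill 191 230 180 1 1 (.kill 163 232 224 1 1 (.kill 207 233 180 1 1 (.kill 226 234 151 1 1 (.kill 169 235 224 1 1 (.kill 219 236 180 1 1 (.kill 237 238 121 1 1 (.kill 231 239 151 1 1 (.hub 3779))))))))))))))))))) (.kill 159 218 180 1 1 (.kill 220 221 121 1 1 (.kill 197 222 151 1 1 (.zero 238 121 237 1 1 (.zero 239 151 231 1 1 (.kill 200 223 151 1 1 (.kill 137 224 217 1 1 (.zero 238 121 237 1 1 (.kill 214 225 151 1 1 (.kill 227 228 121 1 1 (.kill 163 229 217 1 1 (.kill 191 230 180 1 1 (.split 232 (.kill 207 233 180 1 1 (.kill 226 234 151 1 1 (.kill 184 235 217 1 1 (.kill 219 236 180 1 1 (.kill 237 238 121 1 1 (.kill 231 239 151 1 1 (.hub 3787))))))) (.kill 207 233 180 1 1 (.kill 226 234 151 1 1 (.kill 184 235 217 1 1 (.kill 219 236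 180 1 1 (.kill 237 238 121 1 1 (.kill 231 239 151 1 1 (.hub 3816))))))))))))))))))))))))))) (.kill 174 206 151 1 1 (.zero 238 121 237 1 1 (.kill 208 209 121 1 1 (.kill 211 212 121 1 1 (.kill 181 213 151 1 1 (.kill 215 216 121 1 1 (.kill 142 217 203 1 1 (.zero 238 121 237 1 1 (.kill 159 218 180 1 1 (.kill 220 221 121 1 1 (.kill 197 222 151 1 1 (.zero 238 121 237 1 1 (.zero 239 151 231 1 1 (.kill 200 223 151 1 1 (.kill 152 224 203 1 1 (.zero 238 121 237 1 1 (.kill 214 225 151 1 1 (.kill 227 228 121 1 1 (.kill 169 229 203 1 1 (.kill 191 230 180 1 1 (.kill 184 232 203 1 1 (.kill 207 233 180 1 1 (.kill 226 234 151 1 1 (.split 235 (.kill 219 236 180 1 1 (.kill 237 238 121 1 1 (.kill 231 239 151 1 1 (.hub 3824)))) (.kill 219 236 180 1 1 (.kill 237 238 121 1 1 (.kill 231 239 151 1 1 (.hub 3828)))))))))))))))))))))))))))))))))))))))) (.kill 126 180 177 1 1 (.zero 193 121 192 1 1 (.zero 199 121 198 1 1 (.zero 202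 121 201 1 1 (.zero 209 121 208 1 1 (.zero 212 121 211 1 1 (.zero 216 121 215 1 1 (.zero 221 121 220 1 1 (.zero 228 121 227 1 1 (.zero 238 121 237 1 1 (.kill 182 183 121 1 1 (.kill 164 187 151 1 1 (.zero 238 121 237 1 1 (.kill 165 190 151 1 1 (.zero 238 121 237 1 1 (.kill 192 193 121 1 1 (.kill 137 196 177 1 1 (.zero 238 121 237 1 1 (.kill 198 199 121 1 1 (.kill 201 202 121 1 1 (.split 203 (.kill 174 206 151 1 1 (.zero 238 121 237 1 1 (.kill 208 209 121 1 1 (.kill 211 212 121 1 1 (.kill 181 213 151 1 1 (.kill 215 216 121 1 1 (.kill 159 217 177 1 1 (.split 218 (.kill 220 221 121 1 1 (.kill 197 222 151 1 1 (.kill 200 223 151 1 1 (.zero 238 121 237 1 1 (.zero 239 151 231 1 1 (.split 224 (.kill 214 225 151 1 1 (.kill 227 228 121 1 1 (.kill 191 229 177 1 1 (.split 230 (.split 232 (.kill 210 233 177 1 1 (.kill 226 234 151 1 1 (.kill 219 235 177 1 1 (.split 236 (.kill 237 238 121 1 1 (.kill 231 239 151 1 1 (.hub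 3831))) (.kill 237 238 121 1 1 (.kill 231 239 151 1 1 (.hub 3832))))))) (.kill 210 233 177 1 1 (.kill 226 234 151 1 1 (.kill 219 235 177 1 1 (.kill 143 236 232 1 1 (.kill 237 238 121 1 1 (.kill 231 239 151 1 1 (.hub 3842)))))))) (.kill 136 232 230 1 1 (.zero 238 121 237 1 1 (.kill 210 233 177 1 1 (.kill 226 234 151 1 1 (.kill 219 235 177 1 1 (.kill 152 236 230 1 1 (.kill 237 238 121 1 1 (.kill 231 239 151 1 1 (.hub 3516))))))))))))) (.kill 214 225 151 1 1 (.kill 227 228 121 1 1 (.kill 191 229 177 1 1 (.split 230 (.kill 163 232 224 1 1 (.kill 210 233 177 1 1 (.kill 226 234 151 1 1 (.kill 219 235 177 1 1 (.kill 170 236 224 1 1 (.kill 237 238 121 1 1 (.kill 231 239 151 1 1 (.hub 3843)))))))) (.kill 163 232 224 1 1 (.kill 210 233 177 1 1 (.kill 226 234 151 1 1 (.kill 219 235 177 1 1 (.kill 170 236 224 1 1 (.kill 237 238 121 1 1 (.kill 231 239 151 1 1 (.hub 3872)))))))))))))))))) (.kill 220 221 121 1 1 (.kill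 197 222 151 1 1 (.kill 200 223 151 1 1 (.zero 238 121 237 1 1 (.zero 239 151 231 1 1 (.kill 136 224 218 1 1 (.zero 238 121 237 1 1 (.kill 214 225 151 1 1 (.kill 227 228 121 1 1 (.kill 191 229 177 1 1 (.kill 163 230 218 1 1 (.split 232 (.kill 210 233 177 1 1 (.kill 226 234 151 1 1 (.kill 219 235 177 1 1 (.kill 184 236 218 1 1 (.kill 237 238 121 1 1 (.kill 231 239 151 1 1 (.hub 3873))))))) (.kill 210 233 177 1 1 (.kill 226 234 151 1 1 (.kill 219 235 177 1 1 (.kill 184 236 218 1 1 (.kill 237 238 121 1 1 (.kill 231 239 151 1 1 (.hub 3902))))))))))))))))))))))))))) (.kill 174 206 151 1 1 (.zero 238 121 237 1 1 (.kill 208 209 121 1 1 (.kill 211 212 121 1 1 (.kill 181 213 151 1 1 (.kill 215 216 121 1 1 (.kill 159 217 177 1 1 (.kill 143 218 203 1 1 (.zero 238 121 237 1 1 (.kill 220 221 121 1 1 (.kill 197 222 151 1 1 (.kill 200 223 151 1 1 (.zero 238 121 237 1 1 (.zero 239 151 231 1 1 (.kill 152 224 203 1 1 (.zero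 238 121 237 1 1 (.kill 214 225 151 1 1 (.kill 227 228 121 1 1 (.kill 191 229 177 1 1 (.kill 170 230 203 1 1 (.kill 184 232 203 1 1 (.kill 210 233 177 1 1 (.kill 226 234 151 1 1 (.kill 219 235 177 1 1 (.split 236 (.kill 237 238 121 1 1 (.kill 231 239 151 1 1 (.hub 3903))) (.kill 237 238 121 1 1 (.kill 231 239 151 1 1 (.hub 3905)))))))))))))))))))))))))))))))))))))))))))))))))

/-- Trees from index 3123. -/
def trees4_0 : List Tree := [
    tree3123,
    .weyl 4 0 (.hub 1951),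
    .weyl 3 0 (.hub 3124),
    .weyl 1 0 (.hub 3125),
    .weyl 2 0 (.hub 3126),
    .weyl 3 0 (.hub 3127),
    .weyl 4 0 (.hub 3128),
    .weyl 5 0 (.hub 3129),
    .weyl 6 0 (.hub 3130),
    .weyl 7 0 (.hub 3131),
    .weyl 3 0 (.hub 3003),
    .weyl 3 0 (.hub 3011),
    .weyl 2 0 (.hub 3134),
    .weyl 3 0 (.hub 3054),
    .weyl 1 0 (.hub 3136),
    .weyl 6 0 (.hub 3137),
    .weyl 5 0 (.hub 3138),
    .weyl 4 0 (.hub 3139),
    .weyl 3 0 (.hub 3140),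
    .weyl 1 0 (.hub 3141),
    .weyl 2 0 (.hub 3142),
    .weyl 3 0 (.hub 3143),
    .weyl 4 0 (.hub 3144),
    .weyl 5 0 (.hub 3145),
    .weyl 6 0 (.hub 3146),
    .weyl 7 0 (.hub 3147),
    .weyl 6 0 (.hub 3148),
    .weyl 5 0 (.hub 3149),
    .weyl 3 0 (.hub 3019),
    .weyl 4 0 (.hub 3151),
    .weyl 3 0 (.hub 3152),
    .weyl 1 0 (.hub 3153),
    .weyl 6 0 (.hub 3154),
    .weyl 5 0 (.hub 3155),
    .weyl 4 0 (.hub 3156),
    .weyl 3 0 (.hub 3157),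
    .weyl 1 0 (.hub 3158),
    .weyl 2 0 (.hub 3159),
    .weyl 0 0 (.hub 3160),
    .weyl 3 0 (.hub 3161),
    .weyl 4 0 (.hub 3162),
    .weyl 5 0 (.hub 3163),
    .weyl 6 0 (.hub 3164),
    .weyl 7 0 (.hub 3165),
    .weyl 6 0 (.hub 3166),
    .weyl 5 0 (.hub 3167),
    .weyl 4 0 (.hub 3168),
    .weyl 3 0 (.hub 3169),
    .weyl 1 0 (.hub 3170),
    .weyl 2 0 (.hub 3171),
    .weyl 0 0 (.hub 3172),
    .weyl 3 0 (.hub 3173),
    .weyl 2 0 (.hub 3174),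
    .weyl 4 0 (.hub 3175),
    .weyl 3 0 (.hub 3176),
    .weyl 5 0 (.hub 3177),
    .weyl 4 0 (.hub 3178),
    .weyl 6 0 (.hub 3179),
    .weyl 5 0 (.hub 3180),
    .weyl 7 0 (.hub 3181),
    .weyl 6 0 (.hub 3136),
    .weyl 5 0 (.hub 3183),
    .weyl 4 0 (.hub 3184),
    .weyl 3 0 (.hub 3185),
    .weyl 1 0 (.hub 3186),
    .weyl 2 0 (.hub 3187),
    .weyl 3 0 (.hub 3188),
    .weyl 4 0 (.hub 3189),
    .weyl 5 0 (.hub 3190),
    .weyl 6 0 (.hub 3191),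
    .weyl 7 0 (.hub 3192),
    .weyl 6 0 (.hub 3193),
    .weyl 5 0 (.hub 3194),
    .weyl 1 0 (.hub 3151),
    .weyl 4 0 (.hub 3196),
    .weyl 3 0 (.hub 3197),
    .weyl 1 0 (.hub 3198),
    .weyl 6 0 (.hub 3199),
    .weyl 5 0 (.hub 3200),
    .weyl 4 0 (.hub 3201),
    .weyl 3 0 (.hub 3202),
    .weyl 1 0 (.hub 3203),
    .weyl 2 0 (.hub 3204),
    .weyl 0 0 (.hub 3205),
    .weyl 3 0 (.hub 3206),
    .weyl 4 0 (.hub 3207),
    .weyl 5 0 (.hub 3208),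
    .weyl 6 0 (.hub 3209),
    .weyl 7 0 (.hub 3210),
    .weyl 6 0 (.hub 3211),
    .weyl 5 0 (.hub 3212),
    .weyl 4 0 (.hub 3213),
    .weyl 3 0 (.hub 3214),
    .weyl 1 0 (.hub 3215),
    .weyl 2 0 (.hub 3216),
    .weyl 0 0 (.hub 3217),
    .weyl 3 0 (.hub 3218),
    .weyl 2 0 (.hub 3219),
    .weyl 4 0 (.hub 3220),
    .weyl 3 0 (.hub 3221)]

theorem trees4_0_ok : allOK tab simples patterns 3123 trees4_0 = true :=
  Fast.allOK_of_fast (by decide +kernel)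

/-- Trees from index 3223. -/
def trees4_1 : List Tree := [
    .weyl 5 0 (.hub 3222),
    .weyl 4 0 (.hub 3223),
    .weyl 6 0 (.hub 3224),
    .weyl 5 0 (.hub 3225),
    .weyl 7 0 (.hub 3226),
    .weyl 3 0 (.hub 3103),
    .weyl 6 0 (.hub 3228),
    .weyl 5 0 (.hub 3229),
    .weyl 4 0 (.hub 3230),
    .weyl 3 0 (.hub 3231),
    .weyl 1 0 (.hub 3232),
    .weyl 2 0 (.hub 3233),
    .weyl 3 0 (.hub 3234),
    .weyl 4 0 (.hub 3235),
    .weyl 5 0 (.hub 3236),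
    .weyl 6 0 (.hub 3237),
    .weyl 7 0 (.hub 3238),
    .weyl 6 0 (.hub 3239),
    .weyl 5 0 (.hub 3240),
    .weyl 3 0 (.hub 3119),
    .weyl 6 0 (.hub 3242),
    .weyl 5 0 (.hub 3243),
    .weyl 7 0 (.hub 3244),
    .weyl 3 0 (.hub 1956),
    .weyl 4 0 (.hub 3246),
    .weyl 5 0 (.hub 3247),
    .weyl 6 0 (.hub 3248),
    .weyl 7 0 (.hub 3249),
    .weyl 1 0 (.hub 3134),
    .weyl 2 0 (.hub 3251),
    .weyl 3 0 (.hub 3252),
    .weyl 2 0 (.hub 3137),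
    .weyl 6 0 (.hub 3254),
    .weyl 5 0 (.hub 3255),
    .weyl 4 0 (.hub 3256),
    .weyl 3 0 (.hub 3257),
    .weyl 1 0 (.hub 3258),
    .weyl 2 0 (.hub 3259),
    .weyl 3 0 (.hub 3260),
    .weyl 4 0 (.hub 3261),
    .weyl 5 0 (.hub 3262),
    .weyl 6 0 (.hub 3263),
    .weyl 7 0 (.hub 3264),
    .weyl 6 0 (.hub 3265),
    .weyl 5 0 (.hub 3266),
    .weyl 1 0 (.hub 3177),
    .weyl 5 0 (.hub 3268),
    .weyl 4 0 (.hub 3269),
    .weyl 6 0 (.hub 3270),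
    .weyl 5 0 (.hub 3271),
    .weyl 7 0 (.hub 3272),
    .weyl 2 0 (.hub 3136),
    .weyl 6 0 (.hub 3274),
    .weyl 5 0 (.hub 3275),
    .weyl 4 0 (.hub 3276),
    .weyl 3 0 (.hub 3277),
    .weyl 1 0 (.hub 3278),
    .weyl 2 0 (.hub 3279),
    .weyl 3 0 (.hub 3280),
    .weyl 4 0 (.hub 3281),
    .weyl 5 0 (.hub 3282),
    .weyl 6 0 (.hub 3283),
    .weyl 7 0 (.hub 3284),
    .weyl 6 0 (.hub 3285),
    .weyl 5 0 (.hub 3286),
    .weyl 1 0 (.hub 3222),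
    .weyl 5 0 (.hub 3288),
    .weyl 4 0 (.hub 3289),
    .weyl 6 0 (.hub 3290),
    .weyl 5 0 (.hub 3291),
    .weyl 7 0 (.hub 3292),
    .weyl 2 0 (.hub 3228),
    .weyl 6 0 (.hub 3294),
    .weyl 5 0 (.hub 3295),
    .weyl 4 0 (.hub 3296),
    .weyl 3 0 (.hub 3297),
    .weyl 1 0 (.hub 3298),
    .weyl 2 0 (.hub 3299),
    .weyl 3 0 (.hub 3300),
    .weyl 4 0 (.hub 3301),
    .weyl 5 0 (.hub 3302),
    .weyl 6 0 (.hub 3303),
    .weyl 7 0 (.hub 3304),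
    .weyl 6 0 (.hub 3305),
    .weyl 5 0 (.hub 3306),
    .weyl 3 0 (.hub 3290),
    .weyl 6 0 (.hub 3308),
    .weyl 5 0 (.hub 3309),
    .weyl 7 0 (.hub 3310),
    tree3312,
    .weyl 6 0 (.hub 2840),
    .weyl 7 0 (.hub 3313),
    .weyl 4 0 (.hub 2845),
    .weyl 0 0 (.hub 2489),
    .weyl 0 0 (.hub 2492),
    .weyl 0 0 (.hub 2490),
    .weyl 0 0 (.hub 2493),
    .weyl 0 0 (.hub 2494),
    .weyl 4 0 (.hub 2865),
    .weyl 3 0 (.hub 2227)]

theorem trees4_1_ok : allOK tab simples patterns 3223 trees4_1 = true :=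
  Fast.allOK_of_fast (by decide +kernel)

/-- Trees from index 3323. -/
def trees4_2 : List Tree := [
    .weyl 7 0 (.hub 3322),
    .weyl 6 0 (.hub 3323),
    .weyl 5 0 (.hub 3324),
    .weyl 4 0 (.hub 3325),
    .weyl 3 0 (.hub 3326),
    .weyl 1 0 (.hub 3327),
    .weyl 4 0 (.hub 2872),
    .weyl 2 0 (.hub 3328),
    .weyl 2 0 (.hub 3327),
    .weyl 4 0 (.hub 2879),
    .weyl 4 0 (.hub 2880),
    .weyl 4 0 (.hub 2887),
    .weyl 4 0 (.hub 2888),
    .weyl 6 0 (.hub 1923),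
    .weyl 7 0 (.hub 3336),
    .weyl 3 0 (.hub 2902),
    .weyl 5 0 (.hub 3338),
    .weyl 6 0 (.hub 3339),
    .weyl 7 0 (.hub 3340),
    .weyl 6 0 (.hub 3341),
    .weyl 5 0 (.hub 3342),
    .weyl 4 0 (.hub 3343),
    .weyl 3 0 (.hub 3344),
    .weyl 1 0 (.hub 3345),
    .weyl 4 0 (.hub 2917),
    .weyl 5 0 (.hub 2382),
    .weyl 6 0 (.hub 3348),
    .weyl 5 0 (.hub 3349),
    .weyl 4 0 (.hub 3350),
    .weyl 3 0 (.hub 3351),
    .weyl 1 0 (.hub 3352),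
    .weyl 2 0 (.hub 3353),
    .weyl 0 0 (.hub 3354),
    .weyl 3 0 (.hub 3355),
    .weyl 4 0 (.hub 3356),
    .weyl 5 0 (.hub 3357),
    .weyl 6 0 (.hub 3358),
    .weyl 7 0 (.hub 3359),
    .weyl 6 0 (.hub 3360),
    .weyl 5 0 (.hub 3361),
    .weyl 4 0 (.hub 3362),
    .weyl 3 0 (.hub 3363),
    .weyl 1 0 (.hub 3364),
    .weyl 2 0 (.hub 3365),
    .weyl 0 0 (.hub 3366),
    .weyl 3 0 (.hub 3367),
    .weyl 2 0 (.hub 3368),
    .weyl 4 0 (.hub 3369),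
    .weyl 3 0 (.hub 3370),
    .weyl 5 0 (.hub 3371),
    .weyl 4 0 (.hub 3372),
    .weyl 6 0 (.hub 3373),
    .weyl 5 0 (.hub 3374),
    .weyl 7 0 (.hub 3375),
    .weyl 4 0 (.hub 2952),
    .weyl 5 0 (.hub 2429),
    .weyl 6 0 (.hub 3378),
    .weyl 5 0 (.hub 3379),
    .weyl 4 0 (.hub 3380),
    .weyl 3 0 (.hub 3381),
    .weyl 1 0 (.hub 3382),
    .weyl 2 0 (.hub 3383),
    .weyl 0 0 (.hub 3384),
    .weyl 3 0 (.hub 3385),
    .weyl 4 0 (.hub 3386),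
    .weyl 5 0 (.hub 3387),
    .weyl 6 0 (.hub 3388),
    .weyl 7 0 (.hub 3389),
    .weyl 6 0 (.hub 3390),
    .weyl 5 0 (.hub 3391),
    .weyl 4 0 (.hub 3392),
    .weyl 3 0 (.hub 3393),
    .weyl 1 0 (.hub 3394),
    .weyl 2 0 (.hub 3395),
    .weyl 0 0 (.hub 3396),
    .weyl 3 0 (.hub 3397),
    .weyl 2 0 (.hub 3398),
    .weyl 4 0 (.hub 3399),
    .weyl 3 0 (.hub 3400),
    .weyl 5 0 (.hub 3401),
    .weyl 4 0 (.hub 3402),
    .weyl 6 0 (.hub 3403),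
    .weyl 5 0 (.hub 3404),
    .weyl 7 0 (.hub 3405),
    .weyl 4 0 (.hub 2987),
    .weyl 1 0 (.hub 3401),
    .weyl 5 0 (.hub 3408),
    .weyl 4 0 (.hub 3409),
    .weyl 6 0 (.hub 3410),
    .weyl 5 0 (.hub 3411),
    .weyl 7 0 (.hub 3412),
    tree3414,
    .weyl 0 0 (.hub 2997),
    .weyl 3 0 (.hub 3415),
    .weyl 4 0 (.hub 3416),
    .weyl 5 0 (.hub 3417),
    .weyl 6 0 (.hub 3418),
    .weyl 7 0 (.hub 3419),
    .weyl 2 0 (.hub 3346),
    .weyl 2 0 (.hub 3345)]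

theorem trees4_2_ok : allOK tab simples patterns 3323 trees4_2 = true :=
  Fast.allOK_of_fast (by decide +kernel)

/-- Trees from index 3423. -/
def trees4_3 : List Tree := [
    .weyl 4 0 (.hub 3018),
    .weyl 2 0 (.hub 3022),
    .weyl 6 0 (.hub 3424),
    .weyl 5 0 (.hub 3425),
    .weyl 4 0 (.hub 3426),
    .weyl 3 0 (.hub 3427),
    .weyl 1 0 (.hub 3428),
    .weyl 2 0 (.hub 3429),
    .weyl 0 0 (.hub 3430),
    .weyl 3 0 (.hub 3431),
    .weyl 4 0 (.hub 3432),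
    .weyl 5 0 (.hub 3433),
    .weyl 6 0 (.hub 3434),
    .weyl 7 0 (.hub 3435),
    .weyl 6 0 (.hub 3436),
    .weyl 5 0 (.hub 3437),
    .weyl 4 0 (.hub 3438),
    .weyl 3 0 (.hub 3439),
    .weyl 1 0 (.hub 3440),
    .weyl 2 0 (.hub 3441),
    .weyl 0 0 (.hub 3442),
    .weyl 3 0 (.hub 3443),
    .weyl 2 0 (.hub 3444),
    .weyl 4 0 (.hub 3445),
    .weyl 3 0 (.hub 3446),
    .weyl 5 0 (.hub 3447),
    .weyl 4 0 (.hub 3448),
    .weyl 6 0 (.hub 3449),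
    .weyl 5 0 (.hub 3450),
    .weyl 7 0 (.hub 3451),
    .weyl 0 0 (.hub 3060),
    .weyl 3 0 (.hub 3453),
    .weyl 4 0 (.hub 3454),
    .weyl 5 0 (.hub 3455),
    .weyl 6 0 (.hub 3456),
    .weyl 7 0 (.hub 3457),
    .weyl 6 0 (.hub 3458),
    .weyl 5 0 (.hub 3459),
    .weyl 2 0 (.hub 3071),
    .weyl 6 0 (.hub 3461),
    .weyl 5 0 (.hub 3462),
    .weyl 4 0 (.hub 3463),
    .weyl 3 0 (.hub 3464),
    .weyl 1 0 (.hub 3465),
    .weyl 2 0 (.hub 3466),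
    .weyl 0 0 (.hub 3467),
    .weyl 3 0 (.hub 3468),
    .weyl 4 0 (.hub 3469),
    .weyl 5 0 (.hub 3470),
    .weyl 6 0 (.hub 3471),
    .weyl 7 0 (.hub 3472),
    .weyl 6 0 (.hub 3473),
    .weyl 5 0 (.hub 3474),
    .weyl 4 0 (.hub 3475),
    .weyl 3 0 (.hub 3476),
    .weyl 1 0 (.hub 3477),
    .weyl 2 0 (.hub 3478),
    .weyl 0 0 (.hub 3479),
    .weyl 3 0 (.hub 3480),
    .weyl 2 0 (.hub 3481),
    .weyl 4 0 (.hub 3482),
    .weyl 3 0 (.hub 3483),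
    .weyl 5 0 (.hub 3484),
    .weyl 4 0 (.hub 3485),
    .weyl 6 0 (.hub 3486),
    .weyl 5 0 (.hub 3487),
    .weyl 7 0 (.hub 3488),
    .weyl 0 0 (.hub 3109),
    .weyl 3 0 (.hub 3490),
    .weyl 4 0 (.hub 3491),
    .weyl 5 0 (.hub 3492),
    .weyl 6 0 (.hub 3493),
    .weyl 7 0 (.hub 3494),
    .weyl 6 0 (.hub 3495),
    .weyl 5 0 (.hub 3496),
    .weyl 1 0 (.hub 3484),
    .weyl 5 0 (.hub 3498),
    .weyl 4 0 (.hub 3499),
    .weyl 6 0 (.hub 3500),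
    .weyl 5 0 (.hub 3501),
    .weyl 7 0 (.hub 3502),
    .weyl 4 0 (.hub 3130),
    .weyl 6 0 (.hub 3504),
    .weyl 7 0 (.hub 3505),
    .weyl 4 0 (.hub 3133),
    .weyl 0 0 (.hub 3143),
    .weyl 3 0 (.hub 3508),
    .weyl 4 0 (.hub 3509),
    .weyl 5 0 (.hub 3510),
    .weyl 6 0 (.hub 3511),
    .weyl 7 0 (.hub 3512),
    .weyl 6 0 (.hub 3513),
    .weyl 5 0 (.hub 3514),
    .weyl 4 0 (.hub 3515),
    .weyl 3 0 (.hub 3516),
    .weyl 2 0 (.hub 3517),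
    .weyl 4 0 (.hub 3150),
    .weyl 5 0 (.hub 3154),
    .weyl 6 0 (.hub 3520),
    .weyl 5 0 (.hub 3521)]

theorem trees4_3_ok : allOK tab simples patterns 3423 trees4_3 = true :=
  Fast.allOK_of_fast (by decide +kernel)

/-- Trees from index 3523. -/
def trees4_4 : List Tree := [
    .weyl 4 0 (.hub 3522),
    .weyl 3 0 (.hub 3523),
    .weyl 1 0 (.hub 3524),
    .weyl 2 0 (.hub 3525),
    .weyl 0 0 (.hub 3526),
    .weyl 3 0 (.hub 3527),
    .weyl 4 0 (.hub 3528),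
    .weyl 5 0 (.hub 3529),
    .weyl 6 0 (.hub 3530),
    .weyl 7 0 (.hub 3531),
    .weyl 6 0 (.hub 3532),
    .weyl 5 0 (.hub 3533),
    .weyl 4 0 (.hub 3534),
    .weyl 3 0 (.hub 3535),
    .weyl 1 0 (.hub 3536),
    .weyl 2 0 (.hub 3537),
    .weyl 0 0 (.hub 3538),
    .weyl 3 0 (.hub 3539),
    .weyl 2 0 (.hub 3540),
    .weyl 4 0 (.hub 3541),
    .weyl 3 0 (.hub 3542),
    .weyl 5 0 (.hub 3543),
    .weyl 4 0 (.hub 3544),
    .weyl 6 0 (.hub 3545),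
    .weyl 5 0 (.hub 3546),
    .weyl 7 0 (.hub 3547),
    .weyl 4 0 (.hub 3195),
    .weyl 5 0 (.hub 3199),
    .weyl 6 0 (.hub 3550),
    .weyl 5 0 (.hub 3551),
    .weyl 4 0 (.hub 3552),
    .weyl 3 0 (.hub 3553),
    .weyl 1 0 (.hub 3554),
    .weyl 2 0 (.hub 3555),
    .weyl 0 0 (.hub 3556),
    .weyl 3 0 (.hub 3557),
    .weyl 4 0 (.hub 3558),
    .weyl 5 0 (.hub 3559),
    .weyl 6 0 (.hub 3560),
    .weyl 7 0 (.hub 3561),
    .weyl 6 0 (.hub 3562),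
    .weyl 5 0 (.hub 3563),
    .weyl 4 0 (.hub 3564),
    .weyl 3 0 (.hub 3565),
    .weyl 1 0 (.hub 3566),
    .weyl 2 0 (.hub 3567),
    .weyl 0 0 (.hub 3568),
    .weyl 3 0 (.hub 3569),
    .weyl 2 0 (.hub 3570),
    .weyl 4 0 (.hub 3571),
    .weyl 3 0 (.hub 3572),
    .weyl 5 0 (.hub 3573),
    .weyl 4 0 (.hub 3574),
    .weyl 6 0 (.hub 3575),
    .weyl 5 0 (.hub 3576),
    .weyl 7 0 (.hub 3577),
    .weyl 4 0 (.hub 3241),
    .weyl 4 0 (.hub 3244),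
    .weyl 7 0 (.hub 3580),
    tree3582,
    .weyl 4 0 (.hub 3248),
    .weyl 6 0 (.hub 3583),
    .weyl 7 0 (.hub 3584),
    .weyl 4 0 (.hub 3253),
    .weyl 1 0 (.hub 3517),
    .weyl 2 0 (.hub 3587),
    .weyl 4 0 (.hub 3267),
    .weyl 1 0 (.hub 3543),
    .weyl 5 0 (.hub 3590),
    .weyl 4 0 (.hub 3591),
    .weyl 6 0 (.hub 3592),
    .weyl 5 0 (.hub 3593),
    .weyl 7 0 (.hub 3594),
    .weyl 4 0 (.hub 3287),
    .weyl 1 0 (.hub 3573),
    .weyl 5 0 (.hub 3597),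
    .weyl 4 0 (.hub 3598),
    .weyl 6 0 (.hub 3599),
    .weyl 5 0 (.hub 3600),
    .weyl 7 0 (.hub 3601),
    .weyl 4 0 (.hub 3307),
    .weyl 4 0 (.hub 3310),
    .weyl 7 0 (.hub 3604),
    .weyl 6 0 (.hub 41),
    .weyl 7 0 (.hub 3606),
    .weyl 3 0 (.hub 3316),
    .weyl 4 0 (.hub 3608),
    .weyl 3 0 (.hub 3317),
    .weyl 0 0 (.hub 2649),
    .weyl 0 0 (.hub 2652),
    .weyl 0 0 (.hub 2654),
    .weyl 3 0 (.hub 3321),
    .weyl 1 0 (.hub 3322),
    .weyl 7 0 (.hub 3615),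
    .weyl 6 0 (.hub 3616),
    .weyl 5 0 (.hub 3617),
    .weyl 4 0 (.hub 3618),
    .weyl 3 0 (.hub 3619),
    .weyl 1 0 (.hub 3620),
    .weyl 3 0 (.hub 3329)]

theorem trees4_4_ok : allOK tab simples patterns 3523 trees4_4 = true :=
  Fast.allOK_of_fast (by decide +kernel)

/-- Trees from index 3623. -/
def trees4_5 : List Tree := [
    .weyl 3 0 (.hub 3330),
    .weyl 2 0 (.hub 2512),
    .weyl 0 0 (.hub 3624),
    .weyl 6 0 (.hub 3625),
    .weyl 5 0 (.hub 3626),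
    .weyl 4 0 (.hub 3627),
    .weyl 3 0 (.hub 3628),
    .weyl 2 0 (.hub 3629),
    .weyl 7 0 (.hub 3630),
    .weyl 6 0 (.hub 3631),
    .weyl 5 0 (.hub 3632),
    .weyl 4 0 (.hub 3633),
    .weyl 3 0 (.hub 3332),
    .weyl 4 0 (.hub 3623),
    .weyl 3 0 (.hub 3334),
    .weyl 3 0 (.hub 2549),
    .weyl 4 0 (.hub 3638),
    .weyl 1 0 (.hub 2670),
    .weyl 6 0 (.hub 3640),
    .weyl 5 0 (.hub 3641),
    .weyl 4 0 (.hub 3642),
    .weyl 3 0 (.hub 3643),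
    .weyl 1 0 (.hub 3644),
    .weyl 2 0 (.hub 3645),
    .weyl 0 0 (.hub 3646),
    .weyl 3 0 (.hub 3647),
    .weyl 2 0 (.hub 3648),
    .weyl 4 0 (.hub 3649),
    .weyl 3 0 (.hub 3650),
    .weyl 1 0 (.hub 3651),
    .weyl 5 0 (.hub 3652),
    .weyl 4 0 (.hub 3653),
    .weyl 3 0 (.hub 3654),
    .weyl 6 0 (.hub 3655),
    .weyl 5 0 (.hub 3656),
    .weyl 4 0 (.hub 3657),
    .weyl 7 0 (.hub 3658),
    .weyl 6 0 (.hub 3659),
    .weyl 5 0 (.hub 3660),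
    .weyl 4 0 (.hub 3661),
    .weyl 3 0 (.hub 3662),
    .weyl 1 0 (.hub 3663),
    .weyl 6 0 (.hub 1924),
    .weyl 7 0 (.hub 3665),
    .weyl 1 0 (.hub 3338),
    .weyl 5 0 (.hub 3667),
    .weyl 6 0 (.hub 3668),
    .weyl 7 0 (.hub 3669),
    .weyl 6 0 (.hub 3670),
    .weyl 5 0 (.hub 3671),
    .weyl 4 0 (.hub 3672),
    .weyl 3 0 (.hub 3673),
    .weyl 1 0 (.hub 3674),
    .weyl 3 0 (.hub 3347),
    .weyl 4 0 (.hub 3348),
    .weyl 6 0 (.hub 3677),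
    .weyl 5 0 (.hub 3678),
    .weyl 4 0 (.hub 3679),
    .weyl 3 0 (.hub 3680),
    .weyl 1 0 (.hub 3681),
    .weyl 2 0 (.hub 3682),
    .weyl 0 0 (.hub 3683),
    .weyl 3 0 (.hub 3684),
    .weyl 4 0 (.hub 3685),
    .weyl 5 0 (.hub 3686),
    .weyl 6 0 (.hub 3687),
    .weyl 7 0 (.hub 3688),
    .weyl 6 0 (.hub 3689),
    .weyl 5 0 (.hub 3690),
    .weyl 4 0 (.hub 3691),
    .weyl 3 0 (.hub 3692),
    .weyl 1 0 (.hub 3693),
    .weyl 2 0 (.hub 3694),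
    .weyl 0 0 (.hub 3695),
    .weyl 3 0 (.hub 3696),
    .weyl 2 0 (.hub 3697),
    .weyl 4 0 (.hub 3698),
    .weyl 3 0 (.hub 3699),
    .weyl 5 0 (.hub 3700),
    .weyl 4 0 (.hub 3701),
    .weyl 6 0 (.hub 3702),
    .weyl 5 0 (.hub 3703),
    .weyl 7 0 (.hub 3704),
    .weyl 3 0 (.hub 3377),
    .weyl 4 0 (.hub 3378),
    .weyl 6 0 (.hub 3707),
    .weyl 5 0 (.hub 3708),
    .weyl 4 0 (.hub 3709),
    .weyl 3 0 (.hub 3710),
    .weyl 1 0 (.hub 3711),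
    .weyl 2 0 (.hub 3712),
    .weyl 0 0 (.hub 3713),
    .weyl 3 0 (.hub 3714),
    .weyl 4 0 (.hub 3715),
    .weyl 5 0 (.hub 3716),
    .weyl 6 0 (.hub 3717),
    .weyl 7 0 (.hub 3718),
    .weyl 6 0 (.hub 3719),
    .weyl 5 0 (.hub 3720),
    .weyl 4 0 (.hub 3721)]

theorem trees4_5_ok : allOK tab simples patterns 3623 trees4_5 = true :=
  Fast.allOK_of_fast (by decide +kernel)

/-- Trees from index 3723. -/
def trees4_6 : List Tree := [
    .weyl 3 0 (.hub 3722),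
    .weyl 1 0 (.hub 3723),
    .weyl 2 0 (.hub 3724),
    .weyl 0 0 (.hub 3725),
    .weyl 3 0 (.hub 3726),
    .weyl 2 0 (.hub 3727),
    .weyl 4 0 (.hub 3728),
    .weyl 3 0 (.hub 3729),
    .weyl 5 0 (.hub 3730),
    .weyl 4 0 (.hub 3731),
    .weyl 6 0 (.hub 3732),
    .weyl 5 0 (.hub 3733),
    .weyl 7 0 (.hub 3734),
    .weyl 3 0 (.hub 3407),
    .weyl 3 0 (.hub 3410),
    .weyl 6 0 (.hub 3737),
    .weyl 5 0 (.hub 3738),
    .weyl 7 0 (.hub 3739),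
    tree3741,
    .weyl 0 0 (.hub 3127),
    .weyl 3 0 (.hub 3742),
    .weyl 4 0 (.hub 3743),
    .weyl 5 0 (.hub 3744),
    .weyl 6 0 (.hub 3745),
    .weyl 7 0 (.hub 3746),
    .weyl 3 0 (.hub 3421),
    .weyl 0 0 (.hub 3135),
    .weyl 3 0 (.hub 3423),
    .weyl 2 0 (.hub 3154),
    .weyl 6 0 (.hub 3751),
    .weyl 5 0 (.hub 3752),
    .weyl 4 0 (.hub 3753),
    .weyl 3 0 (.hub 3754),
    .weyl 1 0 (.hub 3755),
    .weyl 2 0 (.hub 3756),
    .weyl 0 0 (.hub 3757),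
    .weyl 3 0 (.hub 3758),
    .weyl 4 0 (.hub 3759),
    .weyl 5 0 (.hub 3760),
    .weyl 6 0 (.hub 3761),
    .weyl 7 0 (.hub 3762),
    .weyl 6 0 (.hub 3763),
    .weyl 5 0 (.hub 3764),
    .weyl 4 0 (.hub 3765),
    .weyl 3 0 (.hub 3766),
    .weyl 1 0 (.hub 3767),
    .weyl 2 0 (.hub 3768),
    .weyl 0 0 (.hub 3769),
    .weyl 3 0 (.hub 3770),
    .weyl 2 0 (.hub 3771),
    .weyl 4 0 (.hub 3772),
    .weyl 3 0 (.hub 3773),
    .weyl 5 0 (.hub 3774),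
    .weyl 4 0 (.hub 3775),
    .weyl 6 0 (.hub 3776),
    .weyl 5 0 (.hub 3777),
    .weyl 7 0 (.hub 3778),
    .weyl 0 0 (.hub 3188),
    .weyl 3 0 (.hub 3780),
    .weyl 4 0 (.hub 3781),
    .weyl 5 0 (.hub 3782),
    .weyl 6 0 (.hub 3783),
    .weyl 7 0 (.hub 3784),
    .weyl 6 0 (.hub 3785),
    .weyl 5 0 (.hub 3786),
    .weyl 2 0 (.hub 3199),
    .weyl 6 0 (.hub 3788),
    .weyl 5 0 (.hub 3789),
    .weyl 4 0 (.hub 3790),
    .weyl 3 0 (.hub 3791),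
    .weyl 1 0 (.hub 3792),
    .weyl 2 0 (.hub 3793),
    .weyl 0 0 (.hub 3794),
    .weyl 3 0 (.hub 3795),
    .weyl 4 0 (.hub 3796),
    .weyl 5 0 (.hub 3797),
    .weyl 6 0 (.hub 3798),
    .weyl 7 0 (.hub 3799),
    .weyl 6 0 (.hub 3800),
    .weyl 5 0 (.hub 3801),
    .weyl 4 0 (.hub 3802),
    .weyl 3 0 (.hub 3803),
    .weyl 1 0 (.hub 3804),
    .weyl 2 0 (.hub 3805),
    .weyl 0 0 (.hub 3806),
    .weyl 3 0 (.hub 3807),
    .weyl 2 0 (.hub 3808),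
    .weyl 4 0 (.hub 3809),
    .weyl 3 0 (.hub 3810),
    .weyl 5 0 (.hub 3811),
    .weyl 4 0 (.hub 3812),
    .weyl 6 0 (.hub 3813),
    .weyl 5 0 (.hub 3814),
    .weyl 7 0 (.hub 3815),
    .weyl 0 0 (.hub 3234),
    .weyl 3 0 (.hub 3817),
    .weyl 4 0 (.hub 3818),
    .weyl 5 0 (.hub 3819),
    .weyl 6 0 (.hub 3820),
    .weyl 7 0 (.hub 3821)]

theorem trees4_6_ok : allOK tab simples patterns 3723 trees4_6 = true :=
  Fast.allOK_of_fast (by decide +kernel)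

/-- Trees from index 3823. -/
def trees4_7 : List Tree := [
    .weyl 6 0 (.hub 3822),
    .weyl 5 0 (.hub 3823),
    .weyl 3 0 (.hub 3500),
    .weyl 6 0 (.hub 3825),
    .weyl 5 0 (.hub 3826),
    .weyl 7 0 (.hub 3827),
    .weyl 4 0 (.hub 3745),
    .weyl 6 0 (.hub 3829),
    .weyl 7 0 (.hub 3830),
    .weyl 4 0 (.hub 3748),
    .weyl 2 0 (.hub 3509),
    .weyl 4 0 (.hub 3833),
    .weyl 5 0 (.hub 3834),
    .weyl 6 0 (.hub 3835),
    .weyl 7 0 (.hub 3836),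
    .weyl 6 0 (.hub 3837),
    .weyl 5 0 (.hub 3838),
    .weyl 4 0 (.hub 3839),
    .weyl 3 0 (.hub 3840),
    .weyl 2 0 (.hub 3841),
    .weyl 3 0 (.hub 3519),
    .weyl 5 0 (.hub 3751),
    .weyl 6 0 (.hub 3844),
    .weyl 5 0 (.hub 3845),
    .weyl 4 0 (.hub 3846),
    .weyl 3 0 (.hub 3847),
    .weyl 1 0 (.hub 3848),
    .weyl 2 0 (.hub 3849),
    .weyl 0 0 (.hub 3850),
    .weyl 3 0 (.hub 3851),
    .weyl 4 0 (.hub 3852),
    .weyl 5 0 (.hub 3853),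
    .weyl 6 0 (.hub 3854),
    .weyl 7 0 (.hub 3855),
    .weyl 6 0 (.hub 3856),
    .weyl 5 0 (.hub 3857),
    .weyl 4 0 (.hub 3858),
    .weyl 3 0 (.hub 3859),
    .weyl 1 0 (.hub 3860),
    .weyl 2 0 (.hub 3861),
    .weyl 0 0 (.hub 3862),
    .weyl 3 0 (.hub 3863),
    .weyl 2 0 (.hub 3864),
    .weyl 4 0 (.hub 3865),
    .weyl 3 0 (.hub 3866),
    .weyl 5 0 (.hub 3867),
    .weyl 4 0 (.hub 3868),
    .weyl 6 0 (.hub 3869),
    .weyl 5 0 (.hub 3870),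
    .weyl 7 0 (.hub 3871),
    .weyl 4 0 (.hub 3787),
    .weyl 0 0 (.hub 3788),
    .weyl 6 0 (.hub 3874),
    .weyl 5 0 (.hub 3875),
    .weyl 4 0 (.hub 3876),
    .weyl 3 0 (.hub 3877),
    .weyl 1 0 (.hub 3878),
    .weyl 2 0 (.hub 3879),
    .weyl 0 0 (.hub 3880),
    .weyl 3 0 (.hub 3881),
    .weyl 4 0 (.hub 3882),
    .weyl 5 0 (.hub 3883),
    .weyl 6 0 (.hub 3884),
    .weyl 7 0 (.hub 3885),
    .weyl 6 0 (.hub 3886),
    .weyl 5 0 (.hub 3887),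
    .weyl 4 0 (.hub 3888),
    .weyl 3 0 (.hub 3889),
    .weyl 1 0 (.hub 3890),
    .weyl 2 0 (.hub 3891),
    .weyl 0 0 (.hub 3892),
    .weyl 3 0 (.hub 3893),
    .weyl 2 0 (.hub 3894),
    .weyl 4 0 (.hub 3895),
    .weyl 3 0 (.hub 3896),
    .weyl 5 0 (.hub 3897),
    .weyl 4 0 (.hub 3898),
    .weyl 6 0 (.hub 3899),
    .weyl 5 0 (.hub 3900),
    .weyl 7 0 (.hub 3901),
    .weyl 4 0 (.hub 3824),
    .weyl 4 0 (.hub 3827),
    .weyl 7 0 (.hub 3904),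
    tree3906,
    .weyl 3 0 (.hub 3583),
    .weyl 6 0 (.hub 3907),
    .weyl 7 0 (.hub 3908),
    .weyl 3 0 (.hub 3588),
    .weyl 4 0 (.hub 3910),
    .weyl 0 0 (.hub 3260),
    .weyl 3 0 (.hub 3912),
    .weyl 4 0 (.hub 3913),
    .weyl 5 0 (.hub 3914),
    .weyl 6 0 (.hub 3915),
    .weyl 7 0 (.hub 3916),
    .weyl 6 0 (.hub 3917),
    .weyl 5 0 (.hub 3918),
    .weyl 4 0 (.hub 3919),
    .weyl 3 0 (.hub 3920),
    .weyl 1 0 (.hub 3921)]

theorem trees4_7_ok : allOK tab simples patterns 3823 trees4_7 = true :=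
  Fast.allOK_of_fast (by decide +kernel)

/-- Trees from index 3923. -/
def trees4_8 : List Tree := [
    .weyl 3 0 (.hub 3589),
    .weyl 3 0 (.hub 3592),
    .weyl 6 0 (.hub 3924),
    .weyl 5 0 (.hub 3925),
    .weyl 7 0 (.hub 3926),
    .weyl 3 0 (.hub 3596),
    .weyl 3 0 (.hub 3599),
    .weyl 6 0 (.hub 3929),
    .weyl 5 0 (.hub 3930),
    .weyl 7 0 (.hub 3931),
    .weyl 3 0 (.hub 3603),
    .weyl 4 0 (.hub 3931),
    .weyl 7 0 (.hub 3934)]

theorem trees4_8_ok : allOK tab simples patterns 3923 trees4_8 = true :=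
  Fast.allOK_of_fast (by decide +kernel)

/-- Trees from index 3123. -/
def part4 : List Tree := trees4_0 ++ trees4_1 ++ trees4_2 ++ trees4_3 ++ trees4_4 ++ trees4_5 ++ trees4_6 ++ trees4_7 ++ trees4_8

theorem part4_ok : allOK tab simples patterns 3123 part4 = true :=
  (allOK_append _ _ 3123 3923 (allOK_append _ _ 3123 3823 (allOK_append _ _ 3123 3723 (allOK_append _ _ 3123 3623 (allOK_append _ _ 3123 3523 (allOK_append _ _ 3123 3423 (allOK_append _ _ 3123 3323 (allOK_append _ _ 3123 3223 trees4_0_ok (by decide +kernel) trees4_1_ok) (by decide +kernel) trees4_2_ok) (by decide +kernel) trees4_3_ok) (by decide +kernel) trees4_4_ok) (by decide +kernel) trees4_5_ok) (by decide +kernel) trees4_6_ok) (by decide +kernel) trees4_7_ok) (by decide +kernel) trees4_8_ok)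

theorem part4_length : part4.length = 813 := by decide +kernel

end CfsgLib.OutAut.InvCheck.E8
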